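import Cfsg.Agent.EqLemmas
import Mathlib

/-!
# Orbits of quadratic functions in characteristic two
`card_orbit_bound` : a quadratic function on `F^n` with non-zero polar form has at least
`(q^n - 1)(q^n - q) / (2 (q + 1))` transforms under `GL_n`.
-/

set_option autoImplicit false

open Matrix

namespace Cfsg.Agent.SpWeil

variable {n : ℕ} {F : Type*} [Field F]

theorem exists_gl_two {u v u' v' : Fin n → F} (h : LinearIndependent F ![u, v])
    (h' : LinearIndependent F ![u', v']) :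
    ∃ A : GL (Fin n) F, A.1 *ᵥ u = u' ∧ A.1 *ᵥ v = v' := by
  let e := h.linearCombinationEquiv.symm ≪≫ₗ h'.linearCombinationEquiv
  have : FiniteDimensional F (Submodule.span F (Set.range ![u, v])) :=
    FiniteDimensional.span_of_finite F (Set.finite_range _)
  obtain ⟨g, hg⟩ := Submodule.exists_linearEquiv_restrict_eq e
  refine ⟨⟨LinearMap.toMatrix' g.toLinearMap, LinearMap.toMatrix' g.symm.toLinearMap,
    by rw [← LinearMap.toMatrix'_comp]; simp, by rw [← LinearMap.toMatrix'_comp]; simp⟩, ?_, ?_⟩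
  · have := hg ⟨u, Submodule.subset_span ⟨0, rfl⟩⟩
    have hu : h.linearCombinationEquiv (Finsupp.single 0 1) = ⟨u, Submodule.subset_span ⟨0, rfl⟩⟩ :=
      Subtype.ext (by simp)
    rw [← hu] at this
    simp [e] at this
    simpa using this.symm
  · have := hg ⟨v, Submodule.subset_span ⟨1, rfl⟩⟩
    have hv : h.linearCombinationEquiv (Finsupp.single 1 1) = ⟨v, Submodule.subset_span ⟨1, rfl⟩⟩ :=
      Subtype.ext (by simp)
    rw [← hv] at this
    simp [e] at this
    simpa using this.symm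

/-- A quadratic function with its polar form. -/
structure QuadFun (n : ℕ) (F : Type*) [Field F] where
  /-- the function -/
  Q : (Fin n → F) → F
  /-- its polar form -/
  β : (Fin n → F) →ₗ[F] (Fin n → F) →ₗ[F] F
  map_add : ∀ u v, Q (u + v) = Q u + Q v + β u v
  map_smul : ∀ (t : F) u, Q (t • u) = t ^ 2 * Q u
  alt : ∀ u, β u u = 0

namespace QuadFun

variable (S : QuadFun n F)

theorem comm (u v : Fin n → F) : S.β u v = S.β v u := by
  have h1 := S.map_add u v
  have h2 := S.map_add v u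
  rw [add_comm v u, h1] at h2
  linear_combination h2

/-- The set of transforms. -/
def orbit : Set ((Fin n → F) → F) := Set.range fun (A : GL (Fin n) F) x => S.Q (A.1 *ᵥ x)

theorem linearIndependent_pair {u v : Fin n → F} (h : S.β u v ≠ 0) :
    LinearIndependent F ![u, v] := by
  rw [LinearIndependent.pair_iff]
  intro s t hst
  have h1 := congrArg (fun z => S.β z v) hst
  have h2 := congrArg (fun z => S.β u z) hst
  simp only [_root_.map_add, LinearMap.add_apply, _root_.map_smul, LinearMap.smul_apply, smul_eq_mul, S.alt,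
    mul_zero, add_zero, zero_add, map_zero, LinearMap.zero_apply] at h1 h2
  exact ⟨(mul_eq_zero.1 h1).resolve_right h, (mul_eq_zero.1 h2).resolve_right h⟩

/-- The invariants separating enough transforms when every triple occurs. -/
theorem card_big [Fintype F] (hn : 2 ≤ n)
    (hall : ∀ a c b : F, b ≠ 0 → ∃ u v, S.Q u = a ∧ S.Q v = c ∧ S.β u v = b) :
    Fintype.card F * Fintype.card F * (Fintype.card F - 1) *
      (Fintype.card F ^ (n - 2) * Fintype.card F ^ (n - 2)) ≤ Nat.card S.orbit := by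
  classical
  let i : Fin n := ⟨0, by omega⟩
  let j : Fin n := ⟨1, by omega⟩
  have hij : i ≠ j := by simp [i, j]
  let K := {k : Fin n // k ≠ i ∧ k ≠ j}
  let pol : ((Fin n → F) → F) → (Fin n → F) → (Fin n → F) → F :=
    fun G x y => G (x + y) - G x - G y
  have hK : Fintype.card K = n - 2 := by
    have : Fintype.card K = (Finset.univ \ {i, j} : Finset (Fin n)).card := by
      rw [Fintype.card_subtype]
      congr 1
      ext k
      simp
    rw [this, Finset.card_sdiff, Finset.card_univ, Fintype.card_fin,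
      Finset.inter_univ, Finset.card_pair hij]
  have hsurj : ∀ p : (F × F × {b : F // b ≠ 0}) × ((K → F) × (K → F)), ∃ G : S.orbit,
      (G.1 (Pi.single i 1) = p.1.1 ∧ G.1 (Pi.single j 1) = p.1.2.1 ∧
        pol G.1 (Pi.single i 1) (Pi.single j 1) = p.1.2.2.1) ∧
      (∀ k : K, pol G.1 (Pi.single i 1) (Pi.single k.1 1) = p.2.1 k) ∧
      (∀ k : K, pol G.1 (Pi.single j 1) (Pi.single k.1 1) = p.2.2 k) := by
    rintro ⟨⟨a, c, b, hb⟩, p, r⟩
    obtain ⟨u, v, hu, hv, huv⟩ := hall a c b hb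
    obtain ⟨A, hAi, hAj⟩ := exists_gl_two (u := (Pi.single i 1 : Fin n → F))
      (v := Pi.single j 1) (LinearIndependent.pair_iff.2 fun s t hst => by
        have h1 := congrFun hst i
        have h2 := congrFun hst j
        simp [hij, hij.symm] at h1 h2
        exact ⟨h1, h2⟩) (S.linearIndependent_pair (huv ▸ hb))
    let γ : Fin n → F := fun k => if h : k ≠ i ∧ k ≠ j then
      (p ⟨k, h⟩ - S.β u (A.1 *ᵥ Pi.single k 1)) / b else 0
    let α : Fin n → F := fun k => if h : k ≠ i ∧ k ≠ j then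
      (r ⟨k, h⟩ - S.β v (A.1 *ᵥ Pi.single k 1)) / b else 0
    let N := Matrix.vecMulVec (Pi.single i 1) α + Matrix.vecMulVec (Pi.single j 1) γ
    have hNN : N * N = 0 := by
      simp [N, Matrix.mul_add, Matrix.add_mul, Matrix.vecMulVec_mul_vecMulVec, α, γ]
    let C : GL (Fin n) F := ⟨1 + N, 1 - N, by
      rw [Matrix.mul_sub, Matrix.mul_one, Matrix.add_mul, Matrix.one_mul, hNN]; simp, by
      rw [Matrix.mul_add, Matrix.mul_one, Matrix.sub_mul, Matrix.one_mul, hNN]; simp⟩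
    have hG : ∀ x, ((A * C).1 *ᵥ x) = A.1 *ᵥ x + (α ⬝ᵥ x) • u + (γ ⬝ᵥ x) • v := fun x => by
      rw [Units.val_mul, ← Matrix.mulVec_mulVec]
      show A.1 *ᵥ ((1 + N) *ᵥ x) = _
      simp only [N, Matrix.add_mulVec, Matrix.one_mulVec, Matrix.vecMulVec_mulVec,
        op_smul_eq_smul, Matrix.mulVec_add, Matrix.mulVec_smul, hAi, hAj, add_assoc]
    refine ⟨⟨_, A * C, rfl⟩, ?_⟩
    have hp : ∀ x y, pol (fun x => S.Q ((A * C).1 *ᵥ x)) x y =
        S.β ((A * C).1 *ᵥ x) ((A * C).1 *ᵥ y) := fun x y => by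
      simp only [pol, Matrix.mulVec_add, S.map_add]
      ring
    have hi : (A * C).1 *ᵥ Pi.single i 1 = u := by
      rw [hG, hAi]; simp [α, γ]
    have hj : (A * C).1 *ᵥ Pi.single j 1 = v := by
      rw [hG, hAj]; simp [α, γ]
    refine ⟨⟨?_, ?_, ?_⟩, fun k => ?_, fun k => ?_⟩
    · show S.Q ((A * C).1 *ᵥ _) = a
      rw [hi, hu]
    · show S.Q ((A * C).1 *ᵥ _) = c
      rw [hj, hv]
    · rw [hp, hi, hj, huv]
    · rw [hp, hi, hG]
      simp [α, γ, k.2.1, k.2.2, S.alt, huv, hb]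
    · rw [hp, hj, hG]
      simp [α, γ, k.2.1, k.2.2, S.alt, S.comm v u, huv, hb]
  choose φ hφ using hsurj
  have hinj : Function.Injective φ := by
    rintro ⟨⟨a, c, b⟩, p, r⟩ ⟨⟨a', c', b'⟩, p', r'⟩ h
    obtain ⟨⟨h1, h2, h3⟩, h4, h5⟩ := hφ ⟨⟨a, c, b⟩, p, r⟩
    obtain ⟨⟨g1, g2, g3⟩, g4, g5⟩ := hφ ⟨⟨a', c', b'⟩, p', r'⟩
    rw [h] at h1 h2 h3 h4 h5
    obtain rfl : a = a' := h1.symm.trans g1
    obtain rfl : c = c' := h2.symm.trans g2
    obtain rfl : b = b' := Subtype.ext (h3.symm.trans g3)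
    obtain rfl : p = p' := funext fun k => (h4 k).symm.trans (g4 k)
    obtain rfl : r = r' := funext fun k => (h5 k).symm.trans (g5 k)
    rfl
  refine le_of_eq_of_le ?_ (Nat.card_le_card_of_injective φ hinj)
  simp only [Nat.card_eq_fintype_card, Fintype.card_prod, Fintype.card_fun, hK,
    Fintype.card_subtype_compl, Fintype.card_subtype_eq, ← mul_assoc]

/-- The value of a binary form. -/
def bin (a b c : F) (r : F × F) : F := a * r.1 ^ 2 + b * (r.1 * r.2) + c * r.2 ^ 2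

theorem card_fibre [Fintype F] [DecidableEq F] [CharP F 2] {a b : F} (ha : a ≠ 0) (hb : b ≠ 0) (c : F) :
    ((Finset.univ : Finset ((F × F) × (F × F))).filter fun p =>
      bin a b c p.1 = a ∧ bin a b c p.2 = c ∧ p.1.1 * p.2.2 - p.1.2 * p.2.1 = 1).card ≤
      2 * (Fintype.card F + 1) := by
  classical
  set s := (Finset.univ : Finset ((F × F) × (F × F))).filter fun p =>
      bin a b c p.1 = a ∧ bin a b c p.2 = c ∧ p.1.1 * p.2.2 - p.1.2 * p.2.1 = 1
  let line : ((F × F) × (F × F)) → Option F := fun p =>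
    if p.1.2 = 0 then none else some (p.1.1 / p.1.2)
  have hfib : ∀ o : Option F, (s.filter fun p => line p = o).card ≤ 2 := by
    intro o
    by_contra! hlt
    obtain ⟨⟨r, x⟩, hx, ⟨r', y⟩, hy, ⟨r'', z⟩, hz, hxy, hxz, hyz⟩ := Finset.two_lt_card.1 hlt
    simp only [s, Finset.mem_filter, Finset.mem_univ, true_and] at hx hy hz
    have sq : ∀ t : F, t ^ 2 = 1 → t = 1 := fun t ht => by
      rcases sq_eq_one_iff.1 ht with h | h
      · exact h
      · rw [h, CharTwo.neg_eq]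
    have rr : ∀ p p' : F × F, bin a b c p = a → bin a b c p' = a →
        (if p.2 = 0 then none else some (p.1 / p.2)) =
          (if p'.2 = 0 then none else some (p'.1 / p'.2)) → p = p' := by
      intro p p' hp hp' hl
      by_cases h2 : p.2 = 0 <;> by_cases h2' : p'.2 = 0 <;> simp [h2, h2'] at hl
      · have e1 : p.1 ^ 2 = 1 := mul_left_cancel₀ ha (by simpa [bin, h2] using hp)
        have e2 : p'.1 ^ 2 = 1 := mul_left_cancel₀ ha (by simpa [bin, h2'] using hp')
        exact Prod.ext ((sq _ e1).trans (sq _ e2).symm) (h2.trans h2'.symm)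
      · have hs : p.1 * p'.2 = p'.1 * p.2 := by
          field_simp at hl
          linear_combination hl
        have key : (p'.2 / p.2) ^ 2 * bin a b c p = bin a b c p' := by
          simp only [bin]
          field_simp
          linear_combination (a * (p.1 * p'.2 + p'.1 * p.2) + b * p.2 * p'.2) * hs
        rw [hp, hp'] at key
        have ht := sq _ (mul_right_cancel₀ ha (key.trans (one_mul a).symm))
        rw [div_eq_one_iff_eq h2] at ht
        exact Prod.ext (mul_right_cancel₀ h2 (by linear_combination hs - p.1 * ht)) ht.symm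
    obtain rfl : r = r' := rr _ _ hx.1.1 hy.1.1 (hx.2.trans hy.2.symm)
    obtain rfl : r = r'' := rr _ _ hx.1.1 hz.1.1 (hx.2.trans hz.2.symm)
    obtain ⟨⟨hr, hx1, hx2⟩, -⟩ := hx
    obtain ⟨⟨-, hy1, hy2⟩, -⟩ := hy
    obtain ⟨⟨-, hz1, hz2⟩, -⟩ := hz
    have hpar : ∀ w : F × F, bin a b c w = c → r.1 * w.2 - r.2 * w.1 = 1 →
        ∃ t : F, (a * t + b) * t = 0 ∧ w = (x.1 + t * r.1, x.2 + t * r.2) := by
      intro w hw1 hw2
      refine ⟨(w.1 - x.1) * x.2 - (w.2 - x.2) * x.1, ?_, ?_⟩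
      · have e : ∀ t : F, bin a b c (x.1 + t * r.1, x.2 + t * r.2) = c + (a * t + b) * t := by
          intro t
          simp only [bin] at hx1 hr ⊢
          linear_combination hx1 + t ^ 2 * hr + b * t * hx2 +
            (a * x.1 * t * r.1 + c * x.2 * t * r.2 + b * t * r.2 * x.1) * CharTwo.two_eq_zero (R := F)
        have := e ((w.1 - x.1) * x.2 - (w.2 - x.2) * x.1)
        rw [show (x.1 + ((w.1 - x.1) * x.2 - (w.2 - x.2) * x.1) * r.1,
          x.2 + ((w.1 - x.1) * x.2 - (w.2 - x.2) * x.1) * r.2) = w from Prod.ext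
            (show _ = w.1 by linear_combination x.1 * (hx2 - hw2) + (w.1 - x.1) * hx2)
            (show _ = w.2 by linear_combination x.2 * (hx2 - hw2) + (w.2 - x.2) * hx2), hw1] at this
        linear_combination -this
      · exact Prod.ext
          (show w.1 = _ by linear_combination -(x.1 * (hx2 - hw2) + (w.1 - x.1) * hx2))
          (show w.2 = _ by linear_combination -(x.2 * (hx2 - hw2) + (w.2 - x.2) * hx2))
    obtain ⟨t, ht, rfl⟩ := hpar y hy1 hy2
    obtain ⟨t', ht', rfl⟩ := hpar z hz1 hz2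
    have t0 : t ≠ 0 := fun h => hxy (by simp [h])
    have t0' : t' ≠ 0 := fun h => hxz (by simp [h])
    refine hyz ?_
    have : t = t' := mul_left_cancel₀ ha
      (by linear_combination (mul_eq_zero.1 ht).resolve_right t0 -
        (mul_eq_zero.1 ht').resolve_right t0')
    rw [this]
  calc s.card ≤ 2 * (Finset.univ : Finset (Option F)).card :=
        Finset.card_le_mul_card_image_of_maps_to (fun _ _ => Finset.mem_univ _) 2 fun o _ => hfib o
    _ = _ := by rw [Finset.card_univ, Fintype.card_option]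

theorem card_small [Fintype F] [CharP F 2] {u v : Fin n → F} (hu : S.Q u ≠ 0) (huv : S.β u v ≠ 0)
    (hrad : ∀ w, S.β u w = 0 → S.β v w = 0 → S.Q w = 0) :
    (Fintype.card F ^ n - 1) * (Fintype.card F ^ n - Fintype.card F) ≤
      2 * (Fintype.card F + 1) * Nat.card S.orbit := by
  classical
  set b := S.β u v with hb
  set a := S.Q u
  set c := S.Q v
  let m₁ : Fin n → F := fun k => b⁻¹ * S.β (Pi.single k 1) v
  let m₂ : Fin n → F := fun k => b⁻¹ * S.β u (Pi.single k 1)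
  have hdot : ∀ (φ : (Fin n → F) →ₗ[F] F) x, (fun k => φ (Pi.single k 1)) ⬝ᵥ x = φ x := fun φ x => by
    conv_rhs => rw [pi_eq_sum_univ' x, map_sum]
    simp [dotProduct, mul_comm]
  have hm₁ : ∀ x, m₁ ⬝ᵥ x = b⁻¹ * S.β x v := fun x => by
    have := hdot ((b⁻¹ • S.β.flip v)) x
    simpa [m₁] using this
  have hm₂ : ∀ x, m₂ ⬝ᵥ x = b⁻¹ * S.β u x := fun x => by
    have := hdot ((b⁻¹ • S.β u)) x
    simpa [m₂] using this
  have hQ : ∀ x, S.Q x = bin a b c (m₁ ⬝ᵥ x, m₂ ⬝ᵥ x) := fun x => by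
    set s := m₁ ⬝ᵥ x with hs
    set t := m₂ ⬝ᵥ x with ht
    set w := x - (s • u + t • v) with hw
    have e1 : S.β u w = 0 := by
      simp only [hw, map_sub, _root_.map_add, _root_.map_smul, S.alt, smul_eq_mul, mul_zero, zero_add, ← hb]
      rw [ht, hm₂]
      field_simp
      ring
    have e2 : S.β v w = 0 := by
      simp only [hw, map_sub, _root_.map_add, _root_.map_smul, S.alt, smul_eq_mul, mul_zero, add_zero,
        S.comm v u, ← hb, S.comm v x]
      rw [hs, hm₁]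
      field_simp
      ring
    have hx : x = (s • u + t • v) + w := by simp [hw]
    conv_lhs => rw [hx]
    rw [S.map_add, hrad w e1 e2, S.map_add, S.map_smul, S.map_smul]
    simp only [_root_.map_add, LinearMap.add_apply, _root_.map_smul, LinearMap.smul_apply, smul_eq_mul, e1, e2,
      ← hb, bin, a, c]
    ring
  let P := {p : Fin 2 → (Fin n → F) // LinearIndependent F p}
  have hind : LinearIndependent F ![m₁, m₂] := by
    rw [LinearIndependent.pair_iff]
    intro s t hst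
    have h1 := congrArg (fun z => z ⬝ᵥ u) hst
    have h2 := congrArg (fun z => z ⬝ᵥ v) hst
    simp only [add_dotProduct, smul_dotProduct, hm₁, hm₂, S.alt, ← hb, smul_eq_mul, mul_zero,
      zero_dotProduct, add_zero, zero_add, inv_mul_cancel₀ huv, mul_one] at h1 h2
    exact ⟨h1, h2⟩
  let G : P → (Fin n → F) → F := fun p x => bin a b c (p.1 0 ⬝ᵥ x, p.1 1 ⬝ᵥ x)
  have hmem : ∀ p : P, G p ∈ S.orbit := fun p => by
    obtain ⟨A, h1, h2⟩ := exists_gl_two hind
      (u' := p.1 0) (v' := p.1 1) (by convert p.2; ext i; fin_cases i <;> rfl)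
    refine ⟨⟨A.1ᵀ, (A⁻¹).1ᵀ, by rw [← Matrix.transpose_mul, Units.inv_mul, Matrix.transpose_one],
      by rw [← Matrix.transpose_mul, Units.mul_inv, Matrix.transpose_one]⟩, funext fun x => ?_⟩
    show S.Q (A.1ᵀ *ᵥ x) = _
    simp only [hQ, Matrix.dotProduct_mulVec, Matrix.vecMul_transpose, h1, h2, G]
  let φ : P → S.orbit := fun p => ⟨G p, hmem p⟩
  have hP : Nat.card P = (Fintype.card F ^ n - 1) * (Fintype.card F ^ n - Fintype.card F) := by
    rw [card_linearIndependent (K := F) (V := Fin n → F) (k := 2)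
      (by rw [Module.finrank_fin_fun]; exact (by simpa using hind.fintype_card_le_finrank))]
    simp [Fin.prod_univ_two, Module.finrank_fin_fun]
  rw [← hP, Nat.card_eq_fintype_card, Nat.card_eq_fintype_card, ← Finset.card_univ,
    ← Finset.card_univ]
  refine Finset.card_le_mul_card_image_of_maps_to (f := φ) (fun _ _ => Finset.mem_univ _) _
    fun o _ => ?_
  rcases (Finset.univ.filter fun p => φ p = o).eq_empty_or_nonempty with he | ⟨p₀, hp₀⟩
  · simp [he]
  obtain ⟨A, hA0, hA1⟩ := exists_gl_two (u' := p₀.1 0) (v' := p₀.1 1) hind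
    (by convert p₀.2; ext i; fin_cases i <;> rfl)
  let x₀ : Fin n → F := (A⁻¹).1ᵀ *ᵥ u
  let y₀ : Fin n → F := (A⁻¹).1ᵀ *ᵥ v
  have hdual : ∀ w z : Fin n → F, (A.1 *ᵥ w) ⬝ᵥ ((A⁻¹).1ᵀ *ᵥ z) = w ⬝ᵥ z := fun w z => by
    rw [Matrix.dotProduct_mulVec, Matrix.vecMul_transpose, Matrix.mulVec_mulVec, Units.inv_mul,
      Matrix.one_mulVec]
  have d00 : p₀.1 0 ⬝ᵥ x₀ = 1 := by rw [← hA0, hdual, hm₁, ← hb, inv_mul_cancel₀ huv]
  have d01 : p₀.1 0 ⬝ᵥ y₀ = 0 := by rw [← hA0, hdual, hm₁, S.alt, mul_zero]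
  have d10 : p₀.1 1 ⬝ᵥ x₀ = 0 := by rw [← hA1, hdual, hm₂, S.alt, mul_zero]
  have d11 : p₀.1 1 ⬝ᵥ y₀ = 1 := by rw [← hA1, hdual, hm₂, ← hb, inv_mul_cancel₀ huv]
  let ev : P → (F × F) × (F × F) := fun p =>
    ((p.1 0 ⬝ᵥ x₀, p.1 1 ⬝ᵥ x₀), (p.1 0 ⬝ᵥ y₀, p.1 1 ⬝ᵥ y₀))
  have hdet : ∀ p : P, G p = G p₀ → ∀ x y,
      (p.1 0 ⬝ᵥ x) * (p.1 1 ⬝ᵥ y) - (p.1 1 ⬝ᵥ x) * (p.1 0 ⬝ᵥ y) =
        (p₀.1 0 ⬝ᵥ x) * (p₀.1 1 ⬝ᵥ y) - (p₀.1 1 ⬝ᵥ x) * (p₀.1 0 ⬝ᵥ y) := by
    intro p hp x y
    have e := congrFun hp (x + y)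
    have ex := congrFun hp x
    have ey := congrFun hp y
    simp only [G, bin, dotProduct_add] at e ex ey
    refine mul_left_cancel₀ huv ?_
    linear_combination e - ex - ey +
      (-(a * (p.1 0 ⬝ᵥ x) * (p.1 0 ⬝ᵥ y)) - c * (p.1 1 ⬝ᵥ x) * (p.1 1 ⬝ᵥ y) -
        b * (p.1 1 ⬝ᵥ x) * (p.1 0 ⬝ᵥ y) + a * (p₀.1 0 ⬝ᵥ x) * (p₀.1 0 ⬝ᵥ y) +
        c * (p₀.1 1 ⬝ᵥ x) * (p₀.1 1 ⬝ᵥ y) + b * (p₀.1 1 ⬝ᵥ x) * (p₀.1 0 ⬝ᵥ y)) *
        CharTwo.two_eq_zero (R := F)
  have hfib : ∀ p ∈ Finset.univ.filter (fun p => φ p = o), G p = G p₀ := fun p hp => by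
    simp only [Finset.mem_filter, Finset.mem_univ, true_and] at hp hp₀
    exact congrArg Subtype.val (hp.trans hp₀.symm)
  refine (Finset.card_le_card_of_injOn ev (t := Finset.univ.filter fun r : (F × F) × (F × F) =>
    bin a b c r.1 = a ∧ bin a b c r.2 = c ∧ r.1.1 * r.2.2 - r.1.2 * r.2.1 = 1) ?_ ?_).trans
    (card_fibre hu huv c)
  · intro p hp
    have h := hfib p hp
    simp only [Finset.coe_filter, Finset.mem_univ, true_and, Set.mem_setOf_eq, ev]
    refine ⟨?_, ?_, ?_⟩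
    · rw [show bin a b c (p.1 0 ⬝ᵥ x₀, p.1 1 ⬝ᵥ x₀) = G p₀ x₀ from congrFun h x₀]
      simp [G, bin, d00, d10]
    · rw [show bin a b c (p.1 0 ⬝ᵥ y₀, p.1 1 ⬝ᵥ y₀) = G p₀ y₀ from congrFun h y₀]
      simp [G, bin, d01, d11]
    · rw [hdet p h, d00, d11, d10, d01]
      ring
  · intro p hp p' hp' e
    simp only [ev, Prod.mk.injEq] at e
    obtain ⟨⟨e1, e2⟩, e3, e4⟩ := e
    have key : ∀ r : P, G r = G p₀ → ∀ (i : Fin 2) (x : Fin n → F), r.1 i ⬝ᵥ x =
        (p₀.1 0 ⬝ᵥ x) * (r.1 i ⬝ᵥ x₀) + (p₀.1 1 ⬝ᵥ x) * (r.1 i ⬝ᵥ y₀) := by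
      intro r hr i x
      have h1 := hdet r hr x x₀
      have h2 := hdet r hr x y₀
      have h3 := hdet r hr x₀ y₀
      rw [d00, d10] at h1
      rw [d11, d01] at h2
      rw [d00, d11, d10, d01] at h3
      fin_cases i <;> simp only [Fin.zero_eta, Fin.mk_one] <;>
      first
      | linear_combination (r.1 0 ⬝ᵥ x₀) * h2 - (r.1 0 ⬝ᵥ y₀) * h1 - (r.1 0 ⬝ᵥ x) * h3
      | linear_combination (r.1 1 ⬝ᵥ x₀) * h2 - (r.1 1 ⬝ᵥ y₀) * h1 - (r.1 1 ⬝ᵥ x) * h3
    refine Subtype.ext (funext fun i => dotProduct_eq _ _ fun x => ?_)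
    rw [key p (hfib p hp) i x, key p' (hfib p' hp') i x]
    fin_cases i <;> simp only [Fin.zero_eta, Fin.mk_one, e1, e2, e3, e4]

theorem card_orbit_bound [Fintype F] [CharP F 2] (hn : 2 ≤ n) (h : ∃ u v, S.β u v ≠ 0) :
    (Fintype.card F ^ n - 1) * (Fintype.card F ^ n - Fintype.card F) ≤
      2 * (Fintype.card F + 1) * Nat.card S.orbit := by
  obtain ⟨u, v, hu, huv⟩ : ∃ u v, S.Q u ≠ 0 ∧ S.β u v ≠ 0 := by
    obtain ⟨u, v, huv⟩ := h
    by_cases h1 : S.Q u = 0
    · by_cases h2 : S.Q v = 0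
      · refine ⟨u + v, v, by rw [S.map_add, h1, h2]; simpa using huv, ?_⟩
        rw [_root_.map_add, LinearMap.add_apply, S.alt, add_zero]
        exact huv
      · exact ⟨v, u, h2, by rwa [S.comm]⟩
    · exact ⟨u, v, h1, huv⟩
  by_cases hrad : ∀ w, S.β u w = 0 → S.β v w = 0 → S.Q w = 0
  · exact S.card_small hu huv hrad
  push Not at hrad
  obtain ⟨w, hw1, hw2, hw⟩ := hrad
  have hsq : Function.Surjective fun t : F => t ^ 2 := by
    refine Finite.surjective_of_injective fun x y hxy => ?_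
    have : (x + y) ^ 2 = 0 := by
      rw [add_sq, CharTwo.two_eq_zero (R := F)]
      rw [(hxy : x ^ 2 = y ^ 2), zero_mul, zero_mul, add_zero, CharTwo.add_self_eq_zero]
    exact (CharTwo.add_eq_zero).1 (pow_eq_zero_iff two_ne_zero |>.1 this)
  have hbig := S.card_big hn fun a c b hb => by
    set u' := (b / S.β u v) • u with hu'
    obtain ⟨s, hs⟩ := hsq ((a - S.Q u') / S.Q w)
    obtain ⟨t, ht⟩ := hsq ((c - S.Q v) / S.Q w)
    simp only at hs ht
    refine ⟨u' + s • w, v + t • w, ?_, ?_, ?_⟩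
    · rw [S.map_add, S.map_smul s w, hs, div_mul_cancel₀ _ hw, hu', _root_.map_smul,
        _root_.map_smul, LinearMap.smul_apply, hw1, smul_zero, smul_zero]
      ring
    · rw [S.map_add, S.map_smul, ht, _root_.map_smul, hw2, smul_zero, div_mul_cancel₀ _ hw]
      ring
    · simp only [hu', _root_.map_add, LinearMap.add_apply, _root_.map_smul, LinearMap.smul_apply, smul_eq_mul,
        S.alt, hw1, S.comm w v, hw2, mul_zero, add_zero]
      field_simp
  refine le_trans ?_ (Nat.mul_le_mul_left _ hbig)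
  obtain ⟨k, rfl⟩ : ∃ k, n = k + 2 := ⟨n - 2, by omega⟩
  obtain ⟨p, hp⟩ : ∃ p, Fintype.card F = p + 2 :=
    ⟨Fintype.card F - 2, by have := Fintype.one_lt_card (α := F); omega⟩
  rw [hp, Nat.add_sub_cancel, show p + 2 - 1 = p + 1 by omega]
  calc ((p + 2) ^ (k + 2) - 1) * ((p + 2) ^ (k + 2) - (p + 2))
      ≤ (p + 2) ^ (k + 2) * (p + 2) ^ (k + 2) := Nat.mul_le_mul (Nat.sub_le _ _) (Nat.sub_le _ _)
    _ = ((p + 2) ^ 2) * ((p + 2) * (p + 2) * ((p + 2) ^ k * (p + 2) ^ k)) := by ring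
    _ ≤ (2 * (p + 2 + 1) * (p + 1)) * ((p + 2) * (p + 2) * ((p + 2) ^ k * (p + 2) ^ k)) :=
        Nat.mul_le_mul_right _ (by ring_nf; omega)
    _ = _ := by ring

end QuadFun

end Cfsg.Agent.SpWeil
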