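import Cfsg.Agent.Lib.Linear.SpBlocks
import Cfsg.Agent.Lib.AutPSL.Geometry
import Mathlib.Analysis.Fourier.FiniteAbelian.PontryaginDuality
import Mathlib.NumberTheory.LegendreSymbol.AddCharacter

/-!
# The smallest degree of a non-trivial representation of `Sp_{2n}(q)`, `q` odd
* `two_mul_card_congr_orbit` : the congruence orbit of a non-zero symmetric matrix has at least
  `(q^n - 1)/2` elements
* `finrank_ge_of_ne_one` : a non-trivial complex representation of `spGL n F` has degree at least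
  `(q^n - 1)/2`
-/

set_option autoImplicit false

open Matrix

namespace Cfsg.Agent.SpWeil

open Cfsg.Agent.Linear

variable {n : ℕ} {F : Type*} [Field F]

theorem spGL_smul_blocks (g : Cfsg.spGL n F) (x : Fin n ⊕ Fin n → F) :
    g • x = Sum.elim (blkA g *ᵥ (x ∘ Sum.inl) + blkB g *ᵥ (x ∘ Sum.inr))
      (blkC g *ᵥ (x ∘ Sum.inl) + blkD g *ᵥ (x ∘ Sum.inr)) := by
  rw [spGL_smul_eq, spGL_blocks g, Matrix.fromBlocks_mulVec]

theorem spSiegel_smul {B : Matrix (Fin n) (Fin n) F} (hB : B.IsSymm) (x : Fin n ⊕ Fin n → F) :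
    spSiegel B hB • x = Sum.elim (x ∘ Sum.inl + B *ᵥ (x ∘ Sum.inr)) (x ∘ Sum.inr) := by
  simp [spGL_smul_blocks]

theorem spLevi_smul (A : GL (Fin n) F) (x : Fin n ⊕ Fin n → F) :
    spLevi A • x = Sum.elim (A.1 *ᵥ (x ∘ Sum.inl)) ((A⁻¹).1ᵀ *ᵥ (x ∘ Sum.inr)) := by
  simp [spGL_smul_blocks]

theorem isSymm_single (i : Fin n) (c : F) : (Matrix.single i i c).IsSymm :=
  Matrix.transpose_single i i c

/-! ## Orbits of symmetric matrices under congruence -/

/-- The congruence orbit. -/
def congrOrbit (S : Matrix (Fin n) (Fin n) F) : Set (Matrix (Fin n) (Fin n) F) :=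
  Set.range fun A : GL (Fin n) F => A.1ᵀ * S * A.1

theorem exists_quad_ne_zero (h2 : (2 : F) ≠ 0) {S : Matrix (Fin n) (Fin n) F} (hS : S.IsSymm)
    (hS0 : S ≠ 0) : ∃ u : Fin n → F, u ⬝ᵥ S *ᵥ u ≠ 0 := by
  by_contra! h
  refine hS0 (Matrix.ext fun i j => ?_)
  have h1 := h (Pi.single i 1 + Pi.single j 1)
  have h3 := h (Pi.single i 1)
  have h4 := h (Pi.single j 1)
  simp only [Matrix.mulVec_add, add_dotProduct, dotProduct_add, single_dotProduct,
    Matrix.mulVec_single_one, Matrix.col_apply, one_mul] at h1 h3 h4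
  rw [h3, h4, hS.apply i j, zero_add, add_zero, ← two_mul] at h1
  simpa [h2] using h1

theorem exists_quad_eq [Fintype F] (h2 : (2 : F) ≠ 0) {a b : F} (ha : a ≠ 0) (hb : b ≠ 0) (e : F) :
    ∃ x y : F, a * x ^ 2 + b * y ^ 2 = e := by
  have hc : Fintype.card F % 2 = 1 := FiniteField.odd_card_of_char_ne_two fun h => h2 (by
    haveI : CharP F 2 := ringChar.of_eq h
    exact CharTwo.two_eq_zero)
  obtain ⟨x, y, hxy⟩ := FiniteField.exists_root_sum_quadratic
    (f := Polynomial.C a * Polynomial.X ^ 2)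
    (g := Polynomial.C b * Polynomial.X ^ 2 - Polynomial.C e)
    (by rw [Polynomial.degree_mul, Polynomial.degree_C ha, Polynomial.degree_X_pow]; rfl)
    (by
      rw [Polynomial.degree_sub_eq_left_of_degree_lt] <;>
        rw [Polynomial.degree_mul, Polynomial.degree_C hb, Polynomial.degree_X_pow]
      · rfl
      · exact lt_of_le_of_lt Polynomial.degree_C_le (by decide))
    hc
  simp only [Polynomial.eval_sub, Polynomial.eval_mul, Polynomial.eval_C, Polynomial.eval_pow,
    Polynomial.eval_X] at hxy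
  exact ⟨x, y, by linear_combination hxy⟩

/-- A symmetric matrix either has rank one or its quadratic form takes every value. -/
theorem rank_one_or_universal [Fintype F] (h2 : (2 : F) ≠ 0) {S : Matrix (Fin n) (Fin n) F}
    (hS : S.IsSymm) (hS0 : S ≠ 0) :
    (∃ c : F, c ≠ 0 ∧ ∃ w : Fin n → F, w ≠ 0 ∧ S = c • Matrix.vecMulVec w w) ∨
      ∀ e : F, e ≠ 0 → ∃ u : Fin n → F, u ≠ 0 ∧ u ⬝ᵥ S *ᵥ u = e := by
  obtain ⟨u, hu⟩ := exists_quad_ne_zero h2 hS hS0
  set c := u ⬝ᵥ S *ᵥ u with hc
  set w := S *ᵥ u with hw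
  by_cases hT : S - c⁻¹ • Matrix.vecMulVec w w = 0
  · refine Or.inl ⟨c⁻¹, inv_ne_zero hu, w, fun h => hu ?_, sub_eq_zero.1 hT⟩
    rw [hc, h, dotProduct_zero]
  refine Or.inr fun e he => ?_
  have hTs : (S - c⁻¹ • Matrix.vecMulVec w w).IsSymm :=
    hS.sub (Matrix.IsSymm.smul (show (Matrix.vecMulVec w w).IsSymm from
      Matrix.transpose_vecMulVec w w) _)
  obtain ⟨x, hx⟩ := exists_quad_ne_zero h2 hTs hT
  have hsym : ∀ a b : Fin n → F, a ⬝ᵥ S *ᵥ b = b ⬝ᵥ S *ᵥ a := fun a b => by
    rw [Matrix.dotProduct_mulVec, ← Matrix.mulVec_transpose, hS.eq, dotProduct_comm]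
  obtain ⟨s, t, hst⟩ := exists_quad_eq h2 hu hx e
  set y := x - (c⁻¹ * (x ⬝ᵥ w)) • u with hy
  have h1 : u ⬝ᵥ S *ᵥ y = 0 := by
    rw [hy, Matrix.mulVec_sub, dotProduct_sub, Matrix.mulVec_smul, dotProduct_smul, smul_eq_mul,
      hsym u x, ← hw, ← hc]
    field_simp
    ring
  have h3 : y ⬝ᵥ S *ᵥ y = x ⬝ᵥ (S - c⁻¹ • Matrix.vecMulVec w w) *ᵥ x := by
    simp only [hy, Matrix.mulVec_sub, dotProduct_sub, Matrix.mulVec_smul, dotProduct_smul,
      smul_eq_mul, sub_dotProduct, smul_dotProduct, Matrix.sub_mulVec, Matrix.smul_mulVec,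
      Matrix.vecMulVec_mulVec, op_smul_eq_smul, hsym u x, ← hw, ← hc, dotProduct_comm w x]
    field_simp
    ring
  refine ⟨s • u + t • y, fun h => he ?_, ?_⟩
  swap
  · simp only [Matrix.mulVec_add, Matrix.mulVec_smul, dotProduct_add, add_dotProduct,
      smul_dotProduct, dotProduct_smul, smul_eq_mul, h1, hsym y u, h3, ← hc]
    linear_combination hst
  · have h' := congrArg (fun z => z ⬝ᵥ S *ᵥ z) h
    simp only [Matrix.mulVec_add, Matrix.mulVec_smul, dotProduct_add, add_dotProduct,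
      smul_dotProduct, dotProduct_smul, smul_eq_mul, h1, hsym y u, h3, ← hc,
      Matrix.mulVec_zero, dotProduct_zero] at h'
    linear_combination h' - hst

theorem exists_gl_first_col {u w : Fin n → F} (i : Fin n) (hu : u ≠ 0) (v : Fin n → F)
    (hv : v i = u ⬝ᵥ w) (hv0 : v i ≠ 0) :
    ∃ A : GL (Fin n) F, A.1 *ᵥ Pi.single i 1 = u ∧ A.1ᵀ *ᵥ w = v := by
  obtain ⟨B, hB⟩ := Cfsg.Agent.AutPSL.exists_gl_point hu i
  set w' := B.1ᵀ *ᵥ w with hw'
  have hwi : w' i = v i := by
    rw [hv, ← hB, ← single_one_dotProduct i w', hw', Matrix.dotProduct_mulVec,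
      Matrix.vecMul_transpose]
  set r := (v i)⁻¹ • (v - w') with hr
  have hri : r ⬝ᵥ Pi.single i 1 = 0 := by simp [hr, hwi]
  let C : GL (Fin n) F :=
    ⟨1 + Matrix.vecMulVec (Pi.single i 1) r, 1 - Matrix.vecMulVec (Pi.single i 1) r,
      by simp [Matrix.mul_sub, Matrix.add_mul, Matrix.vecMulVec_mul_vecMulVec, hri],
      by simp [Matrix.mul_add, Matrix.sub_mul, Matrix.vecMulVec_mul_vecMulVec, hri]⟩
  refine ⟨B * C, ?_, ?_⟩
  · rw [Units.val_mul, ← Matrix.mulVec_mulVec]
    show B.1 *ᵥ ((1 + Matrix.vecMulVec (Pi.single i 1) r) *ᵥ Pi.single i 1) = u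
    rw [Matrix.add_mulVec, Matrix.one_mulVec, Matrix.vecMulVec_mulVec, hri, ← hB]
    simp
  · rw [Units.val_mul, Matrix.transpose_mul, ← Matrix.mulVec_mulVec, ← hw']
    show (1 + Matrix.vecMulVec (Pi.single i 1) r)ᵀ *ᵥ w' = v
    rw [Matrix.transpose_add, Matrix.transpose_one, Matrix.transpose_vecMulVec, Matrix.add_mulVec,
      Matrix.one_mulVec, Matrix.vecMulVec_mulVec, op_smul_eq_smul, single_dotProduct, one_mul,
      hwi, hr, smul_smul, mul_inv_cancel₀ hv0, one_smul, add_sub_cancel]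

theorem card_fun_ne_zero [Fintype F] :
    Nat.card {v : Fin n → F // v ≠ 0} = Fintype.card F ^ n - 1 := by
  classical
  rw [Nat.card_eq_fintype_card, Fintype.card_subtype_compl, Fintype.card_subtype_eq,
    Fintype.card_fun, Fintype.card_fin]

theorem two_mul_card_congr_orbit [Fintype F] (h2 : (2 : F) ≠ 0) {S : Matrix (Fin n) (Fin n) F}
    (hS : S.IsSymm) (hS0 : S ≠ 0) :
    Fintype.card F ^ n - 1 ≤ 2 * Nat.card (congrOrbit S) := by
  classical
  obtain ⟨i, -⟩ := Function.ne_iff.1 (fun h : S = 0 => hS0 h)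
  obtain ⟨c, hc, w, hw, rfl⟩ | hall := rank_one_or_universal h2 hS hS0
  · have hmem : ∀ v : {v : Fin n → F // v ≠ 0},
        c • Matrix.vecMulVec v.1 v.1 ∈ congrOrbit (c • Matrix.vecMulVec w w) := fun v => by
      obtain ⟨g, hg⟩ := Cfsg.Agent.AutPSL.exists_gl_point v.2 i
      obtain ⟨h, hh⟩ := Cfsg.Agent.AutPSL.exists_gl_point hw i
      let A : GL (Fin n) F := g * h⁻¹
      have hA : A.1 *ᵥ w = v.1 := by
        rw [← hh, Matrix.mulVec_mulVec, ← Units.val_mul]
        simpa [A] using hg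
      refine ⟨⟨A.1ᵀ, (A⁻¹).1ᵀ, by rw [← Matrix.transpose_mul, Units.inv_mul, Matrix.transpose_one],
        by rw [← Matrix.transpose_mul, Units.mul_inv, Matrix.transpose_one]⟩, ?_⟩
      show A.1ᵀᵀ * (c • Matrix.vecMulVec w w) * A.1ᵀ = _
      rw [Matrix.transpose_transpose, Matrix.mul_smul, Matrix.smul_mul, Matrix.mul_vecMulVec,
        Matrix.vecMulVec_mul, Matrix.vecMul_transpose, hA]
    let φ : {v : Fin n → F // v ≠ 0} → congrOrbit (c • Matrix.vecMulVec w w) :=
      fun v => ⟨_, hmem v⟩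
    rw [← card_fun_ne_zero, Nat.card_eq_fintype_card, Nat.card_eq_fintype_card,
      ← Finset.card_univ, ← Finset.card_univ]
    refine Finset.card_le_mul_card_image_of_maps_to (f := φ) (fun a _ => Finset.mem_univ _) 2
      (fun b _ => ?_)
    by_contra! hb
    obtain ⟨x, hx, y, hy, z, hz, hxy, hxz, hyz⟩ := Finset.two_lt_card.1 hb
    simp only [Finset.mem_filter, Finset.mem_univ, true_and] at hx hy hz
    have key : ∀ p r : {v : Fin n → F // v ≠ 0}, φ p = φ r → p = r ∨ p.1 = -r.1 := by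
      intro p r h
      have h1 : ∀ a b, p.1 a * p.1 b = r.1 a * r.1 b := fun a b => by
        have := congrArg (fun T => T a b) (congrArg Subtype.val h)
        simpa [φ, Matrix.vecMulVec_apply, hc] using this
      obtain ⟨j, hj⟩ := Function.ne_iff.1 r.2
      rcases mul_self_eq_mul_self_iff.1 (h1 j j) with e | e
      · refine Or.inl (Subtype.ext (funext fun a => mul_right_cancel₀ hj ?_))
        rw [← h1 a j, e]
      · refine Or.inr (funext fun a => mul_right_cancel₀ (neg_ne_zero.2 hj) ?_)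
        show p.1 a * -r.1 j = -r.1 a * -r.1 j
        have := h1 a j
        rw [e] at this
        linear_combination this
    rcases key x z (hx.trans hz.symm) with e | e
    · exact hxz e
    rcases key y z (hy.trans hz.symm) with e' | e'
    · exact hyz e'
    exact hxy (Subtype.ext (e.trans e'.symm))
  · have hsurj : ∀ v : {v : Fin n → F // v i ≠ 0}, ∃ T : congrOrbit S, T.1 *ᵥ Pi.single i 1 = v.1 := by
      intro v
      obtain ⟨u, hu0, hu⟩ := hall _ v.2
      obtain ⟨A, hA, hA'⟩ := exists_gl_first_col (w := S *ᵥ u) i hu0 v.1 hu.symm v.2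
      refine ⟨⟨_, A, rfl⟩, ?_⟩
      simp only [← Matrix.mulVec_mulVec, hA, hA']
    choose φ hφ using hsurj
    have hinj : Function.Injective φ := fun a b h => Subtype.ext (by rw [← hφ a, h, hφ b])
    have hle := Nat.card_le_card_of_injective φ hinj
    have hzero : Nat.card {v : Fin n → F // v i = 0} * Fintype.card F = Fintype.card F ^ n := by
      let e : {v : Fin n → F // v i = 0} × F ≃ (Fin n → F) :=
        { toFun := fun p => Function.update p.1.1 i p.2
          invFun := fun v => (⟨Function.update v i 0, by simp⟩, v i)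
          left_inv := fun p => by
            rcases p with ⟨⟨v, hv⟩, a⟩
            ext <;> simp [Function.update_idem, ← hv]
          right_inv := fun v => by simp [Function.update_idem] }
      rw [← Nat.card_eq_fintype_card, ← Nat.card_prod, Nat.card_congr e, Nat.card_fun, Nat.card_fin]
    have hsum : Nat.card {v : Fin n → F // v i = 0} + Nat.card {v : Fin n → F // v i ≠ 0} =
        Fintype.card F ^ n := by
      rw [← Nat.card_sum, Nat.card_congr (Equiv.sumCompl _), Nat.card_fun, Nat.card_fin,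
        Nat.card_eq_fintype_card]
    have hq : 1 < Fintype.card F := Fintype.one_lt_card
    have := Nat.mul_le_mul_left (Nat.card {v : Fin n → F // v i = 0}) hq
    omega

/-! ## Characters of the group of symmetric matrices -/

variable (n F) in
/-- The additive group of symmetric matrices. -/
def symMat : AddSubgroup (Matrix (Fin n) (Fin n) F) where
  carrier := {S | S.IsSymm}
  zero_mem' := Matrix.isSymm_zero
  add_mem' := Matrix.IsSymm.add
  neg_mem' := Matrix.IsSymm.neg

/-- The character `B ↦ ψ (tr (S B))`. -/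
def symChar (ψ : AddChar F ℂ) (S : symMat n F) : AddChar (symMat n F) ℂ :=
  ψ.compAddMonoidHom
    ((Matrix.traceAddMonoidHom (Fin n) F).comp
      ((AddMonoidHom.mulLeft S.1).comp (symMat n F).subtype))

theorem symChar_apply (ψ : AddChar F ℂ) (S B : symMat n F) :
    symChar ψ S B = ψ (Matrix.trace (S.1 * B.1)) := rfl

theorem symChar_comm (ψ : AddChar F ℂ) (S B : symMat n F) :
    symChar ψ S B = symChar ψ B S := by
  rw [symChar_apply, symChar_apply, Matrix.trace_mul_comm]

theorem symChar_sub (ψ : AddChar F ℂ) (S T B : symMat n F) :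
    symChar ψ (S - T) B = symChar ψ S B * symChar ψ T (-B) := by
  rw [symChar_apply, symChar_apply, symChar_apply, ← AddChar.map_add_eq_mul]
  congr 1
  simp [Matrix.sub_mul, Matrix.add_mul, sub_eq_add_neg]

theorem symChar_ne_one (h2 : (2 : F) ≠ 0) {ψ : AddChar F ℂ} (hψ : ψ ≠ 1) {S : symMat n F}
    (hS : S ≠ 0) : symChar ψ S ≠ 1 := by
  obtain ⟨t, ht⟩ := AddChar.ne_one_iff.1 hψ
  obtain ⟨i, j, hij⟩ : ∃ i j, S.1 i j ≠ 0 := by
    by_contra! h
    exact hS (Subtype.ext (Matrix.ext h))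
  set y := t / (2 * S.1 i j)
  refine AddChar.ne_one_iff.2 ⟨⟨Matrix.single i j y + Matrix.single j i y, ?_⟩, ?_⟩
  · show Matrix.IsSymm _
    rw [Matrix.IsSymm, Matrix.transpose_add, Matrix.transpose_single, Matrix.transpose_single,
      add_comm]
  · rw [symChar_apply]
    have hs : S.1 j i = S.1 i j := S.2.apply i j
    convert ht using 2
    simp only [Matrix.mul_add, Matrix.trace_add, Matrix.trace_mul_single, op_smul_eq_smul,
      smul_eq_mul, hs, y]
    field_simp
    ring

theorem sum_symChar (h2 : (2 : F) ≠ 0) {ψ : AddChar F ℂ} (hψ : ψ ≠ 1) [Fintype (symMat n F)]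
    [DecidableEq (symMat n F)] (S : symMat n F) :
    ∑ B, symChar ψ S B = if S = 0 then (Fintype.card (symMat n F) : ℂ) else 0 := by
  split_ifs with h
  · simp [symChar_apply, h]
  · exact AddChar.sum_eq_zero_of_ne_one (symChar_ne_one h2 hψ h)

/-! ## The bound -/

variable {W : Type*} [AddCommGroup W] [Module ℂ W]

/-- The Siegel element of a member of `symMat`. -/
noncomputable def sieg (B : symMat n F) : Cfsg.spGL n F := spSiegel B.1 B.2

theorem sieg_mul (B C : symMat n F) : sieg B * sieg C = sieg (B + C) := spSiegel_mul _ _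

theorem sieg_zero : sieg (0 : symMat n F) = 1 := spSiegel_zero

/-- Congruence on `symMat`. -/
def congrMat (A : Matrix (Fin n) (Fin n) F) (B : symMat n F) : symMat n F :=
  ⟨A * B.1 * Aᵀ, isSymm_congr B.2 A⟩

theorem spLevi_conj_sieg (A : GL (Fin n) F) (B : symMat n F) :
    spLevi A * sieg B * (spLevi A)⁻¹ = sieg (congrMat A.1 B) := spLevi_conj_spSiegel A B.2

/-- Eigenvectors of the Siegel group with character indexed by `S`. -/
def HasWeight (ρ : Representation ℂ (Cfsg.spGL n F) W) (ψ : AddChar F ℂ) (S : symMat n F) : Prop :=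
  ∃ v : W, v ≠ 0 ∧ ∀ B : symMat n F, ρ (sieg B) v = symChar ψ S B • v

theorem hasWeight_congr {ρ : Representation ℂ (Cfsg.spGL n F) W} {ψ : AddChar F ℂ}
    {S : symMat n F} (h : HasWeight ρ ψ S) (A : GL (Fin n) F) :
    HasWeight ρ ψ (congrMat A.1ᵀ S) := by
  obtain ⟨v, hv, hev⟩ := h
  refine ⟨ρ (spLevi A⁻¹) v, fun e => hv ?_, fun B => ?_⟩
  · have := congrArg (ρ (spLevi A)) e
    rwa [← Module.End.mul_apply, ← map_mul, ← map_mul, mul_inv_cancel, map_one, map_one, map_zero]
      at this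
  · have e : sieg B * spLevi A⁻¹ = spLevi A⁻¹ * sieg (congrMat A.1 B) := by
      rw [← spLevi_conj_sieg A B, map_inv]
      group
    rw [← Module.End.mul_apply, ← map_mul, e, map_mul, Module.End.mul_apply, hev, map_smul]
    congr 1
    simp only [symChar_apply, congrMat, Matrix.transpose_transpose]
    congr 1
    rw [← Matrix.mul_assoc, ← Matrix.mul_assoc, Matrix.trace_mul_comm, ← Matrix.mul_assoc,
      ← Matrix.mul_assoc]

theorem exists_hasWeight_of_ne_one [Fintype F] (h2 : (2 : F) ≠ 0) {ψ : AddChar F ℂ} (hψ : ψ ≠ 1)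
    (ρ : Representation ℂ (Cfsg.spGL n F) W) (B₀ : symMat n F)
    (hB : ρ (sieg B₀) ≠ 1) :
    ∃ S : symMat n F, S ≠ 0 ∧ HasWeight ρ ψ S := by
  classical
  letI : Fintype (symMat n F) := Fintype.ofFinite _
  by_contra! hno
  set N : symMat n F → Module.End ℂ W := fun B => ρ (sieg B) with hN
  have hadd : ∀ B C, N B * N C = N (B + C) := fun B C => by
    simp only [hN]
    rw [← map_mul, sieg_mul]
  set P : symMat n F → Module.End ℂ W := fun S => ∑ B, symChar ψ S (-B) • N B with hP
  have hmul : ∀ S C, N C * P S = symChar ψ S C • P S := fun S C => by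
    simp only [hP, Finset.mul_sum, Finset.smul_sum, mul_smul_comm, hadd, smul_smul]
    refine Fintype.sum_equiv (Equiv.addLeft C) _ _ fun B => ?_
    rw [← AddChar.map_add_eq_mul]
    simp
  have hzero : ∀ S, S ≠ 0 → P S = 0 := fun S hS => by
    refine LinearMap.ext fun w => by_contra fun hw => hno S hS ⟨P S w, hw, fun B => ?_⟩
    have := LinearMap.congr_fun (hmul S B) w
    simpa [hN] using this
  have hsum : ∑ S, P S = (Fintype.card (symMat n F) : ℂ) • (1 : Module.End ℂ W) := by
    simp only [hP]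
    rw [Finset.sum_comm]
    simp_rw [← Finset.sum_smul, fun B S => symChar_comm ψ S (-B), sum_symChar h2 hψ, neg_eq_zero]
    simp only [ite_smul, zero_smul, Finset.sum_ite_eq', Finset.mem_univ, if_true]
    congr 1
    simp [hN, sieg_zero]
  rw [Finset.sum_eq_single 0 (fun S _ hS => hzero S hS) (by simp)] at hsum
  refine hB ?_
  have := hmul 0 B₀
  rw [hsum, mul_smul_comm, mul_one, symChar_apply] at this
  simp only [ZeroMemClass.coe_zero, Matrix.zero_mul, Matrix.trace_zero, AddChar.map_zero_eq_one,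
    one_smul] at this
  exact smul_right_injective _ (Nat.cast_ne_zero.2 Fintype.card_ne_zero) this

theorem card_le_finrank_of_hasWeight [Fintype F] [FiniteDimensional ℂ W] (h2 : (2 : F) ≠ 0)
    {ψ : AddChar F ℂ} (hψ : ψ ≠ 1) (ρ : Representation ℂ (Cfsg.spGL n F) W)
    (X : Set (symMat n F)) (hX : ∀ S ∈ X, HasWeight ρ ψ S) :
    Nat.card X ≤ Module.finrank ℂ W := by
  classical
  letI : Fintype (symMat n F) := Fintype.ofFinite _
  choose v hv hev using fun S : X => hX S.1 S.2
  have hli : LinearIndependent ℂ v := by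
    refine Fintype.linearIndependent_iff.2 fun c hc T => ?_
    have h : ∀ S : X, ∑ B : symMat n F, symChar ψ T.1 (-B) • ρ (sieg B) (v S) =
        (if S = T then (Fintype.card (symMat n F) : ℂ) else 0) • v S := fun S => by
      simp_rw [hev, smul_smul, mul_comm (symChar ψ T.1 _), ← symChar_sub, ← Finset.sum_smul,
        sum_symChar h2 hψ, sub_eq_zero, Subtype.coe_inj]
    let L : W →ₗ[ℂ] W := ∑ B : symMat n F, symChar ψ T.1 (-B) • ρ (sieg B)
    have hL : ∀ S : X, L (v S) =
        (if S = T then (Fintype.card (symMat n F) : ℂ) else 0) • v S := fun S => by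
      simpa [L] using h S
    have := congrArg L hc
    rw [map_zero, map_sum, Finset.sum_eq_single T (fun S _ hST => by simp [map_smul, hL, hST])
      (by simp), map_smul, hL, if_pos rfl, smul_smul, smul_eq_zero] at this
    simpa [hv T, Fintype.card_ne_zero] using this
  rw [Nat.card_eq_fintype_card]
  exact hli.fintype_card_le_finrank

theorem exists_siegel_ne_one (ρ : Representation ℂ (Cfsg.spGL n F) W)
    (hρ : ∃ g, ρ g ≠ 1) : ∃ B : symMat n F, ρ (sieg B) ≠ 1 := by
  by_contra! h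
  obtain ⟨g, hg⟩ := hρ
  refine hg ?_
  have hker : (⊤ : Subgroup (Cfsg.spGL n F)) ≤ MonoidHom.ker ρ.asGroupHom := by
    rw [← closure_spTvSet, Subgroup.closure_le]
    rintro _ ⟨w, -, c, rfl⟩
    rw [SetLike.mem_coe, MonoidHom.mem_ker]
    by_cases hw : w = 0
    · subst hw; rw [spTv_zero_vec, map_one]
    obtain ⟨x, -⟩ := Function.ne_iff.1 hw
    let i : Fin n := Sum.elim id id x
    obtain ⟨k, hk⟩ := exists_spGL_smul_eq (u := (Pi.single (Sum.inl i) 1 : Fin n ⊕ Fin n → F))
      (by simp) hw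
    have h1 : ρ.asGroupHom (spTv (Pi.single (Sum.inl i) 1) c) = 1 := by
      have e : spTv (Pi.single (Sum.inl i) (1 : F)) c =
          spSiegel (Matrix.single i i c) (isSymm_single i c) := by
        refine spGL_ext fun y => ?_
        rw [spTv_smul, spSiegel_smul, sympForm_swap, sympForm_single_inl_left, neg_neg]
        ext (a | a) <;> simp [Matrix.single_mulVec, Pi.single_apply, Function.update_apply]
      rw [e]
      exact Units.ext (h ⟨_, isSymm_single i c⟩)
    rw [← hk, ← spTv_conj, map_mul, map_mul, h1, mul_one, ← map_mul, mul_inv_cancel, map_one]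
  exact congrArg Units.val (MonoidHom.mem_ker.1 (hker (Subgroup.mem_top g)))

/-- A non-trivial complex representation of `Sp_{2n}(q)` has degree at least `(q^n - 1)/2`. -/
theorem finrank_ge_of_ne_one [Fintype F] [FiniteDimensional ℂ W] (h2 : (2 : F) ≠ 0)
    (ρ : Representation ℂ (Cfsg.spGL n F) W) (hρ : ∃ g, ρ g ≠ 1) :
    (Fintype.card F ^ n - 1) / 2 ≤ Module.finrank ℂ W := by
  obtain ⟨ψ, hψ⟩ := AddChar.exists_apply_ne_zero.2 (one_ne_zero : (1 : F) ≠ 0)
  have hψ : ψ ≠ 1 := fun h => hψ (by rw [h]; rfl)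
  obtain ⟨B₀, hB⟩ := exists_siegel_ne_one ρ hρ
  obtain ⟨S, hS, hw⟩ := exists_hasWeight_of_ne_one h2 hψ ρ B₀ hB
  let X : Set (symMat n F) := {T | T.1 ∈ congrOrbit S.1}
  have hX : Nat.card X ≤ Module.finrank ℂ W := by
    refine card_le_finrank_of_hasWeight h2 hψ ρ X ?_
    rintro T ⟨A, hA⟩
    have := hasWeight_congr hw A
    convert this using 1
    exact Subtype.ext (by simpa [congrMat] using hA.symm)
  have hcard : Nat.card (congrOrbit S.1) ≤ Nat.card X := by
    refine Nat.card_le_card_of_injective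
      (fun T : congrOrbit S.1 => (⟨⟨T.1, ?_⟩, T.2⟩ : X)) fun a b e => ?_
    · obtain ⟨A, hA⟩ := T.2
      rw [← hA]
      exact (by simpa using isSymm_congr S.2 A.1ᵀ : (A.1ᵀ * S.1 * A.1).IsSymm)
    · exact Subtype.ext (congrArg (fun z : X => z.1.1) e)
  have h0 : S.1 ≠ 0 := fun e => hS (Subtype.ext e)
  have := two_mul_card_congr_orbit h2 S.2 h0
  omega

end Cfsg.Agent.SpWeil
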