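import Cfsg.Agent.Lib.SpWeil.Schrodinger
import Mathlib.RepresentationTheory.Irreducible

/-!
# The Weil representation of `Sp_{2n}(q)`, `q` odd
* `weil`, `weilOdd`, `finrank_oddPart`, `weilOdd_isIrreducible`
-/

set_option autoImplicit false

open Matrix

namespace Cfsg.Agent.SpWeil

open Cfsg.Agent.Linear

variable {n : ℕ} {F : Type*} [Field F]

local notation "V" => (Fin n ⊕ Fin n → F)
local notation "𝓦" => ((Fin n → F) → ℂ)

variable (n F) in
/-- The eigenspace of parity for the sign `s`. -/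
noncomputable def part (s : ℤˣ) : Submodule ℂ 𝓦 :=
  LinearMap.ker (parity n F - ((s : ℤ) : ℂ) • 1)

theorem mem_part {s : ℤˣ} {φ : 𝓦} : φ ∈ part n F s ↔ parity n F φ = ((s : ℤ) : ℂ) • φ := by
  simp [part, sub_eq_zero]

variable (n F) in
/-- The projection on `part s`. -/
noncomputable def proj' (s : ℤˣ) : Module.End ℂ 𝓦 :=
  (2 : ℂ)⁻¹ • (1 + ((s : ℤ) : ℂ) • parity n F)

theorem proj'_mem (s : ℤˣ) (φ : 𝓦) : proj' n F s φ ∈ part n F s := by
  rw [mem_part]
  rcases Int.units_eq_one_or s with rfl | rfl <;>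
  · funext x
    simp [proj', parity_apply]
    try ring

theorem proj'_of_mem {s : ℤˣ} {φ : 𝓦} (h : φ ∈ part n F s) : proj' n F s φ = φ := by
  rw [mem_part] at h
  rcases Int.units_eq_one_or s with rfl | rfl <;>
  · funext x
    have := congrFun h x
    simp [proj', parity_apply] at this ⊢
    rw [this]
    ring

theorem mem_part_of_commute {s : ℤˣ} {T : Module.End ℂ 𝓦}
    (hT : parity n F * T = T * parity n F) {φ : 𝓦} (hφ : φ ∈ part n F s) : T φ ∈ part n F s := by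
  rw [mem_part] at hφ ⊢
  rw [← Module.End.mul_apply, hT, Module.End.mul_apply, hφ, map_smul]

/-- The compression of an operator to `part s`. -/
noncomputable def cmp (s : ℤˣ) (T : Module.End ℂ 𝓦) : Module.End ℂ (part n F s) :=
  LinearMap.codRestrict _ (proj' n F s ∘ₗ T ∘ₗ (part n F s).subtype) fun φ => proj'_mem s _

theorem cmp_apply {s : ℤˣ} {T : Module.End ℂ 𝓦} (hT : parity n F * T = T * parity n F)
    (φ : part n F s) : (cmp s T φ : 𝓦) = T φ :=
  proj'_of_mem (mem_part_of_commute hT φ.2)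

theorem cmp_mul {s : ℤˣ} {T U : Module.End ℂ 𝓦} (hT : parity n F * T = T * parity n F)
    (hU : parity n F * U = U * parity n F) : cmp s (T * U) = cmp s T * cmp s U :=
  LinearMap.ext fun φ => Subtype.ext (by
    rw [Module.End.mul_apply, cmp_apply hT, cmp_apply hU, cmp_apply, Module.End.mul_apply]
    rw [← mul_assoc, hT, mul_assoc, hU, mul_assoc])

theorem cmp_one (s : ℤˣ) : cmp s (1 : Module.End ℂ 𝓦) = 1 :=
  LinearMap.ext fun φ => Subtype.ext (by
    rw [cmp_apply (by rw [mul_one, one_mul])]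
    rfl)

theorem cmp_smul (s : ℤˣ) (c : ℂ) (T : Module.End ℂ 𝓦) : cmp s (c • T) = c • cmp s T :=
  LinearMap.ext fun φ => Subtype.ext (by simp [cmp])

variable [Fintype F]

theorem two_mul_finrank_part (h2 : (2 : F) ≠ 0) (s : ℤˣ) :
    2 * (Module.finrank ℂ (part n F s) : ℂ) = (Fintype.card F : ℂ) ^ n + ((s : ℤ) : ℂ) := by
  have h : LinearMap.IsProj (part n F s) (proj' n F s) :=
    ⟨proj'_mem s, fun φ hφ => proj'_of_mem hφ⟩
  have := h.trace
  rw [proj', map_smul, map_add, map_smul, LinearMap.trace_one, trace_parity h2,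
    Module.finrank_pi, Fintype.card_fun, Fintype.card_fin] at this
  rw [← this]
  push_cast
  simp [smul_eq_mul]

theorem finrank_part_neg_one (h2 : (2 : F) ≠ 0) :
    Module.finrank ℂ (part n F (-1)) = (Fintype.card F ^ n - 1) / 2 := by
  have h := two_mul_finrank_part (n := n) h2 (-1)
  have : 2 * Module.finrank ℂ (part n F (-1)) + 1 = Fintype.card F ^ n := by
    have : ((2 * Module.finrank ℂ (part n F (-1)) + 1 : ℕ) : ℂ) = ((Fintype.card F ^ n : ℕ) : ℂ) := by
      push_cast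
      rw [h]
      simp
    exact_mod_cast this
  omega

theorem finrank_part_one (h2 : (2 : F) ≠ 0) :
    Module.finrank ℂ (part n F 1) = Module.finrank ℂ (part n F (-1)) + 1 := by
  have h := two_mul_finrank_part (n := n) h2 1
  have h' := two_mul_finrank_part (n := n) h2 (-1)
  have : ((Module.finrank ℂ (part n F 1) : ℕ) : ℂ) =
      ((Module.finrank ℂ (part n F (-1)) + 1 : ℕ) : ℂ) := by
    push_cast at h h' ⊢
    linear_combination (h - h') / 2
  exact_mod_cast this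

/-! ## Normalisation -/

/-- The normalised intertwiners. -/
def IsWeil (ψ : AddChar F ℂ) (g : Cfsg.spGL n F) (P : Module.End ℂ 𝓦) : Prop :=
  IsUnit P ∧ IsIntw ψ g P ∧ LinearMap.det (cmp 1 P) = LinearMap.det (cmp (-1) P)

theorem det_cmp_ne_zero (h2 : (2 : F) ≠ 0) {ψ : AddChar F ℂ} (hψ : ψ ≠ 1) {g : Cfsg.spGL n F}
    {P : Module.End ℂ 𝓦} (hu : IsUnit P) (hP : IsIntw ψ g P) (s : ℤˣ) :
    LinearMap.det (cmp s P) ≠ 0 := by
  have hJ := intw_parity h2 hψ hu hP
  obtain ⟨u, rfl⟩ := hu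
  have hJ' : parity n F * (↑u⁻¹ : Module.End ℂ 𝓦) = (↑u⁻¹ : Module.End ℂ 𝓦) * parity n F := by
    refine u.mul_right_inj.1 ?_
    rw [← mul_assoc, ← hJ, mul_assoc, Units.mul_inv, mul_one, ← mul_assoc, Units.mul_inv, one_mul]
  have := congrArg LinearMap.det (cmp_mul (s := s) hJ hJ')
  rw [Units.mul_inv, cmp_one, map_one, map_mul] at this
  exact fun h => by simp [h] at this

theorem exists_isWeil (h2 : (2 : F) ≠ 0) {ψ : AddChar F ℂ} (hψ : ψ ≠ 1) (g : Cfsg.spGL n F) :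
    ∃ P : Module.End ℂ 𝓦, IsWeil ψ g P := by
  obtain ⟨P, hu, hP⟩ := exists_intw h2 hψ g
  set a := LinearMap.det (cmp 1 P)
  set b := LinearMap.det (cmp (-1) P)
  have ha : a ≠ 0 := det_cmp_ne_zero h2 hψ hu hP 1
  have hb : b ≠ 0 := det_cmp_ne_zero h2 hψ hu hP (-1)
  refine ⟨(b / a) • P, ?_, hP.smul _, ?_⟩
  · have : IsUnit (algebraMap ℂ (Module.End ℂ 𝓦) (b / a)) :=
      (IsUnit.mk0 _ (div_ne_zero hb ha)).map _
    simpa [Algebra.smul_def] using this.mul hu
  · rw [cmp_smul, cmp_smul, LinearMap.det_smul, LinearMap.det_smul, finrank_part_one h2, pow_succ]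
    simp only [a, b] at ha hb ⊢
    field_simp

theorem isWeil_unique (h2 : (2 : F) ≠ 0) {ψ : AddChar F ℂ} (hψ : ψ ≠ 1) {g : Cfsg.spGL n F}
    {P Q : Module.End ℂ 𝓦} (hP : IsWeil ψ g P) (hQ : IsWeil ψ g Q) : Q = P := by
  obtain ⟨c, rfl⟩ := intw_unique h2 hψ hP.1 hP.2.1 hQ.2.1
  have hc : c ≠ 0 := fun h => by
    have := hQ.1
    rw [h, zero_smul] at this
    exact det_cmp_ne_zero h2 hψ this (by simpa [h] using hQ.2.1) 1
      (by rw [← zero_smul ℂ (0 : Module.End ℂ 𝓦), cmp_smul, LinearMap.det_smul,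
        finrank_part_one h2, pow_succ]; simp)
  have h := hQ.2.2
  rw [cmp_smul, cmp_smul, LinearMap.det_smul, LinearMap.det_smul, finrank_part_one h2, hP.2.2,
    pow_succ] at h
  have hne := mul_ne_zero (pow_ne_zero (Module.finrank ℂ (part n F (-1))) hc)
    (det_cmp_ne_zero h2 hψ hP.1 hP.2.1 (-1))
  have : c = 1 := mul_left_cancel₀ hne (by linear_combination h)
  rw [this, one_smul]

/-- The Weil representation. -/
noncomputable def weil (h2 : (2 : F) ≠ 0) {ψ : AddChar F ℂ} (hψ : ψ ≠ 1) :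
    Representation ℂ (Cfsg.spGL n F) 𝓦 where
  toFun g := (exists_isWeil h2 hψ g).choose
  map_one' := isWeil_unique h2 hψ (g := 1)
    ⟨isUnit_one, IsIntw.one ψ, by rw [cmp_one, cmp_one, map_one, map_one]⟩
    (exists_isWeil h2 hψ 1).choose_spec
  map_mul' g h := by
    obtain ⟨hu, hi, hd⟩ := (exists_isWeil h2 hψ g).choose_spec
    obtain ⟨hu', hi', hd'⟩ := (exists_isWeil h2 hψ h).choose_spec
    refine isWeil_unique h2 hψ ⟨hu.mul hu', hi.mul hi', ?_⟩ (exists_isWeil h2 hψ (g * h)).choose_spec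
    rw [cmp_mul (intw_parity h2 hψ hu hi) (intw_parity h2 hψ hu' hi'),
      cmp_mul (intw_parity h2 hψ hu hi) (intw_parity h2 hψ hu' hi'), map_mul, map_mul, hd, hd']

theorem weil_spec (h2 : (2 : F) ≠ 0) {ψ : AddChar F ℂ} (hψ : ψ ≠ 1) (g : Cfsg.spGL n F) :
    IsWeil ψ g (weil h2 hψ g) :=
  (exists_isWeil h2 hψ g).choose_spec

theorem weil_parity (h2 : (2 : F) ≠ 0) {ψ : AddChar F ℂ} (hψ : ψ ≠ 1) (g : Cfsg.spGL n F) :
    parity n F * weil h2 hψ g = weil h2 hψ g * parity n F :=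
  intw_parity h2 hψ (weil_spec h2 hψ g).1 (weil_spec h2 hψ g).2.1

/-- The two halves of the Weil representation. -/
noncomputable def weilPart (h2 : (2 : F) ≠ 0) {ψ : AddChar F ℂ} (hψ : ψ ≠ 1) (s : ℤˣ) :
    Representation ℂ (Cfsg.spGL n F) (part n F s) where
  toFun g := cmp s (weil h2 hψ g)
  map_one' := by rw [map_one, cmp_one]
  map_mul' g h := by rw [map_mul, cmp_mul (weil_parity h2 hψ g) (weil_parity h2 hψ h)]

theorem weilPart_coe (h2 : (2 : F) ≠ 0) {ψ : AddChar F ℂ} (hψ : ψ ≠ 1) (s : ℤˣ)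
    (g : Cfsg.spGL n F) (φ : part n F s) :
    (weilPart h2 hψ s g φ : 𝓦) = weil h2 hψ g φ :=
  cmp_apply (weil_parity h2 hψ g) φ

theorem eq_zero_of_fixed (h2 : (2 : F) ≠ 0) {ψ : AddChar F ℂ} (hψ : ψ ≠ 1) (hn : 2 ≤ n)
    {φ : part n F (-1)} (hφ : ∀ g, weilPart h2 hψ (-1) g φ = φ) : φ = 0 := by
  classical
  by_contra h0
  have hfix : ∀ (g : Cfsg.spGL n F) (P : Module.End ℂ 𝓦), IsIntw ψ g P →
      ∃ c : ℂ, P φ.1 = c • φ.1 := fun g P hP => by
    obtain ⟨c, rfl⟩ := intw_unique h2 hψ (weil_spec h2 hψ g).1 (weil_spec h2 hψ g).2.1 hP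
    exact ⟨c, by rw [LinearMap.smul_apply, ← weilPart_coe, hφ]⟩
  obtain ⟨x₀, hx₀⟩ := Function.ne_iff.1 (fun h : φ.1 = 0 => h0 (Subtype.ext h))
  have hx : x₀ ≠ 0 := fun h => hx₀ (by
    have := congrFun (mem_part.1 φ.2) x₀
    subst h
    simp [parity_apply] at this ⊢
    linear_combination this / 2)
  let i : Fin n := ⟨0, by omega⟩
  let j : Fin n := ⟨1, by omega⟩
  have hij : i ≠ j := by simp [i, j]
  have hall : ∀ y : Fin n → F, y ≠ 0 → φ.1 y ≠ 0 := fun y hy hy0 => by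
    obtain ⟨g, hg⟩ := Cfsg.Agent.AutPSL.exists_gl_point hx i
    obtain ⟨k, hk⟩ := Cfsg.Agent.AutPSL.exists_gl_point hy i
    let A : GL (Fin n) F := g * k⁻¹
    have hA : A.1 *ᵥ y = x₀ := by
      rw [← hk, Matrix.mulVec_mulVec, ← Units.val_mul]
      simpa [A] using hg
    let B : GL (Fin n) F := ⟨A.1ᵀ, (A⁻¹).1ᵀ,
      by rw [← Matrix.transpose_mul, Units.inv_mul, Matrix.transpose_one],
      by rw [← Matrix.transpose_mul, Units.mul_inv, Matrix.transpose_one]⟩
    obtain ⟨c, hc⟩ := hfix _ _ (intw_levi ψ B)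
    have := congrFun hc y
    rw [Pi.smul_apply, hy0, smul_zero] at this
    exact hx₀ (by simpa [leviOp, B, hA] using this)
  obtain ⟨t, ht⟩ := AddChar.ne_one_iff.1 hψ
  obtain ⟨c, hc⟩ := hfix _ _ (intw_siegel h2 ψ (isSymm_single i (-(2 * t))))
  have h1 := congrFun hc (Pi.single i 1)
  have h3 := congrFun hc (Pi.single j 1)
  simp only [siegelOp, LinearMap.coe_mk, AddHom.coe_mk, Pi.smul_apply, smul_eq_mul,
    Matrix.mulVec_single_one, single_dotProduct, Matrix.col_apply, one_mul] at h1 h3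
  rw [Matrix.single_apply_same] at h1
  rw [Matrix.single_apply_of_ne (h := by simp [hij]), mul_zero, neg_zero,
    AddChar.map_zero_eq_one] at h3
  have e1 := mul_right_cancel₀ (hall _ (by simp)) h1
  have e3 := mul_right_cancel₀ (hall _ (by simp)) h3
  rw [← e3, hf] at e1
  exact ht (by simpa [← mul_assoc, inv_mul_cancel₀ h2] using e1)

theorem weilOdd_isIrreducible (h2 : (2 : F) ≠ 0) {ψ : AddChar F ℂ} (hψ : ψ ≠ 1) (hn : 2 ≤ n) :
    (weilPart (n := n) h2 hψ (-1)).IsIrreducible := by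
  have hdim := finrank_part_neg_one (n := n) h2
  have hq : 3 ≤ Fintype.card F ^ n := by
    calc 3 ≤ 2 ^ 2 := by norm_num
      _ ≤ Fintype.card F ^ 2 := Nat.pow_le_pow_left Fintype.one_lt_card 2
      _ ≤ _ := Nat.pow_le_pow_right Fintype.card_pos hn
  haveI : Nontrivial (part n F (-1)) :=
    Module.finrank_pos_iff (R := ℂ).1 (by omega)
  set ρ := weilPart (n := n) h2 hψ (-1)
  haveI : Nontrivial (Subrepresentation ρ) :=
    ⟨⊥, ⊤, fun e => bot_ne_top (α := Submodule ℂ (part n F (-1)))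
      (congrArg Subrepresentation.toSubmodule e)⟩
  refine ⟨fun S => ?_⟩
  by_contra! h
  obtain ⟨φ, hφ, h0⟩ := Submodule.exists_mem_ne_zero_of_ne_bot (fun e : S.toSubmodule = ⊥ =>
    h.1 (Subrepresentation.toSubmodule_injective e))
  have hlt : Module.finrank ℂ S.toSubmodule < (Fintype.card F ^ n - 1) / 2 := by
    rw [← hdim]
    exact Submodule.finrank_lt fun e => h.2 (Subrepresentation.toSubmodule_injective e)
  have htriv : ∀ g, S.toRepresentation g = 1 := fun g => by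
    by_contra hg
    exact (finrank_ge_of_ne_one (W := ↥S.toSubmodule) h2 S.toRepresentation ⟨g, hg⟩).not_gt hlt
  refine h0 (eq_zero_of_fixed h2 hψ hn fun g => ?_)
  exact congrArg Subtype.val (LinearMap.congr_fun (htriv g) ⟨φ, hφ⟩)

end Cfsg.Agent.SpWeil
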