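import Cfsg.Agent.Lib.SpWeil.RigidityEquiv
import Cfsg.Agent.Lib.SpWeil.Weil
import Cfsg.Agent.Lib.Char.Basic

/-!
# The weights of the Weil representation
* `weil_sieg` : the Siegel elements act by `siegelOp` exactly
* `weilPart_rankOne`, `exists_wt_weilPart`, `weilPart_wt_unique`, `weilPart_center`
* `weilPart_isIrreducible` : both halves are irreducible
-/

set_option autoImplicit false

open Matrix

namespace Cfsg.Agent.SpWeil

open Cfsg.Agent.Linear

variable {n : ℕ} {F : Type*} [Field F]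

local notation "V" => (Fin n ⊕ Fin n → F)
local notation "𝓦" => ((Fin n → F) → ℂ)

theorem spLevi_neg_one_comm (g : Cfsg.spGL n F) :
    spLevi (-1 : GL (Fin n) F) * g = g * spLevi (-1 : GL (Fin n) F) := by
  obtain ⟨ea, eb, ec, ed⟩ := blk_mul (spLevi (-1 : GL (Fin n) F)) g
  obtain ⟨fa, fb, fc, fd⟩ := blk_mul g (spLevi (-1 : GL (Fin n) F))
  refine spGL_ext_blk ?_ ?_ ?_ ?_ <;> simp [ea, eb, ec, ed, fa, fb, fc, fd]

theorem siegelOp_apply (ψ : AddChar F ℂ) (B : Matrix (Fin n) (Fin n) F) (φ : 𝓦) (x : Fin n → F) :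
    siegelOp ψ B φ x = ψ (-(hf F * (x ⬝ᵥ B *ᵥ x))) * φ x := rfl

theorem siegelOp_add (ψ : AddChar F ℂ) (B C : Matrix (Fin n) (Fin n) F) :
    siegelOp ψ (B + C) = siegelOp ψ B * siegelOp ψ C :=
  LinearMap.ext fun φ => funext fun x => by
    simp only [Module.End.mul_apply, siegelOp_apply, ← mul_assoc, ← AddChar.map_add_eq_mul,
      Matrix.add_mulVec, dotProduct_add]
    ring_nf

theorem leviOp_mul_siegelOp (ψ : AddChar F ℂ) (A : GL (Fin n) F) (B : Matrix (Fin n) (Fin n) F) :
    leviOp A * siegelOp ψ B = siegelOp ψ (A.1 * B * A.1ᵀ) * leviOp A :=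
  LinearMap.ext fun φ => funext fun x => by
    show siegelOp ψ B φ (A.1ᵀ *ᵥ x) = siegelOp ψ (A.1 * B * A.1ᵀ) (leviOp A φ) x
    simp only [siegelOp_apply]
    rw [show x ⬝ᵥ (A.1 * B * A.1ᵀ) *ᵥ x = (A.1ᵀ *ᵥ x) ⬝ᵥ B *ᵥ (A.1ᵀ *ᵥ x) by
      rw [← Matrix.mulVec_mulVec, ← Matrix.mulVec_mulVec, Matrix.dotProduct_mulVec,
        ← Matrix.mulVec_transpose]]
    rfl

theorem leviOp_neg_one : leviOp (-1 : GL (Fin n) F) = parity n F :=
  LinearMap.ext fun φ => funext fun x => by
    show φ (((-1 : GL (Fin n) F)).1ᵀ *ᵥ x) = φ (-x)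
    simp [Matrix.neg_mulVec]

theorem ne_one_mulShift {ψ : AddChar F ℂ} (hψ : ψ ≠ 1) {ν : F} (hν : ν ≠ 0) :
    AddChar.mulShift ψ ν ≠ 1 := by
  obtain ⟨t, ht⟩ := AddChar.ne_one_iff.1 hψ
  refine AddChar.ne_one_iff.2 ⟨t / ν, ?_⟩
  rwa [AddChar.mulShift_apply, mul_div_cancel₀ _ hν]

/-- The weight attached to the point `x`. -/
def wS (ν : F) (x : Fin n → F) : symMat n F :=
  ⟨(-(ν * hf F)) • Matrix.vecMulVec x x,
    (show (Matrix.vecMulVec x x).IsSymm from Matrix.transpose_vecMulVec x x).smul _⟩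

theorem symChar_wS (ψ : AddChar F ℂ) (ν : F) (x : Fin n → F) (B : symMat n F) :
    symChar ψ (wS ν x) B = AddChar.mulShift ψ ν (-(hf F * (x ⬝ᵥ B.1 *ᵥ x))) := by
  rw [symChar_apply, AddChar.mulShift_apply]
  congr 1
  rw [wS, Matrix.smul_mul, Matrix.trace_smul, Matrix.vecMulVec_mul, Matrix.trace_vecMulVec,
    smul_eq_mul, dotProduct_comm x (x ᵥ* B.1), ← Matrix.dotProduct_mulVec]
  ring

variable [Fintype F] (h2 : (2 : F) ≠ 0) {ψ : AddChar F ℂ} (hψ : ψ ≠ 1)

/-- The Siegel elements act without a scalar. -/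
theorem weil_sieg (hn : 2 ≤ n) (B : symMat n F) :
    weil h2 hψ (sieg B) = siegelOp ψ B.1 := by
  classical
  set W := weil (n := n) h2 hψ
  have hW : ∀ g, W g ≠ 0 := fun g h => by
    have := (weil_spec (n := n) h2 hψ g).1
    rw [show weil h2 hψ g = W g from rfl, h] at this
    exact not_isUnit_zero this
  choose c hc using fun B : symMat n F =>
    intw_unique h2 hψ (weil_spec h2 hψ (sieg B)).1 (weil_spec h2 hψ (sieg B)).2.1
      (intw_siegel h2 ψ B.2)
  have hcan : ∀ {g} {a b : ℂ}, a • W g = b • W g → a = b := fun h => smul_left_injective ℂ (hW _) h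
  have hmul : ∀ B C, c (B + C) = c B * c C := fun B C => hcan (g := sieg (B + C)) (by
    rw [← hc, show ((B + C : symMat n F)).1 = B.1 + C.1 from rfl, siegelOp_add, hc, hc,
      smul_mul_smul_comm, ← map_mul, sieg_mul])
  have hone : c 0 = 1 := hcan (g := sieg 0) (by
    rw [← hc, one_smul, sieg_zero, map_one]
    refine LinearMap.ext fun φ => funext fun x => ?_
    simp [siegelOp_apply])
  have hconj : ∀ (A : GL (Fin n) F) (B : symMat n F), c (congrMat A.1 B) = c B := fun A B => by
    obtain ⟨k, hk⟩ := intw_unique h2 hψ (weil_spec h2 hψ (spLevi A)).1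
      (weil_spec h2 hψ (spLevi A)).2.1 (intw_levi ψ A)
    have hk0 : k ≠ 0 := fun h => by
      rw [h, zero_smul] at hk
      have := LinearMap.congr_fun hk (fun _ => (1 : ℂ))
      exact one_ne_zero (congrFun this 0)
    have e := leviOp_mul_siegelOp ψ A B.1
    rw [show A.1 * B.1 * A.1ᵀ = (congrMat A.1 B).1 from rfl, hc, hc, hk, smul_mul_smul_comm,
      smul_mul_smul_comm, ← map_mul, ← map_mul,
      show sieg (congrMat A.1 B) * spLevi A = spLevi A * sieg B by
        rw [← spLevi_conj_sieg, inv_mul_cancel_right]] at e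
    exact (mul_left_cancel₀ hk0 ((hcan e).trans (mul_comm _ _))).symm
  have hdiag : ∀ (l : Fin n) t, c (diagMat l t) = 1 ∧ ∀ i, i ≠ l → c ⟨pairMat l i t, isSymm_pairMat l i t⟩ = 1 := by
    have hrel : ∀ (i l : Fin n) (h : l ≠ i) (s t : F),
        c ⟨pairMat l i (s * t), isSymm_pairMat _ _ _⟩ * c (diagMat l (s ^ 2 * t)) = 1 := by
      intro i l h s t
      have e : congrMat (tv h s).1 (diagMat i t) =
          diagMat i t + (⟨pairMat l i (s * t), isSymm_pairMat _ _ _⟩ + diagMat l (s ^ 2 * t)) := by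
        refine Subtype.ext ?_
        simp only [congrMat, tv_val, diagMat, AddSubgroup.coe_add, pairMat, Matrix.add_mul,
          Matrix.one_mul, Matrix.transpose_add, Matrix.transpose_one, Matrix.transpose_single,
          Matrix.mul_add, Matrix.mul_one, Matrix.single_mul_single_same, mul_comm t s]
        rw [show s * t * s = s ^ 2 * t by ring]
        abel
      have := hconj (tv h s) (diagMat i t)
      rw [e, hmul, hmul] at this
      have h0 : c (diagMat i t) ≠ 0 := fun h0 => by
        have := hmul (diagMat i t) (-diagMat i t)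
        rw [add_neg_cancel, hone, h0, zero_mul] at this
        exact one_ne_zero this
      exact mul_left_cancel₀ h0 (this.trans (mul_one _).symm)
    intro l t
    have hp : ∀ i, i ≠ l → ∀ t, c ⟨pairMat l i t, isSymm_pairMat l i t⟩ = 1 := fun i hi t => by
      have a := hrel i l hi.symm 1 (t / 2)
      have b := hrel i l hi.symm (-1) (t / 2)
      simp only [one_mul, one_pow, neg_one_sq, neg_one_mul] at a b
      have e : c ⟨pairMat l i (t / 2), isSymm_pairMat _ _ _⟩ =
          c ⟨pairMat l i (-(t / 2)), isSymm_pairMat _ _ _⟩ :=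
        mul_right_cancel₀ (right_ne_zero_of_mul_eq_one a) (a.trans b.symm)
      have e2 : (⟨pairMat l i t, isSymm_pairMat l i t⟩ : symMat n F) =
          ⟨pairMat l i (t / 2), isSymm_pairMat _ _ _⟩ +
            ⟨pairMat l i (t / 2), isSymm_pairMat _ _ _⟩ := Subtype.ext (by
        show _ = pairMat l i (t / 2) + pairMat l i (t / 2)
        simp only [pairMat]
        rw [add_add_add_comm, ← Matrix.single_add, ← Matrix.single_add,
          show t / 2 + t / 2 = t by field_simp; ring])
      rw [e2, hmul]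
      nth_rewrite 2 [e]
      rw [← hmul, show (⟨pairMat l i (t / 2), isSymm_pairMat _ _ _⟩ : symMat n F) +
          ⟨pairMat l i (-(t / 2)), isSymm_pairMat _ _ _⟩ = 0 from Subtype.ext (by
        show pairMat l i (t / 2) + pairMat l i (-(t / 2)) = 0
        simp only [pairMat]
        rw [add_add_add_comm, ← Matrix.single_add, ← Matrix.single_add, add_neg_cancel,
          Matrix.single_zero, Matrix.single_zero, add_zero]), hone]
    refine ⟨?_, fun i hi => hp i hi t⟩
    haveI : Nontrivial (Fin n) := Fin.nontrivial_iff_two_le.2 hn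
    obtain ⟨i, hi⟩ := exists_ne l
    have := hrel i l hi.symm 1 t
    simp only [one_mul, one_pow, hp i hi] at this
    exact this
  have hB : B = ∑ a, ∑ b, (⟨pairMat a b (B.1 a b / 2), isSymm_pairMat _ _ _⟩ : symMat n F) := by
    refine Subtype.ext ?_
    simp only [AddSubgroup.val_finsetSum, pairMat, Finset.sum_add_distrib]
    conv_rhs => rw [add_comm, Finset.sum_comm]
    have hs : ∀ a b, B.1 b a = B.1 a b := fun a b => B.2.apply a b
    simp only [hs]
    simp only [← Finset.sum_add_distrib, ← Matrix.single_add]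
    conv_lhs => rw [Matrix.matrix_eq_sum_single B.1]
    refine Finset.sum_congr rfl fun a _ => Finset.sum_congr rfl fun b _ => ?_
    congr 1
    field_simp
    ring
  have hcB : c B = 1 := by
    rw [hB]
    refine Finset.sum_induction _ (fun B => c B = 1) (fun a b ha hb => by rw [hmul, ha, hb, one_mul])
      hone fun a _ => ?_
    refine Finset.sum_induction _ (fun B => c B = 1) (fun a b ha hb => by rw [hmul, ha, hb, one_mul])
      hone fun b _ => ?_
    by_cases h : b = a
    · subst h
      have e : (⟨pairMat b b (B.1 b b / 2), isSymm_pairMat _ _ _⟩ : symMat n F) = diagMat b (B.1 b b) :=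
        Subtype.ext (by
          simp only [pairMat, diagMat, ← Matrix.single_add]
          congr 1
          field_simp
          ring)
      rw [e]
      exact (hdiag b _).1
    · exact (hdiag a _).2 b h
  rw [hc, hcB, one_smul]

theorem weilPart_sieg (hn : 2 ≤ n) {ν : F} (hν : ν ≠ 0) (s : ℤˣ) (B : symMat n F)
    (φ : part n F s) (x : Fin n → F) :
    (weilPart h2 (ne_one_mulShift hψ hν) s (sieg B) φ : 𝓦) x = symChar ψ (wS ν x) B * φ.1 x := by
  rw [weilPart_coe, weil_sieg h2 _ hn, siegelOp_apply, symChar_wS]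

/-- The weight of a weight vector is read off from its support. -/
theorem weilPart_wt_unique (hn : 2 ≤ n) {ν : F} (hν : ν ≠ 0) (s : ℤˣ) {S : symMat n F}
    {φ : part n F s} (hφ : IsWt (weilPart h2 (ne_one_mulShift hψ hν) s) ψ S φ) {x : Fin n → F}
    (hx : φ.1 x ≠ 0) : S = wS ν x := by
  refine symChar_injective h2 hψ fun B => mul_right_cancel₀ hx ?_
  have := congrFun (congrArg Subtype.val (hφ B)) x
  rw [weilPart_sieg h2 hψ hn hν] at this
  simpa [eq_comm] using this

theorem weilPart_rankOne (hn : 2 ≤ n) {ν : F} (hν : ν ≠ 0) (s : ℤˣ) :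
    RankOne (weilPart (n := n) h2 (ne_one_mulShift hψ hν) s) ψ := by
  intro S φ hφ hwt a b c d
  obtain ⟨x, hx⟩ := Function.ne_iff.1 fun h : φ.1 = 0 => hφ (Subtype.ext h)
  rw [weilPart_wt_unique h2 hψ hn hν s hwt hx]
  simp only [wS, Matrix.smul_apply, Matrix.vecMulVec_apply, smul_eq_mul]
  ring

theorem exists_wt_weilPart (hn : 2 ≤ n) {ν : F} (hν : ν ≠ 0) (s : ℤˣ) (j : Fin n) :
    ∃ φ : part n F s, φ ≠ 0 ∧
      IsWt (weilPart h2 (ne_one_mulShift hψ hν) s) ψ (diagMat j (-(ν * hf F))) φ := by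
  classical
  let δ : 𝓦 := Pi.single (Pi.single j 1) 1
  refine ⟨⟨proj' n F s δ, proj'_mem s δ⟩, fun h => ?_, fun B => Subtype.ext (funext fun x => ?_)⟩
  · have := congrFun (congrArg Subtype.val h) (Pi.single j 1)
    have hne : (-Pi.single j 1 : Fin n → F) ≠ Pi.single j 1 := fun e => h2 (by
      have := congrFun e j
      simp at this
      linear_combination -this)
    simp [proj', parity_apply, δ, hne] at this
  rw [weilPart_sieg h2 hψ hn hν]
  show _ * proj' n F s δ x = symChar ψ _ B * proj' n F s δ x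
  by_cases h0 : proj' n F s δ x = 0
  · rw [h0, mul_zero, mul_zero]
  have hx : x = Pi.single j 1 ∨ x = -Pi.single j 1 := by
    by_contra! hx
    have hx' : -x ≠ Pi.single j 1 := fun e => hx.2 (by rw [← e, neg_neg])
    exact h0 (by simp [proj', parity_apply, δ, hx.1, hx'])
  suffices hw : wS ν x = diagMat j (-(ν * hf F)) by rw [hw]
  refine Subtype.ext (Matrix.ext fun a b => ?_)
  rcases hx with rfl | rfl <;>
    by_cases ha : a = j <;> by_cases hb : b = j <;>
      simp [wS, diagMat, Matrix.vecMulVec_apply, ha, hb, Ne.symm, Matrix.single_apply]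

/-- The central scalar of the Weil representation. -/
theorem weilPart_center : ∃ c : ℂ, c * c = 1 ∧ ∀ (s : ℤˣ) (φ : part n F s),
    weilPart h2 hψ s (spLevi (-1)) φ = (c * ((s : ℤ) : ℂ)) • φ := by
  classical
  obtain ⟨k, hk⟩ := intw_unique h2 hψ (weil_spec h2 hψ (spLevi (-1 : GL (Fin n) F))).1
    (weil_spec h2 hψ (spLevi (-1 : GL (Fin n) F))).2.1 (intw_levi ψ (-1 : GL (Fin n) F))
  rw [leviOp_neg_one] at hk
  have hk0 : k ≠ 0 := fun h => by
    rw [h, zero_smul] at hk
    exact one_ne_zero (congrFun (LinearMap.congr_fun hk (fun _ => (1 : ℂ))) 0)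
  have hW : weil h2 hψ (spLevi (-1 : GL (Fin n) F)) = k⁻¹ • parity n F := by
    rw [hk, smul_smul, inv_mul_cancel₀ hk0, one_smul]
  refine ⟨k⁻¹, ?_, fun s φ => Subtype.ext ?_⟩
  · have e : weil h2 hψ (spLevi (-1 : GL (Fin n) F)) * weil h2 hψ (spLevi (-1)) = 1 := by
      rw [← map_mul, ← map_mul spLevi, neg_mul_neg, one_mul, map_one, map_one]
    rw [hW, smul_mul_smul_comm, parity_mul_self] at e
    have := congrFun (LinearMap.congr_fun e (fun _ => (1 : ℂ))) 0
    simpa using this
  · rw [weilPart_coe, hW, LinearMap.smul_apply, mem_part.1 φ.2, smul_smul]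
    rfl

/-- No non-zero fixed vector in either half. -/
theorem eq_zero_of_fixed' (hn : 2 ≤ n) (s : ℤˣ) {φ : part n F s}
    (hφ : ∀ g, weilPart h2 hψ s g φ = φ) : φ = 0 := by
  classical
  have hfix : ∀ g, weil h2 hψ g φ.1 = φ.1 := fun g => by rw [← weilPart_coe, hφ]
  have hsupp : ∀ x, x ≠ 0 → φ.1 x = 0 := fun x hx => by
    by_contra hne
    obtain ⟨l, hl⟩ := Function.ne_iff.1 hx
    obtain ⟨t, ht⟩ := AddChar.ne_one_iff.1 hψ
    set u := -(2 * t) / (x l * x l)
    have := congrFun (hfix (sieg (diagMat l u))) x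
    rw [weil_sieg h2 hψ hn, siegelOp_apply] at this
    have e : -(hf F * (x ⬝ᵥ (diagMat l u).1 *ᵥ x)) = t := by
      simp only [diagMat, Matrix.single_mulVec, Function.update_apply, dotProduct,
        Pi.zero_apply, mul_ite, mul_zero, Finset.sum_ite_eq', Finset.mem_univ, if_true, u, hf]
      have hl' : x l ≠ 0 := hl
      field_simp
    rw [e] at this
    exact ht (mul_right_cancel₀ hne (this.trans (one_mul _).symm))
  by_contra h0
  have hφ0 : φ.1 0 ≠ 0 := fun h => h0 (Subtype.ext (funext fun x => by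
    by_cases hx : x = 0
    · rw [hx, h]; rfl
    · rw [hsupp x hx]; rfl))
  let i : Fin n := ⟨0, by omega⟩
  let v : V := Pi.single (Sum.inl i) 1
  let g : Cfsg.spGL n F := swapSet {i}
  have hv : sch ψ v φ.1 = φ.1 := funext fun x => by
    rw [sch_apply]
    have e : v ∘ Sum.inr = (0 : Fin n → F) := funext fun a => by simp [v]
    rw [e, add_zero]
    by_cases hx : x = 0
    · subst hx; simp
    · rw [hsupp x hx, mul_zero]
  have e := LinearMap.congr_fun ((weil_spec h2 hψ g).2.1 v) φ.1
  simp only [Module.End.mul_apply, hv, hfix] at e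
  set w : Fin n → F := (g • v) ∘ Sum.inr
  have hw : w = Pi.single i 1 := by
    funext a
    show (g • v) (Sum.inr a) = _
    rw [spGL_smul_blocks]
    simp [g, v, ind, Pi.single_apply, Matrix.mulVec, dotProduct, Matrix.diagonal_apply,
      Finset.sum_ite_eq']
  have := congrFun e (-w)
  rw [sch_apply, neg_add_cancel, hsupp (-w) (by simp [hw])] at this
  exact hφ0 ((mul_eq_zero.1 this.symm).resolve_left (fun h => by
    have := congrArg (fun z => z * ψ (-((g • v) ∘ Sum.inl ⬝ᵥ -w +
      hf F * ((g • v) ∘ Sum.inl ⬝ᵥ w)))) h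
    simp only [zero_mul, ← AddChar.map_add_eq_mul, w, add_neg_cancel, AddChar.map_zero_eq_one]
      at this
    exact one_ne_zero this))

theorem weilPart_isIrreducible (hn : 2 ≤ n) (s : ℤˣ) :
    (weilPart (n := n) h2 hψ s).IsIrreducible := by
  classical
  set m := (Fintype.card F ^ n - 1) / 2 with hm
  have hdim : Module.finrank ℂ (part n F s) ≤ m + 1 ∧ 0 < Module.finrank ℂ (part n F s) := by
    have hm1 := finrank_part_neg_one (n := n) h2
    have hp1 := finrank_part_one (n := n) h2
    have hq : 3 ≤ Fintype.card F ^ n := by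
      calc 3 ≤ 2 ^ 2 := by norm_num
        _ ≤ Fintype.card F ^ 2 := Nat.pow_le_pow_left Fintype.one_lt_card 2
        _ ≤ _ := Nat.pow_le_pow_right Fintype.card_pos hn
    rcases Int.units_eq_one_or s with rfl | rfl <;> omega
  have hm4 : 4 ≤ m := by
    have hodd : Fintype.card F % 2 = 1 := FiniteField.odd_card_of_char_ne_two fun hr => h2 (by
      haveI : CharP F 2 := ringChar.of_eq hr
      exact CharTwo.two_eq_zero)
    have : 9 ≤ Fintype.card F ^ n := calc
      9 = 3 ^ 2 := by norm_num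
      _ ≤ Fintype.card F ^ 2 := Nat.pow_le_pow_left
        (by have := Fintype.one_lt_card (α := F); omega) 2
      _ ≤ _ := Nat.pow_le_pow_right Fintype.card_pos hn
    omega
  set τ := weilPart (n := n) h2 hψ s
  haveI : Nontrivial (part n F s) := Module.finrank_pos_iff (R := ℂ).1 hdim.2
  have hsmall : ∀ p : Subrepresentation τ, Module.finrank ℂ p.toSubmodule < m →
      p.toSubmodule = ⊥ := fun p hp => by
    rw [Submodule.eq_bot_iff]
    intro φ hφ
    refine eq_zero_of_fixed' h2 hψ hn s fun g => ?_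
    have htriv : p.toRepresentation g = 1 := by
      by_contra hg
      exact (finrank_ge_of_ne_one (W := ↥p.toSubmodule) h2 p.toRepresentation ⟨g, hg⟩).not_gt hp
    exact congrArg Subtype.val (LinearMap.congr_fun htriv ⟨φ, hφ⟩)
  refine CharApp.isIrreducible_of_forall_invariant τ fun W hW => ?_
  let p : Subrepresentation τ := ⟨W, hW⟩
  obtain ⟨q, hq⟩ := Char.exists_isCompl _ τ p
  have hsum := Submodule.finrank_add_eq_of_isCompl hq
  by_cases h : Module.finrank ℂ p.toSubmodule < m
  · exact Or.inl (hsmall p h)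
  · right
    have hqb := hsmall q (by omega)
    have := hq
    rw [hqb] at this
    exact eq_top_of_isCompl_bot this

end Cfsg.Agent.SpWeil
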