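import Cfsg.Agent.Lib.SpWeil.OrbitBound
import Cfsg.Agent.Lib.SpWeil.WeilWeights
import Cfsg.Agent.Lib.Char.Inner

/-!
# The irreducible representations of small degree of `Sp_{2n}(q)`, `q` odd
* `rankOne_of_degree` : small degree forces weights of rank one
* `character_eq_weilPart`, `weilPart_character_ne` : the four halves of the two Weil representations
-/

set_option autoImplicit false

open Matrix

namespace Cfsg.Agent.SpWeil

open Cfsg.Agent.Linear

variable {n : ℕ} {F : Type*} [Field F] [Fintype F] {W : Type*} [AddCommGroup W] [Module ℂ W]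

theorem rankOne_of_degree [FiniteDimensional ℂ W] (h2 : (2 : F) ≠ 0) (hn : 2 ≤ n)
    {ψ : AddChar F ℂ} (hψ : ψ ≠ 1) (ρ : Representation ℂ (Cfsg.spGL n F) W)
    (hdeg : 2 * (Fintype.card F + 1) * Module.finrank ℂ W <
      (Fintype.card F ^ n - 1) * (Fintype.card F ^ n - Fintype.card F)) :
    RankOne ρ ψ := by
  intro S v hv hwt
  by_contra h
  have hbound := card_orbit_rank_two h2 hn S.2 h
  let X : Set (symMat n F) := {T | T.1 ∈ congrOrbit S.1}
  have hX : Nat.card X ≤ Module.finrank ℂ W := by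
    refine card_le_finrank_of_hasWeight h2 hψ ρ X ?_
    rintro T ⟨A, hA⟩
    have := hasWeight_congr (⟨v, hv, hwt⟩ : HasWeight ρ ψ S) A
    convert this using 1
    exact Subtype.ext (by simpa [congrMat] using hA.symm)
  have hcard : Nat.card (congrOrbit S.1) ≤ Nat.card X := by
    refine Nat.card_le_card_of_injective
      (fun T : congrOrbit S.1 => (⟨⟨T.1, ?_⟩, T.2⟩ : X)) fun a b e => ?_
    · obtain ⟨A, hA⟩ := T.2
      rw [← hA]
      exact (by simpa using isSymm_congr S.2 A.1ᵀ : (A.1ᵀ * S.1 * A.1).IsSymm)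
    · exact Subtype.ext (congrArg (fun z : X => z.1.1) e)
  have := Nat.mul_le_mul_left (2 * (Fintype.card F + 1)) (hcard.trans hX)
  omega

/-- The two scalars `1` and `ν₀`. -/
def nu (ν₀ : F) (b : Bool) : F := if b then ν₀ else 1

omit [Fintype F] in
theorem nu_ne_zero {ν₀ : F} (h : ¬IsSquare ν₀) (b : Bool) : nu ν₀ b ≠ 0 := by
  cases b
  · exact one_ne_zero
  · rintro (e : ν₀ = 0)
    exact h ⟨0, by simp [e]⟩

theorem exists_nu {ν₀ : F} (h2 : (2 : F) ≠ 0) (h : ¬IsSquare ν₀) {μ : F} (hμ : μ ≠ 0) :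
    ∃ b r, r ≠ 0 ∧ μ = nu ν₀ b * (r * r) := by
  classical
  by_cases hs : IsSquare μ
  · obtain ⟨r, rfl⟩ := hs
    exact ⟨false, r, fun e => hμ (by simp [e]), by simp [nu]⟩
  · have hc : ringChar F ≠ 2 := fun hr => h2 (by
      haveI : CharP F 2 := ringChar.of_eq hr
      exact CharTwo.two_eq_zero)
    have hν : ν₀ ≠ 0 := nu_ne_zero h true
    have e1 := (quadraticChar_neg_one_iff_not_isSquare).2 hs
    have e2 := (quadraticChar_neg_one_iff_not_isSquare).2 h
    have e3 : quadraticChar F (μ * ν₀) = 1 := by rw [map_mul, e1, e2]; norm_num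
    obtain ⟨r, hr⟩ := (quadraticChar_one_iff_isSquare (mul_ne_zero hμ hν)).1 e3
    refine ⟨true, r / ν₀, div_ne_zero (fun e => mul_ne_zero hμ hν (by simp [hr, e])) hν, ?_⟩
    simp only [nu, if_true]
    field_simp
    linear_combination hr

variable (h2 : (2 : F) ≠ 0) {ψ : AddChar F ℂ} (hψ : ψ ≠ 1) {ν₀ : F} (hν₀ : ¬IsSquare ν₀)

/-- The character of one half of a Weil representation. -/
noncomputable def wchar (b : Bool) (s : ℤˣ) : Cfsg.spGL n F → ℂ :=
  (weilPart (n := n) h2 (ne_one_mulShift hψ (nu_ne_zero hν₀ b)) s).character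

include h2 hψ hν₀ in
theorem character_eq_weilPart [FiniteDimensional ℂ W] (hn : 2 ≤ n)
    (ρ : Representation ℂ (Cfsg.spGL n F) W) [ρ.IsIrreducible] (hnt : ∃ g, ρ g ≠ 1)
    (hdeg : 2 * (Fintype.card F + 1) * Module.finrank ℂ W <
      (Fintype.card F ^ n - 1) * (Fintype.card F ^ n - Fintype.card F)) :
    ∃ b s, ρ.character = wchar (n := n) h2 hψ hν₀ b s := by
  classical
  have hρ := rankOne_of_degree h2 hn hψ ρ hdeg
  obtain ⟨B₀, hB⟩ := exists_siegel_ne_one ρ hnt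
  obtain ⟨S, hS0, v, hv, hwt⟩ := exists_hasWeight_of_ne_one h2 hψ ρ B₀ hB
  obtain ⟨j, hj⟩ := rankOne_exists_diag (hρ S v hv hwt) hS0
  obtain ⟨a, ha⟩ := mem_orb_diagMat (hρ S v hv hwt) hj
  set d := S.1 j j
  set M := rowElt j a
  set v₀ := ρ (spLevi M⁻¹) v
  have hw₀ : IsWt ρ ψ (diagMat j d) v₀ := by
    have := isWt_levi hwt M⁻¹
    rwa [← ha, act_inv_cancel] at this
  have hv₀ : v₀ ≠ 0 := fun e => hv (by
    have := congrArg (ρ (spLevi M⁻¹)⁻¹) e
    rwa [map_zero, rho_inv_cancel] at this)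
  have hf0 : hf F ≠ 0 := inv_ne_zero h2
  obtain ⟨b, r, hr, hμ⟩ := exists_nu h2 hν₀ (div_ne_zero hj (neg_ne_zero.2 hf0))
  have hd : d = r * r * -(nu ν₀ b * hf F) := by
    rw [div_eq_iff (neg_ne_zero.2 hf0)] at hμ
    linear_combination hμ
  set hν := nu_ne_zero hν₀ b
  -- the central scalar
  obtain ⟨ε, hε⟩ := CharApp.exists_scalar_of_commute ρ (ρ (spLevi (-1 : GL (Fin n) F))) fun g => by
    rw [← map_mul, ← map_mul, spLevi_neg_one_comm]
  have hcρ : ∀ w, ρ (spLevi (-1 : GL (Fin n) F)) w = ε • w := fun w => by rw [hε]; rfl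
  have hε2 : ε * ε = 1 := by
    refine smul_left_injective ℂ hv₀ (?_ : (ε * ε) • v₀ = (1 : ℂ) • v₀)
    have e : ρ (spLevi (-1 : GL (Fin n) F)) (ρ (spLevi (-1 : GL (Fin n) F)) v₀) = v₀ := by
      rw [← rho_apply_mul, ← map_mul spLevi, neg_mul_neg, one_mul, map_one, map_one,
        Module.End.one_apply]
    rw [hcρ v₀, map_smul, hcρ v₀, smul_smul] at e
    rw [e, one_smul]
  obtain ⟨c, hc2, hc⟩ := weilPart_center (n := n) h2 (ne_one_mulShift hψ hν)
  obtain ⟨s, hs⟩ : ∃ s : ℤˣ, ε = c * ((s : ℤ) : ℂ) := by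
    rcases mul_self_eq_mul_self_iff.1 (hε2.trans hc2.symm) with e | e
    · exact ⟨1, by simp [e]⟩
    · exact ⟨-1, by simp [e]⟩
  set σ := weilPart (n := n) h2 (ne_one_mulShift hψ hν) s
  haveI : σ.IsIrreducible := weilPart_isIrreducible h2 _ hn s
  obtain ⟨φ, hφ, hφw⟩ := exists_wt_weilPart h2 hψ hn hν s j
  let A := dgl j (t := r⁻¹) (inv_ne_zero hr)
  have hact : act A (diagMat j (-(nu ν₀ b * hf F))) = diagMat j d := by
    refine Subtype.ext (Matrix.ext fun x y => ?_)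
    rw [act_diagMat_apply, dgl_inv_val, inv_inv]
    by_cases hx : x = j <;> by_cases hy : y = j <;>
      simp [diagMat, ind_singleton, Matrix.single_apply, hx, hy, Ne.symm, hd, mul_comm]
  have hφ' : σ (spLevi A) φ ≠ 0 := fun e => hφ (by
    have := congrArg (σ (spLevi A)⁻¹) e
    rwa [map_zero, rho_inv_cancel] at this)
  obtain ⟨e, he⟩ := exists_equiv h2 hψ hn hρ (weilPart_rankOne h2 hψ hn hν s) hj hcρ
    (fun φ => by rw [hc s φ, hs]) hv₀ hw₀ hφ' (hact ▸ isWt_levi hφw A)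
  exact ⟨b, s, Representation.char_iso (Representation.Equiv.mk e fun g => LinearMap.ext (he g))⟩

theorem two_mul_wchar_one (b : Bool) (s : ℤˣ) :
    2 * wchar (n := n) h2 hψ hν₀ b s 1 = (Fintype.card F : ℂ) ^ n + ((s : ℤ) : ℂ) := by
  rw [wchar, Representation.char_one, two_mul_finrank_part h2]

theorem isIrrCharacter_wchar (hn : 2 ≤ n) (b : Bool) (s : ℤˣ) :
    Cfsg.IsIrrCharacter _ (wchar (n := n) h2 hψ hν₀ b s) :=
  Char.isIrrCharacter_character _
    (h := weilPart_isIrreducible h2 (ne_one_mulShift hψ (nu_ne_zero hν₀ b)) hn s)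

theorem weilPart_character_ne (hn : 2 ≤ n) (s : ℤˣ) :
    wchar (n := n) h2 hψ hν₀ false s ≠ wchar h2 hψ hν₀ true s := by
  intro h
  obtain ⟨e⟩ := Char.equiv_of_character_eq _ _ h
  let j : Fin n := ⟨0, by omega⟩
  obtain ⟨φ, hφ, hw⟩ := exists_wt_weilPart h2 hψ hn (nu_ne_zero hν₀ false) s j
  set φ' := e.toLinearEquiv φ
  have hw' : IsWt (weilPart (n := n) h2 (ne_one_mulShift hψ (nu_ne_zero hν₀ true)) s) ψ
      (diagMat j (-(nu ν₀ false * hf F))) φ' := fun B => by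
    have := e.toIntertwiningMap.isIntertwining _ _ (sieg B) φ
    rw [hw B] at this
    exact (this.symm.trans (map_smul e.toLinearEquiv _ φ))
  have hφ' : φ' ≠ 0 := fun h0 => hφ (e.toLinearEquiv.map_eq_zero_iff.1 h0)
  obtain ⟨x, hx⟩ := Function.ne_iff.1 fun h : φ'.1 = 0 => hφ' (Subtype.ext h)
  have := congrArg (fun S : symMat n F => S.1 j j)
    (weilPart_wt_unique h2 hψ hn (nu_ne_zero hν₀ true) s hw' hx)
  simp only [diagMat, wS, Matrix.single_apply_same, Matrix.smul_apply, Matrix.vecMulVec_apply,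
    smul_eq_mul, nu, Bool.false_eq_true, if_false, if_true] at this
  have hf0 : hf F ≠ 0 := inv_ne_zero h2
  have h1 : 1 = ν₀ * (x j * x j) := mul_left_cancel₀ (neg_ne_zero.2 hf0) (by linear_combination this)
  have hx0 : x j ≠ 0 := fun e => by rw [e] at h1; simp at h1
  exact hν₀ ⟨(x j)⁻¹, by field_simp; linear_combination -h1⟩

end Cfsg.Agent.SpWeil
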