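import Cfsg.Agent.Lib.SpWeil.Bound
import Cfsg.Agent.Lib.SpWeil.QuadOrbit

/-!
# The smallest degree of a non-trivial representation of `Sp_{2n}(q)`, `q` even
* `finrank_ge_of_ne_one_even` : degree at least `(q^n - 1)(q^n - q)/(2(q+1))`
-/

set_option autoImplicit false

open Matrix
open scoped LinearAlgebra.Projectivization

namespace Cfsg.Agent.SpWeil

open Cfsg.Agent.Linear

variable {n : ℕ} {F : Type*} [Field F]

variable (n F) in
/-- The symmetrised outer product `u vᵀ + v uᵀ`. -/
def symPair (u v : Fin n → F) : symMat n F :=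
  ⟨Matrix.vecMulVec u v + Matrix.vecMulVec v u, by
    show Matrix.IsSymm _
    rw [Matrix.IsSymm, Matrix.transpose_add, Matrix.transpose_vecMulVec,
      Matrix.transpose_vecMulVec, add_comm]⟩

variable (n F) in
/-- The square `u uᵀ`. -/
def symSq (u : Fin n → F) : symMat n F :=
  ⟨Matrix.vecMulVec u u, Matrix.transpose_vecMulVec u u⟩

/-- Scalar multiples in `symMat`. -/
def symScale (y : F) (M : symMat n F) : symMat n F := ⟨y • M.1, Matrix.IsSymm.smul M.2 y⟩

theorem mulShift_bijective [Fintype F] {ψ : AddChar F ℂ} (hψ : ψ.IsPrimitive) :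
    Function.Bijective ψ.mulShift := by
  classical
  exact (Fintype.bijective_iff_injective_and_card _).2
    ⟨AddChar.to_mulShift_inj_of_isPrimitive hψ, AddChar.card_eq.symm⟩

/-- The `F`-valued functional of a character of `symMat`. -/
noncomputable def coef [Fintype F] {ψ : AddChar F ℂ} (hψ : ψ.IsPrimitive)
    (χ : AddChar (symMat n F) ℂ) (M : symMat n F) : F :=
  Function.invFun ψ.mulShift (χ.compAddMonoidHom
    (AddMonoidHom.mk' (fun y => symScale y M) fun a b => Subtype.ext (add_smul a b M.1)))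

theorem coef_spec [Fintype F] {ψ : AddChar F ℂ} (hψ : ψ.IsPrimitive)
    (χ : AddChar (symMat n F) ℂ) (M : symMat n F) (y : F) :
    χ (symScale y M) = ψ (coef hψ χ M * y) := by
  have := Function.invFun_eq ((mulShift_bijective hψ).2 (χ.compAddMonoidHom
    (AddMonoidHom.mk' (fun y => symScale y M) fun a b => Subtype.ext (add_smul a b M.1))))
  rw [← AddChar.mulShift_apply]
  exact (DFunLike.congr_fun this y).symm

theorem coef_eq [Fintype F] {ψ : AddChar F ℂ} (hψ : ψ.IsPrimitive)
    (χ : AddChar (symMat n F) ℂ) (M : symMat n F) {c : F}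
    (h : ∀ y, χ (symScale y M) = ψ (c * y)) : coef hψ χ M = c :=
  (mulShift_bijective hψ).1 (AddChar.ext _ _ fun y => by
    rw [AddChar.mulShift_apply, AddChar.mulShift_apply, ← coef_spec, h])

theorem coef_add [Fintype F] {ψ : AddChar F ℂ} (hψ : ψ.IsPrimitive)
    (χ : AddChar (symMat n F) ℂ) (M N : symMat n F) :
    coef hψ χ (M + N) = coef hψ χ M + coef hψ χ N :=
  coef_eq hψ χ _ fun y => by
    rw [show symScale y (M + N) = symScale y M + symScale y N from Subtype.ext (smul_add y M.1 N.1),
      AddChar.map_add_eq_mul, coef_spec hψ χ M, coef_spec hψ χ N, ← AddChar.map_add_eq_mul,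
      add_mul]

theorem coef_smul [Fintype F] {ψ : AddChar F ℂ} (hψ : ψ.IsPrimitive)
    (χ : AddChar (symMat n F) ℂ) (t : F) (M : symMat n F) :
    coef hψ χ (symScale t M) = t * coef hψ χ M :=
  coef_eq hψ χ _ fun y => by
    rw [show symScale y (symScale t M) = symScale (y * t) M from Subtype.ext (smul_smul y t M.1),
      coef_spec hψ χ M]
    congr 1
    ring

/-- The quadratic function of a character. -/
noncomputable def charQuad [Fintype F] [CharP F 2] {ψ : AddChar F ℂ} (hψ : ψ.IsPrimitive)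
    (χ : AddChar (symMat n F) ℂ) : QuadFun n F where
  Q u := coef hψ χ (symSq n F u)
  β := LinearMap.mk₂ F (fun u v => coef hψ χ (symPair n F u v))
    (fun u u' v => by
      show coef hψ χ _ = coef hψ χ _ + coef hψ χ _
      rw [← coef_add]
      congr 1
      exact Subtype.ext (by simp [symPair, Matrix.add_vecMulVec, Matrix.vecMulVec_add]; abel))
    (fun t u v => by
      show coef hψ χ _ = t * coef hψ χ _
      rw [← coef_smul]
      congr 1
      exact Subtype.ext (by simp [symPair, symScale, Matrix.smul_vecMulVec, Matrix.vecMulVec_smul]))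
    (fun u v v' => by
      show coef hψ χ _ = coef hψ χ _ + coef hψ χ _
      rw [← coef_add]
      congr 1
      exact Subtype.ext (by simp [symPair, Matrix.add_vecMulVec, Matrix.vecMulVec_add]; abel))
    (fun t u v => by
      show coef hψ χ _ = t * coef hψ χ _
      rw [← coef_smul]
      congr 1
      exact Subtype.ext (by simp [symPair, symScale, Matrix.smul_vecMulVec, Matrix.vecMulVec_smul]))
  map_add u v := by
    show coef hψ χ _ = coef hψ χ _ + coef hψ χ _ + coef hψ χ _
    rw [← coef_add, ← coef_add]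
    congr 1
    exact Subtype.ext (by simp [symSq, symPair, Matrix.add_vecMulVec, Matrix.vecMulVec_add]; abel)
  map_smul t u := by
    show coef hψ χ _ = t ^ 2 * coef hψ χ _
    rw [← coef_smul]
    congr 1
    exact Subtype.ext (by
      simp [symSq, symScale, Matrix.smul_vecMulVec, Matrix.vecMulVec_smul, smul_smul, sq])
  alt u := by
    show coef hψ χ (symPair n F u u) = 0
    refine coef_eq hψ χ _ fun y => ?_
    rw [show symScale y (symPair n F u u) = 0 from Subtype.ext (by
      show y • (Matrix.vecMulVec u u + Matrix.vecMulVec u u) = 0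
      rw [← two_smul F, CharTwo.two_eq_zero (R := F), zero_smul, smul_zero]),
      AddChar.map_zero_eq_one, zero_mul, AddChar.map_zero_eq_one]

variable {W : Type*} [AddCommGroup W] [Module ℂ W]

/-- Eigenvectors of the Siegel group with a given character. -/
def HasSymWeight (ρ : Representation ℂ (Cfsg.spGL n F) W) (χ : AddChar (symMat n F) ℂ) : Prop :=
  ∃ v : W, v ≠ 0 ∧ ∀ B : symMat n F, ρ (sieg B) v = χ B • v

/-- The character `B ↦ χ (A B Aᵀ)`. -/
def congrChar (A : Matrix (Fin n) (Fin n) F) (χ : AddChar (symMat n F) ℂ) :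
    AddChar (symMat n F) ℂ :=
  χ.compAddMonoidHom (AddMonoidHom.mk' (congrMat A) fun B C => Subtype.ext (by
    simp [congrMat, Matrix.mul_add, Matrix.add_mul]))

theorem hasSymWeight_congr {ρ : Representation ℂ (Cfsg.spGL n F) W}
    {χ : AddChar (symMat n F) ℂ} (h : HasSymWeight ρ χ) (A : GL (Fin n) F) :
    HasSymWeight ρ (congrChar A.1 χ) := by
  obtain ⟨v, hv, hev⟩ := h
  refine ⟨ρ (spLevi A⁻¹) v, fun e => hv ?_, fun B => ?_⟩
  · have := congrArg (ρ (spLevi A)) e
    rwa [← Module.End.mul_apply, ← map_mul, ← map_mul, mul_inv_cancel, map_one, map_one, map_zero]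
      at this
  · have e : sieg B * spLevi A⁻¹ = spLevi A⁻¹ * sieg (congrMat A.1 B) := by
      rw [← spLevi_conj_sieg A B, map_inv]
      group
    rw [← Module.End.mul_apply, ← map_mul, e, map_mul, Module.End.mul_apply, hev, map_smul]
    rfl

theorem charQuad_congrChar [Fintype F] [CharP F 2] {ψ : AddChar F ℂ} (hψ : ψ.IsPrimitive)
    (χ : AddChar (symMat n F) ℂ) (A : Matrix (Fin n) (Fin n) F) (u : Fin n → F) :
    (charQuad hψ (congrChar A χ)).Q u = (charQuad hψ χ).Q (A *ᵥ u) := by
  show coef hψ (congrChar A χ) _ = coef hψ χ _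
  refine coef_eq hψ _ _ fun y => ?_
  rw [← coef_spec hψ χ]
  show χ (congrMat A (symScale y (symSq n F u))) = _
  congr 1
  exact Subtype.ext (by
    simp [congrMat, symScale, symSq, Matrix.mul_vecMulVec, Matrix.vecMulVec_mul,
      Matrix.vecMul_transpose])

theorem card_le_finrank_of_hasSymWeight [Fintype F] [FiniteDimensional ℂ W]
    (ρ : Representation ℂ (Cfsg.spGL n F) W) (X : Set (AddChar (symMat n F) ℂ))
    (hX : ∀ χ ∈ X, HasSymWeight ρ χ) : Nat.card X ≤ Module.finrank ℂ W := by
  classical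
  letI : Fintype (symMat n F) := Fintype.ofFinite _
  choose v hv hev using fun χ : X => hX χ.1 χ.2
  have hli : LinearIndependent ℂ v := by
    refine Fintype.linearIndependent_iff.2 fun c hc χ₀ => ?_
    let L : W →ₗ[ℂ] W := ∑ B : symMat n F, χ₀.1 (-B) • ρ (sieg B)
    have hL : ∀ χ : X, L (v χ) =
        (if χ = χ₀ then (Fintype.card (symMat n F) : ℂ) else 0) • v χ := fun χ => by
      simp only [L, LinearMap.sum_apply, LinearMap.smul_apply, hev, smul_smul, ← Finset.sum_smul]
      congr 1
      split_ifs with h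
      · subst h
        simp [← AddChar.map_add_eq_mul]
      · let θ : AddChar (symMat n F) ℂ :=
          χ₀.1.compAddMonoidHom (-AddMonoidHom.id _) * χ.1
        have hθ : θ ≠ 1 := fun e => h (Subtype.ext (AddChar.ext _ _ fun B => by
          have e1 : χ₀.1 (-B) * χ.1 B = 1 := by simpa [θ] using DFunLike.congr_fun e B
          calc χ.1 B = χ₀.1 B * (χ₀.1 (-B) * χ.1 B) := by
                rw [← mul_assoc, ← AddChar.map_add_eq_mul, add_neg_cancel,
                  AddChar.map_zero_eq_one, one_mul]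
            _ = χ₀.1 B := by rw [e1, mul_one]))
        simpa [θ] using AddChar.sum_eq_zero_of_ne_one hθ
    have := congrArg L hc
    rw [map_zero, map_sum, Finset.sum_eq_single χ₀ (fun χ _ h => by simp [map_smul, hL, h])
      (by simp), map_smul, hL, if_pos rfl, smul_smul, smul_eq_zero] at this
    simpa [hv χ₀, Fintype.card_ne_zero] using this
  rw [Nat.card_eq_fintype_card]
  exact hli.fintype_card_le_finrank

theorem exists_hasSymWeight [Fintype F] (ρ : Representation ℂ (Cfsg.spGL n F) W)
    (B₀ : symMat n F) (hB : ρ (sieg B₀) ≠ 1) :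
    ∃ χ : AddChar (symMat n F) ℂ, χ B₀ ≠ 1 ∧ HasSymWeight ρ χ := by
  classical
  letI : Fintype (symMat n F) := Fintype.ofFinite _
  by_contra! hno
  set P : AddChar (symMat n F) ℂ → Module.End ℂ W := fun χ => ∑ B, χ (-B) • ρ (sieg B) with hP
  have hmul : ∀ χ C, ρ (sieg C) * P χ = χ C • P χ := fun χ C => by
    simp only [hP, Finset.mul_sum, Finset.smul_sum, mul_smul_comm, ← map_mul, sieg_mul, smul_smul]
    refine Fintype.sum_equiv (Equiv.addLeft C) _ _ fun B => ?_
    rw [← AddChar.map_add_eq_mul]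
    simp
  have hfix : ∀ χ, ρ (sieg B₀) * P χ = P χ := fun χ => by
    by_cases hz : P χ = 0
    · rw [hz, mul_zero]
    obtain ⟨w, hw⟩ : ∃ w, P χ w ≠ 0 := by
      by_contra! h
      exact hz (LinearMap.ext h)
    have h1 : χ B₀ = 1 := by_contra fun h => hno χ h
      ⟨P χ w, hw, fun B => LinearMap.congr_fun (hmul χ B) w⟩
    rw [hmul, h1, one_smul]
  have hsum : ∑ χ, P χ = (Fintype.card (symMat n F) : ℂ) • (1 : Module.End ℂ W) := by
    simp only [hP]
    rw [Finset.sum_comm]
    simp_rw [← Finset.sum_smul, AddChar.sum_apply_eq_ite, neg_eq_zero, ite_smul, zero_smul]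
    rw [Finset.sum_ite_eq' Finset.univ (0 : symMat n F), if_pos (Finset.mem_univ _), sieg_zero,
      map_one]
  have h0 : (Fintype.card (symMat n F) : ℂ) ≠ 0 := Nat.cast_ne_zero.2 Fintype.card_ne_zero
  refine hB (smul_right_injective _ h0 ?_)
  show (Fintype.card (symMat n F) : ℂ) • ρ (sieg B₀) = _ • 1
  calc (Fintype.card (symMat n F) : ℂ) • ρ (sieg B₀) = ρ (sieg B₀) * ∑ χ, P χ := by
        rw [hsum, mul_smul_comm, mul_one]
    _ = _ := by rw [Finset.mul_sum, Finset.sum_congr rfl fun χ _ => hfix χ, hsum]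

/-- A normal subgroup containing a short root element is everything. -/
theorem eq_top_of_short_mem [Fintype F] [CharP F 2] (hn : 2 ≤ n)
    (hex : (n, Fintype.card F) ≠ (2, 2)) (K : Subgroup (Cfsg.spGL n F)) [K.Normal] {i j : Fin n}
    (hij : i ≠ j)
    (hK : sieg (symPair n F (Pi.single i 1) (Pi.single j 1)) ∈ K) : K = ⊤ := by
  classical
  have hc : 3 ≤ n ∨ (n = 2 ∧ 3 ≤ Fintype.card F) ∨ 4 ≤ Fintype.card F := by
    have := Fintype.one_lt_card (α := F)
    by_cases h : n = 2
    · subst h
      exact Or.inr (Or.inl ⟨rfl, by simp at hex; omega⟩)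
    · omega
  have hperf := perfect_cond_of_card (F := F) n hc
  have := isPreprimitive_spGL (m := n) (F := F)
  have : Nontrivial (ℙ F (Fin n ⊕ Fin n → F)) :=
    ⟨⟨Projectivization.mk F (Pi.single (.inl i) 1) (by simp),
      Projectivization.mk F (Pi.single (.inr i) 1) (by simp), fun e => by
        obtain ⟨a, ha⟩ := (Projectivization.mk_eq_mk_iff' F _ _ _ _).1 e
        simpa using congrFun ha (.inl i)⟩⟩
  have hs := isSimpleGroup_quotient_center_of_iwasawa (commutator_spGL_eq_top hperf)
    (spIwasawa (m := n) (F := F)) mem_center_of_fix_points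
  set π := QuotientGroup.mk' (Subgroup.center (Cfsg.spGL n F))
  have hcn : sieg (symPair n F (Pi.single i 1) (Pi.single j 1)) ∉
      Subgroup.center (Cfsg.spGL n F) := fun h => by
    have e := congrArg (fun g : Cfsg.spGL n F => (g • (Pi.single (Sum.inl j) 1 : Fin n ⊕ Fin n → F)) (Sum.inl i))
      (Subgroup.mem_center_iff.1 h (spTv (Pi.single (Sum.inr j) 1) (1 : F)))
    simp [mul_smul, spTv_smul, sieg, spSiegel_smul, sympForm_eq_sum, symPair, Pi.single_apply,
      Matrix.add_mulVec, Matrix.vecMulVec_mulVec, hij, hij.symm, Finset.sum_ite_eq] at e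
  rcases Subgroup.Normal.eq_bot_or_eq_top
    (Subgroup.Normal.map ‹K.Normal› π (QuotientGroup.mk'_surjective _)) with h | h
  · refine absurd ?_ hcn
    have := Subgroup.mem_map_of_mem π hK
    rwa [h, Subgroup.mem_bot, QuotientGroup.mk'_apply, QuotientGroup.eq_one_iff] at this
  · have hsup : K ⊔ Subgroup.center (Cfsg.spGL n F) = ⊤ := by
      have := congrArg (Subgroup.comap π) h
      rwa [Subgroup.comap_map_eq, QuotientGroup.ker_mk', Subgroup.comap_top] at this
    refine top_unique ?_
    rw [← commutator_spGL_eq_top hperf, commutator_def, Subgroup.commutator_le]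
    intro g _ h _
    rw [← QuotientGroup.eq_one_iff]
    have hq : ∀ x : Cfsg.spGL n F, (x : Cfsg.spGL n F ⧸ K) ∈ Subgroup.center _ := fun x => by
      obtain ⟨k, hk, z, hz, rfl⟩ : ∃ k ∈ K, ∃ z ∈ Subgroup.center (Cfsg.spGL n F), k * z = x := by
        have hx : x ∈ K ⊔ Subgroup.center (Cfsg.spGL n F) := by rw [hsup]; trivial
        rwa [← SetLike.mem_coe, Subgroup.normal_mul, Set.mem_mul] at hx
      rw [QuotientGroup.mk_mul, (QuotientGroup.eq_one_iff k).2 hk, one_mul, Subgroup.mem_center_iff]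
      intro y
      obtain ⟨y, rfl⟩ := QuotientGroup.mk_surjective y
      rw [← QuotientGroup.mk_mul, ← QuotientGroup.mk_mul, Subgroup.mem_center_iff.1 hz y]
    rw [commutatorElement_def, QuotientGroup.mk_mul, QuotientGroup.mk_mul, QuotientGroup.mk_mul,
      QuotientGroup.mk_inv, QuotientGroup.mk_inv, ← Subgroup.mem_center_iff.1 (hq g) h]
    group

/-- A non-trivial complex representation of `Sp_{2n}(q)`, `q` even, has degree at least
`(q^n - 1)(q^n - q)/(2(q+1))`. -/
theorem finrank_ge_of_ne_one_even [Fintype F] [CharP F 2] [FiniteDimensional ℂ W] (hn : 2 ≤ n)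
    (hex : (n, Fintype.card F) ≠ (2, 2)) (ρ : Representation ℂ (Cfsg.spGL n F) W)
    (hρ : ∃ g, ρ g ≠ 1) :
    (Fintype.card F ^ n - 1) * (Fintype.card F ^ n - Fintype.card F) / (2 * (Fintype.card F + 1)) ≤
      Module.finrank ℂ W := by
  classical
  let i : Fin n := ⟨0, by omega⟩
  let j : Fin n := ⟨1, by omega⟩
  have hij : i ≠ j := by simp [i, j]
  have hB : ρ (sieg (symPair n F (Pi.single i 1) (Pi.single j 1))) ≠ 1 := fun h => by
    obtain ⟨g, hg⟩ := hρ
    have hK := eq_top_of_short_mem hn hex ρ.asGroupHom.ker hij (MonoidHom.mem_ker.2 (Units.ext h))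
    exact hg (congrArg Units.val (MonoidHom.mem_ker.1 (hK ▸ Subgroup.mem_top g :
      g ∈ ρ.asGroupHom.ker)))
  obtain ⟨χ, hχ, hw⟩ := exists_hasSymWeight ρ _ hB
  obtain ⟨ψ, hψ⟩ := AddChar.exists_apply_ne_zero.2 (one_ne_zero : (1 : F) ≠ 0)
  have hψ : ψ.IsPrimitive := AddChar.IsPrimitive.of_ne_one fun h => hψ (by rw [h]; rfl)
  set S := charQuad hψ χ with hS
  have hβ : ∃ u v, S.β u v ≠ 0 := ⟨Pi.single i 1, Pi.single j 1, fun h => hχ (by
    have := coef_spec hψ χ (symPair n F (Pi.single i 1) (Pi.single j 1)) 1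
    rw [show coef hψ χ (symPair n F (Pi.single i 1) (Pi.single j 1)) = 0 from h, zero_mul,
      AddChar.map_zero_eq_one] at this
    simpa [symScale] using this)⟩
  have hcard := S.card_orbit_bound hn hβ
  let X : Set (AddChar (symMat n F) ℂ) := Set.range fun A : GL (Fin n) F => congrChar A.1 χ
  have hX : Nat.card X ≤ Module.finrank ℂ W :=
    card_le_finrank_of_hasSymWeight ρ X (by rintro _ ⟨A, rfl⟩; exact hasSymWeight_congr hw A)
  have hle : Nat.card S.orbit ≤ Nat.card X := by
    refine Nat.card_le_card_of_surjective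
      (fun θ : X => (⟨(charQuad hψ θ.1).Q, ?_⟩ : S.orbit)) ?_
    · obtain ⟨A, hA⟩ := θ.2
      exact ⟨A, funext fun u => by rw [← hA]; exact (charQuad_congrChar hψ χ A.1 u).symm⟩
    · rintro ⟨_, A, rfl⟩
      exact ⟨⟨_, A, rfl⟩, Subtype.ext (funext fun u => charQuad_congrChar hψ χ A.1 u)⟩
  refine Nat.div_le_of_le_mul ?_
  exact hcard.trans (Nat.mul_le_mul_left _ (hle.trans hX))

end Cfsg.Agent.SpWeil
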