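import Cfsg.Agent.Lib.SpWeil.Bound
import Cfsg.Agent.Lib.SpWeil.QuadOrbit

/-!
# Congruence orbits of symmetric matrices of rank at least two, odd characteristic
* `card_orbit_rank_two` : at least `(q^n-1)(q^n-q)/(2(q+1))` congruent matrices
-/

set_option autoImplicit false

open Matrix

namespace Cfsg.Agent.SpWeil

variable {n : ℕ} {F : Type*} [Field F] [Fintype F]

/-- The solutions of `Rᵀ diag(c₁,c₂) R = diag(c₁,c₂)` are at most `2(q+1)`. -/
theorem card_orth_two [DecidableEq F] (h2 : (2 : F) ≠ 0) {c₁ c₂ : F} (hc₁ : c₁ ≠ 0) (hc₂ : c₂ ≠ 0) :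
    ((Finset.univ : Finset ((F × F) × (F × F))).filter fun r =>
      c₁ * r.1.1 ^ 2 + c₂ * r.1.2 ^ 2 = c₁ ∧ c₁ * r.1.1 * r.2.1 + c₂ * r.1.2 * r.2.2 = 0 ∧
        c₁ * r.2.1 ^ 2 + c₂ * r.2.2 ^ 2 = c₂).card ≤ 2 * (Fintype.card F + 1) := by
  classical
  let e := Fintype.equivFin (F × F)
  let f : (F × F) × (F × F) → Option F × Bool := fun r =>
    ((if r.1.2 = 0 then (if r.1.1 = 1 then none else some 0) else some ((r.1.1 - 1) / r.1.2)),
      decide (e r.2 < e (-r.2)))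
  rw [show 2 * (Fintype.card F + 1) = (Finset.univ : Finset (Option F × Bool)).card by
    rw [Finset.card_univ, Fintype.card_prod, Fintype.card_option, Fintype.card_bool, mul_comm]]
  refine Finset.card_le_card_of_injOn f (fun _ _ => Finset.mem_univ _) ?_
  rintro ⟨⟨α, γ⟩, β, δ⟩ hr ⟨⟨α', γ'⟩, β', δ'⟩ hr' hf
  simp only [Finset.coe_filter, Finset.mem_univ, true_and, Set.mem_setOf_eq] at hr hr'
  obtain ⟨h1, h12, h22⟩ := hr
  obtain ⟨h1', h12', h22'⟩ := hr'
  simp only [f, Prod.mk.injEq] at hf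
  obtain ⟨hs, hb⟩ := hf
  have hsol : ∀ x y : F, c₁ * x ^ 2 + c₂ * y ^ 2 = c₁ → y ≠ 0 →
      x ≠ 1 ∧ y * (c₁ * ((x - 1) / y) ^ 2 + c₂) = -(2 * c₁ * ((x - 1) / y)) := fun x y h hy => by
    constructor
    · rintro rfl
      exact mul_ne_zero hc₂ (pow_ne_zero 2 hy) (by linear_combination h)
    · field_simp
      linear_combination h
  have hzero : ∀ x : F, c₁ * x ^ 2 + c₂ * (0 : F) ^ 2 = c₁ → x ≠ 1 → x = -1 := fun x h hx => by
    have : x * x = 1 * 1 := mul_left_cancel₀ hc₁ (by linear_combination h)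
    exact (mul_self_eq_mul_self_iff.1 this).resolve_left hx
  obtain ⟨rfl, rfl⟩ : α = α' ∧ γ = γ' := by
    by_cases hg : γ = 0 <;> by_cases hg' : γ' = 0
    · subst hg hg'
      by_cases hx : α = 1 <;> by_cases hx' : α' = 1 <;> simp [hx, hx'] at hs
      · exact ⟨hx.trans hx'.symm, rfl⟩
      · exact ⟨(hzero α h1 hx).trans (hzero α' h1' hx').symm, rfl⟩
    · exfalso
      subst hg
      by_cases hx : α = 1 <;> simp [hx, hg'] at hs
      obtain ⟨hne, -⟩ := hsol α' γ' h1' hg'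
      exact hne (sub_eq_zero.1 ((div_eq_zero_iff.1 hs.symm).resolve_right hg'))
    · exfalso
      subst hg'
      by_cases hx' : α' = 1 <;> simp [hx', hg] at hs
      obtain ⟨hne, -⟩ := hsol α γ h1 hg
      exact hne (sub_eq_zero.1 hs)
    · simp only [if_neg hg, if_neg hg', Option.some.injEq] at hs
      obtain ⟨hne, e1⟩ := hsol α γ h1 hg
      obtain ⟨-, e2⟩ := hsol α' γ' h1' hg'
      rw [← hs] at e2
      have hne' : c₁ * ((α - 1) / γ) ^ 2 + c₂ ≠ 0 := fun h0 => by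
        rw [h0, mul_zero, eq_comm, neg_eq_zero] at e1
        exact mul_ne_zero (mul_ne_zero h2 hc₁) (div_ne_zero (sub_ne_zero.2 hne) hg) e1
      have hgg : γ = γ' := mul_right_cancel₀ hne' (e1.trans e2.symm)
      subst hgg
      exact ⟨by field_simp at hs; linear_combination hs, rfl⟩
  -- the second column is determined up to sign
  have hdet : ∀ x y : F, c₁ * α * x + c₂ * γ * y = 0 →
      c₁ * (α * y - γ * x) * α = c₁ * y ∧ c₂ * (α * y - γ * x) * γ = -(c₁ * x) * 1 := fun x y h =>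
    ⟨by linear_combination y * h1 - γ * h, by linear_combination -x * h1 + α * h⟩
  obtain ⟨a1, a2⟩ := hdet β δ h12
  obtain ⟨b1, b2⟩ := hdet β' δ' h12'
  have hsq : c₁ * (α * δ - γ * β) ^ 2 = c₁ := mul_right_cancel₀ hc₂ (by
    linear_combination (c₁ * β ^ 2 + c₂ * δ ^ 2) * h1 + c₁ * h22 -
      (c₁ * α * β + c₂ * γ * δ) * h12)
  have hsq' : c₁ * (α * δ' - γ * β') ^ 2 = c₁ := mul_right_cancel₀ hc₂ (by
    linear_combination (c₁ * β' ^ 2 + c₂ * δ' ^ 2) * h1 + c₁ * h22' -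
      (c₁ * α * β' + c₂ * γ * δ') * h12')
  rcases sq_eq_sq_iff_eq_or_eq_neg.1 (mul_left_cancel₀ hc₁ (hsq.trans hsq'.symm)) with h | h
  · rw [h] at a1 a2
    have e1 : δ = δ' := mul_left_cancel₀ hc₁ (a1.symm.trans b1)
    have e2 : β = β' := mul_left_cancel₀ hc₁ (by linear_combination a2 - b2)
    rw [e1, e2]
  · exfalso
    rw [h] at a1 a2
    have e1 : δ = -δ' := mul_left_cancel₀ hc₁ (by linear_combination -a1 - b1)
    have e2 : β = -β' := mul_left_cancel₀ hc₁ (by linear_combination a2 + b2)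
    subst e1 e2
    simp only [decide_eq_decide, Prod.neg_mk, neg_neg] at hb
    have hne : ((-β', -δ') : F × F) ≠ (β', δ') := fun h0 => by
      simp only [Prod.mk.injEq] at h0
      have hβ : β' = 0 := (mul_eq_zero.1 (by linear_combination -h0.1 : (2 : F) * β' = 0)).resolve_left h2
      have hδ : δ' = 0 := (mul_eq_zero.1 (by linear_combination -h0.2 : (2 : F) * δ' = 0)).resolve_left h2
      rw [hβ, hδ] at h22'
      exact hc₂ (by linear_combination -h22')
    rcases lt_or_gt_of_ne (e.injective.ne hne) with hlt | hlt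
    · exact lt_asymm hlt (hb.1 hlt)
    · exact lt_asymm hlt (hb.2 hlt)

theorem card_rank_two (h2 : (2 : F) ≠ 0) {c₁ c₂ : F} (hc₁ : c₁ ≠ 0) (hc₂ : c₂ ≠ 0)
    {w z : Fin n → F} (hwz : LinearIndependent F ![w, z]) :
    (Fintype.card F ^ n - 1) * (Fintype.card F ^ n - Fintype.card F) ≤
      2 * (Fintype.card F + 1) *
        Nat.card (congrOrbit (c₁ • Matrix.vecMulVec w w + c₂ • Matrix.vecMulVec z z)) := by
  classical
  set S := c₁ • Matrix.vecMulVec w w + c₂ • Matrix.vecMulVec z z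
  let P := {p : Fin 2 → (Fin n → F) // LinearIndependent F p}
  have hp2 : ∀ p : P, LinearIndependent F ![p.1 0, p.1 1] := fun p => by
    convert p.2; ext i; fin_cases i <;> rfl
  let G : P → Matrix (Fin n) (Fin n) F := fun p =>
    c₁ • Matrix.vecMulVec (p.1 0) (p.1 0) + c₂ • Matrix.vecMulVec (p.1 1) (p.1 1)
  have hmem : ∀ p : P, G p ∈ congrOrbit S := fun p => by
    obtain ⟨A, h0, h1⟩ := exists_gl_two hwz (hp2 p)
    refine ⟨⟨A.1ᵀ, (A⁻¹).1ᵀ, by rw [← Matrix.transpose_mul, Units.inv_mul, Matrix.transpose_one],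
      by rw [← Matrix.transpose_mul, Units.mul_inv, Matrix.transpose_one]⟩, ?_⟩
    show A.1ᵀᵀ * S * A.1ᵀ = _
    simp only [S, G, Matrix.transpose_transpose, Matrix.mul_add, Matrix.add_mul, Matrix.mul_smul,
      Matrix.smul_mul, Matrix.mul_vecMulVec, Matrix.vecMulVec_mul, Matrix.vecMul_transpose, h0, h1]
  let φ : P → congrOrbit S := fun p => ⟨G p, hmem p⟩
  have hP : Nat.card P = (Fintype.card F ^ n - 1) * (Fintype.card F ^ n - Fintype.card F) := by
    rw [card_linearIndependent (K := F) (V := Fin n → F) (k := 2)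
      (by rw [Module.finrank_fin_fun]; exact (by simpa using hwz.fintype_card_le_finrank))]
    simp [Fin.prod_univ_two, Module.finrank_fin_fun]
  rw [← hP, Nat.card_eq_fintype_card, Nat.card_eq_fintype_card, ← Finset.card_univ,
    ← Finset.card_univ]
  refine Finset.card_le_mul_card_image_of_maps_to (f := φ) (fun _ _ => Finset.mem_univ _) _
    fun o _ => ?_
  rcases (Finset.univ.filter fun p => φ p = o).eq_empty_or_nonempty with he | ⟨p₀, hp₀⟩
  · simp [he]
  -- dual vectors of a pair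
  have hdual : ∀ p : P, ∃ k₁ k₂ : Fin n → F, p.1 0 ⬝ᵥ k₁ = 1 ∧ p.1 1 ⬝ᵥ k₁ = 0 ∧
      p.1 0 ⬝ᵥ k₂ = 0 ∧ p.1 1 ⬝ᵥ k₂ = 1 := fun p => by
    have hn : Fintype.card (Fin 2) ≤ n := by
      simpa [Module.finrank_fin_fun] using p.2.fintype_card_le_finrank
    simp only [Fintype.card_fin] at hn
    let i : Fin n := ⟨0, by omega⟩
    let l : Fin n := ⟨1, by omega⟩
    have hil : i ≠ l := by simp [i, l]
    obtain ⟨A, h0, h1⟩ := exists_gl_two (u := (Pi.single i 1 : Fin n → F)) (v := Pi.single l 1)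
      (LinearIndependent.pair_iff.2 fun s t hst => by
        have h1 := congrFun hst i
        have h2 := congrFun hst l
        simp [hil, hil.symm] at h1 h2
        exact ⟨h1, h2⟩) (hp2 p)
    have hd : ∀ a b : Fin n → F, (A.1 *ᵥ a) ⬝ᵥ ((A⁻¹).1ᵀ *ᵥ b) = a ⬝ᵥ b := fun a b => by
      rw [Matrix.dotProduct_mulVec, Matrix.vecMul_transpose, Matrix.mulVec_mulVec, Units.inv_mul,
        Matrix.one_mulVec]
    refine ⟨(A⁻¹).1ᵀ *ᵥ Pi.single i 1, (A⁻¹).1ᵀ *ᵥ Pi.single l 1, ?_, ?_, ?_, ?_⟩ <;>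
      first
      | (rw [← h0, hd]; simp [hil, hil.symm])
      | (rw [← h1, hd]; simp [hil, hil.symm])
  obtain ⟨k₁, k₂, d00, d10, d01, d11⟩ := hdual p₀
  have hfib : ∀ p ∈ Finset.univ.filter (fun p => φ p = o), G p = G p₀ := fun p hp => by
    simp only [Finset.mem_filter, Finset.mem_univ, true_and] at hp hp₀
    exact congrArg Subtype.val (hp.trans hp₀.symm)
  have hev : ∀ p : P, G p = G p₀ → ∀ x y : Fin n → F,
      c₁ * (p.1 0 ⬝ᵥ x) * (p.1 0 ⬝ᵥ y) + c₂ * (p.1 1 ⬝ᵥ x) * (p.1 1 ⬝ᵥ y) =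
        c₁ * (p₀.1 0 ⬝ᵥ x) * (p₀.1 0 ⬝ᵥ y) + c₂ * (p₀.1 1 ⬝ᵥ x) * (p₀.1 1 ⬝ᵥ y) := by
    intro p hp x y
    have := congrArg (fun M => x ⬝ᵥ M *ᵥ y) hp
    simp only [G, Matrix.add_mulVec, Matrix.smul_mulVec, Matrix.vecMulVec_mulVec, op_smul_eq_smul,
      dotProduct_add, dotProduct_smul, smul_eq_mul] at this
    simp only [dotProduct_comm x] at this
    linear_combination this
  refine (Finset.card_le_card_of_injOn
    (fun p : P => ((p.1 0 ⬝ᵥ k₁, p.1 1 ⬝ᵥ k₁), (p.1 0 ⬝ᵥ k₂, p.1 1 ⬝ᵥ k₂))) ?_ ?_).trans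
    (card_orth_two h2 hc₁ hc₂)
  · intro p hp
    have h := hev p (hfib p hp)
    simp only [Finset.coe_filter, Finset.mem_univ, true_and, Set.mem_setOf_eq]
    refine ⟨?_, ?_, ?_⟩
    · have := h k₁ k₁; rw [d00, d10] at this; linear_combination this
    · have := h k₁ k₂; rw [d00, d10, d01, d11] at this; linear_combination this
    · have := h k₂ k₂; rw [d01, d11] at this; linear_combination this
  · intro p hp p' hp' e
    simp only [Prod.mk.injEq] at e
    obtain ⟨⟨e1, e2⟩, e3, e4⟩ := e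
    have key : ∀ r : P, G r = G p₀ → ∀ (i : Fin 2) (x : Fin n → F), r.1 i ⬝ᵥ x =
        (p₀.1 0 ⬝ᵥ x) * (r.1 i ⬝ᵥ k₁) + (p₀.1 1 ⬝ᵥ x) * (r.1 i ⬝ᵥ k₂) := by
      intro r hr
      obtain ⟨m₁, m₂, f00, f10, f01, f11⟩ := hdual r
      have h := hev r hr
      have hx : ∀ x, c₁ * (r.1 0 ⬝ᵥ x) = c₁ * (p₀.1 0 ⬝ᵥ x) * (p₀.1 0 ⬝ᵥ m₁) +
          c₂ * (p₀.1 1 ⬝ᵥ x) * (p₀.1 1 ⬝ᵥ m₁) := fun x => by
        have := h x m₁; rw [f00, f10] at this; linear_combination this
      have hy : ∀ x, c₂ * (r.1 1 ⬝ᵥ x) = c₁ * (p₀.1 0 ⬝ᵥ x) * (p₀.1 0 ⬝ᵥ m₂) +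
          c₂ * (p₀.1 1 ⬝ᵥ x) * (p₀.1 1 ⬝ᵥ m₂) := fun x => by
        have := h x m₂; rw [f01, f11] at this; linear_combination this
      intro i x
      have a1 := hx k₁; have a2 := hx k₂; have a3 := hy k₁; have a4 := hy k₂
      rw [d00, d10] at a1 a3
      rw [d01, d11] at a2 a4
      fin_cases i <;> simp only [Fin.zero_eta, Fin.mk_one]
      · refine mul_left_cancel₀ hc₁ ?_
        linear_combination hx x - (p₀.1 0 ⬝ᵥ x) * a1 - (p₀.1 1 ⬝ᵥ x) * a2
      · refine mul_left_cancel₀ hc₂ ?_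
        linear_combination hy x - (p₀.1 0 ⬝ᵥ x) * a3 - (p₀.1 1 ⬝ᵥ x) * a4
    refine Subtype.ext (funext fun i => dotProduct_eq _ _ fun x => ?_)
    rw [key p (hfib p hp) i x, key p' (hfib p' hp') i x]
    fin_cases i <;> simp only [Fin.zero_eta, Fin.mk_one, e1, e2, e3, e4]

theorem card_triples (hn : 2 ≤ n) {S : Matrix (Fin n) (Fin n) F} (hS : S.IsSymm)
    (hall : ∀ a b e : F, a ≠ 0 → e ≠ 0 → ∃ u v : Fin n → F,
      u ⬝ᵥ S *ᵥ u = a ∧ u ⬝ᵥ S *ᵥ v = b ∧ v ⬝ᵥ S *ᵥ v = b ^ 2 / a + e) :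
    (Fintype.card F - 1) * Fintype.card F * (Fintype.card F - 1) *
      (Fintype.card F ^ (n - 2) * Fintype.card F ^ (n - 2)) ≤ Nat.card (congrOrbit S) := by
  classical
  let i : Fin n := ⟨0, by omega⟩
  let j : Fin n := ⟨1, by omega⟩
  have hij : i ≠ j := by simp [i, j]
  let K := {k : Fin n // k ≠ i ∧ k ≠ j}
  have hK : Fintype.card K = n - 2 := by
    have : Fintype.card K = (Finset.univ \ {i, j} : Finset (Fin n)).card := by
      rw [Fintype.card_subtype]
      congr 1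
      ext k
      simp
    rw [this, Finset.card_sdiff, Finset.card_univ, Fintype.card_fin,
      Finset.inter_univ, Finset.card_pair hij]
  have hsym : ∀ x y : Fin n → F, x ⬝ᵥ S *ᵥ y = y ⬝ᵥ S *ᵥ x := fun x y => by
    rw [Matrix.dotProduct_mulVec, ← Matrix.mulVec_transpose, hS.eq, dotProduct_comm]
  have hentry : ∀ (A : GL (Fin n) F) (k l : Fin n), (A.1ᵀ * S * A.1) k l =
      (A.1 *ᵥ Pi.single k 1) ⬝ᵥ S *ᵥ (A.1 *ᵥ Pi.single l 1) := fun A k l => by
    rw [Matrix.mulVec_mulVec, Matrix.dotProduct_mulVec, ← Matrix.vecMul_transpose (A := A.1)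
      (x := Pi.single k 1), Matrix.vecMul_vecMul, ← Matrix.dotProduct_mulVec, Matrix.mulVec_single_one,
      single_dotProduct, one_mul, Matrix.col_apply, Matrix.mul_assoc]
  have hsurj : ∀ p : ({a : F // a ≠ 0} × F × {e : F // e ≠ 0}) × ((K → F) × (K → F)),
      ∃ G : congrOrbit S,
      (G.1 i i = p.1.1.1 ∧ G.1 i j = p.1.2.1 ∧ G.1 j j = p.1.2.1 ^ 2 / p.1.1.1 + p.1.2.2.1) ∧
      (∀ k : K, G.1 i k.1 = p.2.1 k) ∧ (∀ k : K, G.1 j k.1 = p.2.2 k) := by
    rintro ⟨⟨⟨a, ha⟩, b, ⟨e, he⟩⟩, p, r⟩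
    obtain ⟨u, v, hu, huv, hv⟩ := hall a b e ha he
    have hind : LinearIndependent F ![u, v] := LinearIndependent.pair_iff.2 fun s t hst => by
      have h1 := congrArg (fun z => u ⬝ᵥ S *ᵥ z) hst
      have h3 := congrArg (fun z => v ⬝ᵥ S *ᵥ z) hst
      simp only [Matrix.mulVec_add, Matrix.mulVec_smul, dotProduct_add, dotProduct_smul, smul_eq_mul,
        Matrix.mulVec_zero, dotProduct_zero, hsym v u, hu, huv, hv] at h1 h3
      field_simp at h3
      have ht : t = 0 := by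
        refine (mul_eq_zero.1 (?_ : t * (a * e) = 0)).resolve_right (mul_ne_zero ha he)
        linear_combination h3 - b * h1
      subst ht
      exact ⟨(mul_eq_zero.1 (by linear_combination h1 : s * a = 0)).resolve_right ha, rfl⟩
    obtain ⟨A, hAi, hAj⟩ := exists_gl_two (u := (Pi.single i 1 : Fin n → F))
      (v := Pi.single j 1) (LinearIndependent.pair_iff.2 fun s t hst => by
        have h1 := congrFun hst i
        have h2 := congrFun hst j
        simp [hij, hij.symm] at h1 h2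
        exact ⟨h1, h2⟩) hind
    let x : K → F := fun k => p k - u ⬝ᵥ S *ᵥ (A.1 *ᵥ Pi.single k.1 1)
    let y : K → F := fun k => r k - v ⬝ᵥ S *ᵥ (A.1 *ᵥ Pi.single k.1 1)
    let β : Fin n → F := fun k =>
      if h : k ≠ i ∧ k ≠ j then (y ⟨k, h⟩ - b / a * x ⟨k, h⟩) / e else 0
    let α : Fin n → F := fun k =>
      if h : k ≠ i ∧ k ≠ j then (x ⟨k, h⟩ - b * β k) / a else 0
    let N := Matrix.vecMulVec (Pi.single i 1) α + Matrix.vecMulVec (Pi.single j 1) β
    have hNN : N * N = 0 := by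
      simp [N, Matrix.mul_add, Matrix.add_mul, Matrix.vecMulVec_mul_vecMulVec, α, β]
    let C : GL (Fin n) F := ⟨1 + N, 1 - N, by
      rw [Matrix.mul_sub, Matrix.mul_one, Matrix.add_mul, Matrix.one_mul, hNN]; simp, by
      rw [Matrix.mul_add, Matrix.mul_one, Matrix.sub_mul, Matrix.one_mul, hNN]; simp⟩
    have hG : ∀ x, ((A * C).1 *ᵥ x) = A.1 *ᵥ x + (α ⬝ᵥ x) • u + (β ⬝ᵥ x) • v := fun x => by
      rw [Units.val_mul, ← Matrix.mulVec_mulVec]
      show A.1 *ᵥ ((1 + N) *ᵥ x) = _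
      simp only [N, Matrix.add_mulVec, Matrix.one_mulVec, Matrix.vecMulVec_mulVec,
        op_smul_eq_smul, Matrix.mulVec_add, Matrix.mulVec_smul, hAi, hAj, add_assoc]
    have hi : (A * C).1 *ᵥ Pi.single i 1 = u := by rw [hG, hAi]; simp [α, β]
    have hj : (A * C).1 *ᵥ Pi.single j 1 = v := by rw [hG, hAj]; simp [α, β]
    refine ⟨⟨_, A * C, rfl⟩, ⟨?_, ?_, ?_⟩, fun k => ?_, fun k => ?_⟩
    · simp only [hentry]
      rw [hi, hu]
    · simp only [hentry]
      rw [hi, hj, huv]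
    · simp only [hentry]
      rw [hj, hv]
    · simp only [hentry]
      rw [hi, hG]
      simp only [Matrix.mulVec_add, Matrix.mulVec_smul, dotProduct_add, dotProduct_smul, smul_eq_mul,
        hu, huv, dotProduct_single, mul_one]
      simp only [α, dif_pos k.2]
      field_simp
      simp only [x]
      ring
    · simp only [hentry]
      rw [hj, hG]
      simp only [Matrix.mulVec_add, Matrix.mulVec_smul, dotProduct_add, dotProduct_smul, smul_eq_mul,
        hsym v u, hv, huv, dotProduct_single, mul_one]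
      simp only [α, β, dif_pos k.2, x, y]
      field_simp
      ring
  choose φ hφ using hsurj
  have hinj : Function.Injective φ := by
    rintro ⟨⟨a, b, e⟩, p, r⟩ ⟨⟨a', b', e'⟩, p', r'⟩ h
    obtain ⟨⟨h1, h2, h3⟩, h4, h5⟩ := hφ ⟨⟨a, b, e⟩, p, r⟩
    obtain ⟨⟨g1, g2, g3⟩, g4, g5⟩ := hφ ⟨⟨a', b', e'⟩, p', r'⟩
    rw [h] at h1 h2 h3 h4 h5
    obtain rfl : a = a' := Subtype.ext (h1.symm.trans g1)
    obtain rfl : b = b' := h2.symm.trans g2
    obtain rfl : e = e' := Subtype.ext (add_left_cancel (h3.symm.trans g3))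
    obtain rfl : p = p' := funext fun k => (h4 k).symm.trans (g4 k)
    obtain rfl : r = r' := funext fun k => (h5 k).symm.trans (g5 k)
    rfl
  refine le_of_eq_of_le ?_ (Nat.card_le_card_of_injective φ hinj)
  simp only [Nat.card_eq_fintype_card, Fintype.card_prod, Fintype.card_fun, hK,
    Fintype.card_subtype_compl, Fintype.card_subtype_eq, ← mul_assoc]

/-- A symmetric matrix with a non-zero minor of order two has a large orbit. -/
theorem card_orbit_rank_two (h2 : (2 : F) ≠ 0) (hn : 2 ≤ n) {S : Matrix (Fin n) (Fin n) F}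
    (hS : S.IsSymm) (h : ¬ ∀ a b c d : Fin n, S a b * S c d = S a d * S c b) :
    (Fintype.card F ^ n - 1) * (Fintype.card F ^ n - Fintype.card F) ≤
      2 * (Fintype.card F + 1) * Nat.card (congrOrbit S) := by
  have hS0 : S ≠ 0 := fun e => h (by simp [e])
  have hnr : ∀ (c : F) (w : Fin n → F), S ≠ c • Matrix.vecMulVec w w := fun c w e => h fun a b c' d => by
    simp only [e, Matrix.smul_apply, Matrix.vecMulVec_apply, smul_eq_mul]
    ring
  have hsym : ∀ x y : Fin n → F, x ⬝ᵥ S *ᵥ y = y ⬝ᵥ S *ᵥ x := fun x y => by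
    rw [Matrix.dotProduct_mulVec, ← Matrix.mulVec_transpose, hS.eq, dotProduct_comm]
  have huniv := (rank_one_or_universal h2 hS hS0).resolve_left
    fun ⟨c, _, w, _, e⟩ => hnr c w e
  by_cases hall : ∀ a : F, a ≠ 0 → ∀ e : F, e ≠ 0 → ∃ u x : Fin n → F, u ⬝ᵥ S *ᵥ u = a ∧
      u ⬝ᵥ S *ᵥ x = 0 ∧ x ⬝ᵥ S *ᵥ x = e
  · refine le_trans ?_ (Nat.mul_le_mul_left _ (card_triples hn hS fun a b e ha he => ?_))
    · obtain ⟨k, rfl⟩ : ∃ k, n = k + 2 := ⟨n - 2, by omega⟩
      obtain ⟨p, hp⟩ : ∃ p, Fintype.card F = p + 3 := ⟨Fintype.card F - 3, by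
        have hodd : Fintype.card F % 2 = 1 := FiniteField.odd_card_of_char_ne_two fun hr => h2 (by
          haveI : CharP F 2 := ringChar.of_eq hr
          exact CharTwo.two_eq_zero)
        have := Fintype.one_lt_card (α := F)
        omega⟩
      rw [hp, Nat.add_sub_cancel, show p + 3 - 1 = p + 2 by omega]
      calc ((p + 3) ^ (k + 2) - 1) * ((p + 3) ^ (k + 2) - (p + 3))
          ≤ (p + 3) ^ (k + 2) * (p + 3) ^ (k + 2) := Nat.mul_le_mul (Nat.sub_le _ _) (Nat.sub_le _ _)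
        _ = (p + 3) ^ 3 * ((p + 3) * ((p + 3) ^ k * (p + 3) ^ k)) := by ring
        _ ≤ (2 * (p + 3 + 1) * (p + 2) * (p + 2)) * ((p + 3) * ((p + 3) ^ k * (p + 3) ^ k)) :=
            Nat.mul_le_mul_right _ (by ring_nf; nlinarith [Nat.zero_le (p ^ 2), Nat.zero_le (p ^ 3)])
        _ = _ := by ring
    · obtain ⟨u, x, hu, hux, hx⟩ := hall a ha e he
      refine ⟨u, (b / a) • u + x, hu, ?_, ?_⟩ <;>
      · simp only [Matrix.mulVec_add, Matrix.mulVec_smul, dotProduct_add, add_dotProduct,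
          dotProduct_smul, smul_dotProduct, smul_eq_mul, hsym x u, hu, hux, hx]
        field_simp
        ring
  push Not at hall
  obtain ⟨a, ha, e, he, hno⟩ := hall
  obtain ⟨u, -, hu⟩ := huniv a ha
  set w := S *ᵥ u with hw
  have hwu : u ⬝ᵥ w = a := hu
  set T := S - a⁻¹ • Matrix.vecMulVec w w with hT
  have hTs : T.IsSymm := hS.sub (Matrix.IsSymm.smul (show (Matrix.vecMulVec w w).IsSymm from
      Matrix.transpose_vecMulVec w w) _)
  have hT0 : T ≠ 0 := fun e0 => hnr _ _ (sub_eq_zero.1 e0)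
  rcases rank_one_or_universal h2 hTs hT0 with ⟨c, hc, z, hz, hTz⟩ | hTu
  · have hST : S = a⁻¹ • Matrix.vecMulVec w w + c • Matrix.vecMulVec z z := by
      rw [← hTz, hT]; abel
    rw [hST]
    refine card_rank_two h2 (inv_ne_zero ha) hc ?_
    rw [LinearIndependent.pair_iff]
    intro s t hst
    by_cases ht : t = 0
    · subst ht
      rw [zero_smul, add_zero, smul_eq_zero] at hst
      refine ⟨hst.resolve_right fun hw0 => ha ?_, rfl⟩
      rw [← hwu, hw0, dotProduct_zero]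
    · exfalso
      have hzw : z = (-(s / t)) • w := by
        funext l
        have := congrFun hst l
        simp only [Pi.add_apply, Pi.smul_apply, smul_eq_mul, Pi.zero_apply] at this ⊢
        field_simp
        linear_combination this
      refine hnr (a⁻¹ + c * (s / t) ^ 2) w ?_
      rw [hST, hzw]
      ext p r
      simp only [Matrix.add_apply, Matrix.smul_apply, Matrix.vecMulVec_apply, Pi.smul_apply,
        smul_eq_mul]
      ring
  · exfalso
    obtain ⟨x, -, hx⟩ := hTu e he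
    refine hno u (x - (a⁻¹ * (x ⬝ᵥ w)) • u) hu ?_ ?_
    · simp only [Matrix.mulVec_sub, Matrix.mulVec_smul, dotProduct_sub, dotProduct_smul, smul_eq_mul,
        hsym u x, ← hw, hwu]
      field_simp
      ring
    · rw [← hx]
      simp only [hT, Matrix.mulVec_sub, dotProduct_sub, Matrix.mulVec_smul, dotProduct_smul,
        smul_eq_mul, sub_dotProduct, smul_dotProduct, Matrix.sub_mulVec, Matrix.smul_mulVec,
        Matrix.vecMulVec_mulVec, op_smul_eq_smul, hsym u x, ← hw, hwu, dotProduct_comm w x]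
      field_simp
      ring

end Cfsg.Agent.SpWeil
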