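import Cfsg.Agent.Lib.SpWeil.Weights
import Cfsg.Agent.Lib.CharApp.Schur

/-!
# Rigidity of representations of `Sp_{2n}(q)` with weights of rank one
* `QHom` : maps compatible with a Heisenberg group, `QHom.swap`, `QHom.levi_fix`
* `exists_equiv` : two irreducible representations with rank-one weights, the same central sign and
  a common weight are isomorphic
-/

set_option autoImplicit false

open Matrix

namespace Cfsg.Agent.SpWeil

open Cfsg.Agent.Linear

variable {n : ℕ} {F : Type*} [Field F] [Fintype F]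

noncomputable local instance : Fintype (symMat n F) := Fintype.ofFinite _

variable {W : Type*} [AddCommGroup W] [Module ℂ W] {U : Type*} [AddCommGroup U] [Module ℂ U]
  {ρ : Representation ℂ (Cfsg.spGL n F) W} {σ : Representation ℂ (Cfsg.spGL n F) U}
  {ψ : AddChar F ℂ}

/-- `X` intertwines the action of `g`. -/
def Comm (ρ : Representation ℂ (Cfsg.spGL n F) W) (σ : Representation ℂ (Cfsg.spGL n F) U)
    (X : W →ₗ[ℂ] U) (g : Cfsg.spGL n F) : Prop :=
  ∀ v, X (ρ g v) = σ g (X v)

omit [Fintype F] in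
theorem Comm.mul {X : W →ₗ[ℂ] U} {g h : Cfsg.spGL n F} (hg : Comm ρ σ X g) (hh : Comm ρ σ X h) :
    Comm ρ σ X (g * h) := fun v => by rw [rho_apply_mul, hg, hh, rho_apply_mul]

omit [Fintype F] in
theorem Comm.one {X : W →ₗ[ℂ] U} : Comm ρ σ X 1 := fun v => by simp

omit [Fintype F] in
theorem Comm.inv {X : W →ₗ[ℂ] U} {g : Cfsg.spGL n F} (hg : Comm ρ σ X g) : Comm ρ σ X g⁻¹ :=
  fun v => by
    have := congrArg (σ g⁻¹) (hg (ρ g⁻¹ v))
    rwa [rho_inv_cancel, ← rho_apply_mul ρ, mul_inv_cancel, map_one, Module.End.one_apply,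
      eq_comm] at this

/-- Maps compatible with the Heisenberg group of index `j` with central weight `d`. -/
structure QHom (ρ : Representation ℂ (Cfsg.spGL n F) W) (σ : Representation ℂ (Cfsg.spGL n F) U)
    (ψ : AddChar F ℂ) (j : Fin n) (d : F) (X : W →ₗ[ℂ] U) : Prop where
  sieg : ∀ B, Comm ρ σ X (sieg B)
  levi : ∀ (k : Fin n) (h : j ≠ k) (t : F), Comm ρ σ X (spLevi (tv h t))
  supp : ∀ (S : symMat n F) (v : W), IsWt ρ ψ S v → S.1 j j ≠ d → X v = 0

omit [Fintype F] in
theorem sieg_diag_swap {j : Fin n} {s : Finset (Fin n)} (h : j ∉ s) (t : F) :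
    sieg (diagMat j t) * swapSet s = swapSet s * sieg (diagMat j t) :=
  (swapSet_comm_siegel _ (by simp [diagMat, ind_mul_single, h])).symm

omit [Fintype F] in
theorem tv_eq_colElt {j k : Fin n} (h : j ≠ k) (t : F) :
    tv h t = colElt k (Pi.single j t) (by simp [Ne.symm h]) := by
  ext a b
  simp [tv_val, colElt, Matrix.vecMulVec_apply, Matrix.single_apply, Pi.single_apply]
  grind

namespace QHom

variable {j : Fin n} {d : F} {X : W →ₗ[ℂ] U} (h2 : (2 : F) ≠ 0) (hψ : ψ ≠ 1)

include h2 hψ in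
theorem apply_eig (hX : QHom ρ σ ψ j d X) {e : F} (he : e ≠ d) {v : W} (hv : IsEig ρ ψ j e v) :
    X v = 0 := by
  rw [← sum_proj (ρ := ρ) h2 hψ v, map_sum]
  refine Finset.sum_eq_zero fun S _ => ?_
  by_cases h0 : proj ρ ψ S v = 0
  · rw [h0, map_zero]
  · exact hX.supp S _ (isWt_proj S v) (by rw [hv.supp hψ h0]; exact he)

include h2 hψ in
theorem conj (hX : QHom ρ σ ψ j d X) (hd : d ≠ 0) (hρ : RankOne ρ ψ) (hσ : RankOne σ ψ)
    {k : Fin n} (hk : j ≠ k) :
    QHom ρ σ ψ j d (σ (swapSet {k})⁻¹ ∘ₗ X ∘ₗ ρ (swapSet {k})) := by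
  classical
  set w : Cfsg.spGL n F := swapSet {k}
  set X' := σ w⁻¹ ∘ₗ X ∘ₗ ρ w
  have hjk : j ∉ ({k} : Finset (Fin n)) := by simpa using hk
  have gen : ∀ s q, w * s = q * w → Comm ρ σ X q → Comm ρ σ X' s := fun s q e hq v => by
    show σ w⁻¹ (X (ρ w (ρ s v))) = σ s (σ w⁻¹ (X (ρ w v)))
    rw [← rho_apply_mul, e, rho_apply_mul, hq, ← rho_apply_mul, ← rho_apply_mul]
    congr 2
    rw [eq_mul_inv_iff_mul_eq, mul_assoc, ← e, inv_mul_cancel_left]
  have supp : ∀ S v, IsWt ρ ψ S v → S.1 j j ≠ d → X' v = 0 := fun S v hv hS => by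
    show σ w⁻¹ (X (ρ w v)) = 0
    rw [hX.apply_eig h2 hψ hS ((hv.isEig j).of_commute fun t => sieg_diag_swap hjk t), map_zero]
  have hpair : ∀ (l : Fin n) (hl : j ≠ l) (t : F),
      Comm ρ σ X' (SpWeil.sieg ⟨pairMat j l t, isSymm_pairMat j l t⟩) := by
    intro l hl t
    by_cases e : l = k
    · subst e
      exact gen _ _ (swap_pair hl t) (hX.levi _ hl _)
    · refine gen _ _ (swapSet_comm_siegel _ ?_) (hX.sieg _)
      simp [pairMat, Matrix.mul_add, ind_mul_single, hk, e]
  have hdiag : ∀ t : F, Comm ρ σ X' (SpWeil.sieg (diagMat j t)) := fun t =>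
    gen _ _ (sieg_diag_swap hjk t).symm (hX.sieg _)
  have hwt : ∀ S v, IsWt ρ ψ S v → IsWt σ ψ S (X' v) := by
    intro S v hv
    by_cases hS : S.1 j j = d
    swap
    · rw [supp S v hv hS]; intro B; simp
    by_cases hv0 : v = 0
    · subst hv0; rw [map_zero]; intro B; simp
    have key : ∀ T, proj σ ψ T (X' v) ≠ 0 → T = S := by
      intro T hT
      have hTd : T.1 j j = d := by
        rw [← hS]
        refine psi_eq_of_forall hψ fun t => by_contra fun hne => hT (proj_eq_zero_of_eigen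
          (B := diagMat j t) (a := ψ (S.1 j j * t)) ?_ (by rwa [symChar_diagMat]))
        rw [← hdiag t v, hv, map_smul, symChar_diagMat]
      refine rankOne_ext (hσ.supp hT) (hρ S v hv0 hv) (j := j) (by rw [hTd]; exact hd) fun l => ?_
      by_cases hl : j = l
      · subst hl; rw [hTd, hS]
      have := psi_eq_of_forall (a := 2 * T.1 j l) (b := 2 * S.1 j l) hψ fun t =>
        by_contra fun hne => hT (proj_eq_zero_of_eigen
          (B := ⟨pairMat j l t, isSymm_pairMat j l t⟩) (a := ψ (2 * S.1 j l * t))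
          (by rw [← hpair l hl t v, hv, map_smul, symChar_pairMat]) (by rwa [symChar_pairMat]))
      exact mul_left_cancel₀ h2 this
    rw [← sum_proj (ρ := σ) h2 hψ (X' v), Finset.sum_eq_single S
      (fun T _ hT => by_contra fun h => hT (key T h)) (by simp)]
    exact isWt_proj S _
  refine ⟨fun B v => ?_, fun l hl t => ?_, supp⟩
  · refine ext_of_wt (ρ := ρ) h2 hψ (X := X' ∘ₗ ρ (SpWeil.sieg B)) (Y := σ (SpWeil.sieg B) ∘ₗ X')
      (fun S u hu => ?_) v
    simp only [LinearMap.comp_apply]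
    rw [hu, map_smul, hwt S u hu]
  · by_cases e : l = k
    · subst e
      refine gen _ (SpWeil.sieg ⟨_, isSymm_colPair l (Pi.single j t)⟩) ?_ (hX.sieg _)
      simp only [w, swapSet_singleton, tv_eq_colElt, SpWeil.sieg,
        ← spPairSwap_conj_colElt l _ (by simp [Ne.symm hl] : (Pi.single j t : Fin n → F) l = 0),
        inv_mul_cancel_right]
    · refine gen _ _ (swapSet_comm_levi (tv hl t) ?_ ?_) (hX.levi _ hl _)
      · simp [tv_val, Matrix.mul_add, ind_mul_single, hk]
      · simp [tv_val, Matrix.add_mul, single_mul_ind, e]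

include h2 hψ in
theorem swap_sieg (hX : QHom ρ σ ψ j d X) (hd : d ≠ 0) (hρ : RankOne ρ ψ) (hσ : RankOne σ ψ)
    {k : Fin n} (hk : j ≠ k) (B : symMat n F) :
    Comm ρ σ X (swapSet {k} * SpWeil.sieg B * (swapSet {k})⁻¹) := fun v => by
  have h := congrArg (σ (swapSet {k}))
    ((hX.conj h2 hψ hd hρ hσ hk).sieg B (ρ (swapSet {k})⁻¹ v))
  simp only [LinearMap.comp_apply] at h
  rw [rho_apply_mul, rho_apply_mul]
  simp only [← rho_apply_mul, ← mul_assoc, mul_inv_cancel, map_one,
    Module.End.one_apply] at h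
  simpa only [← rho_apply_mul, ← mul_assoc] using h

include h2 hψ in
theorem swap (hX : QHom ρ σ ψ j d X) (hd : d ≠ 0) (hρ : RankOne ρ ψ) (hσ : RankOne σ ψ)
    {k : Fin n} (hk : j ≠ k) : Comm ρ σ X (swapSet {k}) := by
  set w : Cfsg.spGL n F := swapSet {k}
  set u : Cfsg.spGL n F := spSiegel (ind {k}) (isSymm_ind _)
  have hu : Comm ρ σ X u⁻¹ := (hX.sieg ⟨_, isSymm_ind _⟩).inv
  have hm : Comm ρ σ X (w * u⁻¹ * w⁻¹) := by
    rw [spSiegel_inv]
    exact hX.swap_sieg h2 hψ hd hρ hσ hk ⟨_, (isSymm_ind _).neg⟩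
  have e : w = u⁻¹ * (w * u⁻¹ * w⁻¹) * u⁻¹ := by
    have hb : u * w * (u * w) = w * u⁻¹ := by rw [spSiegel_inv]; exact swap_braid k
    rw [← hb]
    group
  rw [e]
  exact (hu.mul hm).mul hu

include h2 hψ in
theorem torus (hX : QHom ρ σ ψ j d X) (hd : d ≠ 0) (hρ : RankOne ρ ψ) (hσ : RankOne σ ψ)
    {k : Fin n} (hk : j ≠ k) {t : F} (ht : t ≠ 0) : Comm ρ σ X (spLevi (dgl k ht)) := by
  rw [← swap_torus k ht]
  have h1 : Comm ρ σ X (spSiegel (t • ind {k}) ((isSymm_ind _).smul t)) := hX.sieg ⟨t • ind {k}, (isSymm_ind _).smul t⟩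
  have h3 := hX.swap_sieg h2 hψ hd hρ hσ hk ⟨t⁻¹ • ind {k}, (isSymm_ind _).smul t⁻¹⟩
  have := ((h1.mul h3).mul h1).mul (hX.swap h2 hψ hd hρ hσ hk)
  simpa [SpWeil.sieg, mul_assoc] using this

include h2 hψ in
theorem levi_tv (hX : QHom ρ σ ψ j d X) (hd : d ≠ 0) (hρ : RankOne ρ ψ) (hσ : RankOne σ ψ)
    {a b : Fin n} (hab : a ≠ b) (hb : j ≠ b) (t : F) : Comm ρ σ X (spLevi (tv hab t)) := by
  have e := swap_pair hab (-t)
  rw [neg_neg] at e
  rw [eq_mul_inv_iff_mul_eq.2 e.symm]
  exact hX.swap_sieg h2 hψ hd hρ hσ hb ⟨_, isSymm_pairMat a b (-t)⟩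

omit [Fintype F] in
theorem comm_levi_mul {A B : GL (Fin n) F} (hA : Comm ρ σ X (spLevi A))
    (hB : Comm ρ σ X (spLevi B)) : Comm ρ σ X (spLevi (A * B)) := by
  rw [map_mul]
  exact hA.mul hB

include h2 hψ in
theorem levi_fix (hX : QHom ρ σ ψ j d X) (hd : d ≠ 0) (hρ : RankOne ρ ψ) (hσ : RankOne σ ψ)
    (A : GL (Fin n) F) (h : ind {j} * A.1 = ind {j}) (h' : A.1 * ind {j} = ind {j}) :
    Comm ρ σ X (spLevi A) := by
  classical
  have hdiag : ∀ (s : Finset (Fin n)) (M : GL (Fin n) F) (D : Fin n → F),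
      M.1 = Matrix.diagonal D → D j = 1 → (∀ a, a ∉ s → D a = 1) → Comm ρ σ X (spLevi M) := by
    intro s
    induction s using Finset.induction with
    | empty =>
      intro M D hM _ h1
      have : M = 1 := Units.ext (by
        rw [hM, funext fun a => h1 a (Finset.notMem_empty a), Units.val_one, Matrix.diagonal_one])
      rw [this, map_one]
      exact Comm.one
    | insert k s hks ih =>
      intro M D hM hj h1
      by_cases hkj : k = j
      · subst hkj
        refine ih M D hM hj fun a ha => ?_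
        by_cases e : a = k
        · subst e; exact hj
        · exact h1 a (by simp [e, ha])
      have hk0 : D k ≠ 0 := fun e => by
        have := congrFun (congrFun M.mul_inv k) k
        rw [hM, Matrix.diagonal_mul, e, zero_mul, Matrix.one_apply_eq] at this
        exact zero_ne_one this
      have e : M = dgl k hk0 * ((dgl k hk0)⁻¹ * M) := by rw [mul_inv_cancel_left]
      rw [e]
      refine comm_levi_mul (hX.torus h2 hψ hd hρ hσ (Ne.symm hkj) hk0)
        (ih _ (Function.update D k 1) ?_ (by simp [Ne.symm hkj, hj]) fun a ha => ?_)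
      · rw [Units.val_mul, dgl_inv_val, hM]
        ext a b
        simp only [Matrix.add_mul, Matrix.one_mul, Matrix.add_apply, Matrix.smul_mul,
          Matrix.smul_apply, ind_apply_mul, smul_eq_mul, Finset.mem_singleton]
        rcases eq_or_ne a b with rfl | hab
        · rcases eq_or_ne a k with rfl | hak
          · simp only [Matrix.diagonal_apply_eq, Function.update_self, if_pos]
            field_simp
            ring
          · simp [hak]
        · simp [Matrix.diagonal_apply_ne _ hab]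
      · by_cases e : a = k
        · subst e; simp
        · rw [Function.update_of_ne e]; exact h1 a (by simp [e, ha])
  let ι := {a : Fin n // a ≠ j}
  let emb : Matrix ι ι F → Matrix (Fin n) (Fin n) F := fun M =>
    (Matrix.fromBlocks M 0 0 1).submatrix (Equiv.sumCompl (· ≠ j)).symm
      (Equiv.sumCompl (· ≠ j)).symm
  have hemb : ∀ M (a b : Fin n), emb M a b =
      if ha : a ≠ j then (if hb : b ≠ j then M ⟨a, ha⟩ ⟨b, hb⟩ else 0)
      else if b = j then 1 else 0 := by
    intro M a b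
    by_cases ha : a = j <;> by_cases hb : b = j <;>
      simp [emb, ha, hb, Equiv.sumCompl_symm_apply_of_pos, Equiv.sumCompl_symm_apply_of_neg]
  have hmul : ∀ M N, emb (M * N) = emb M * emb N := fun M N => by
    simp [emb, Matrix.submatrix_mul_equiv, Matrix.fromBlocks_multiply]
  have hdet : ∀ M, (emb M).det = M.det := fun M => by simp [emb]
  have key : ∀ M : Matrix ι ι F, M.det ≠ 0 →
      ∀ B : GL (Fin n) F, B.1 = emb M → Comm ρ σ X (spLevi B) := by
    intro M hM
    refine Matrix.diagonal_transvection_induction_of_det_ne_zero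
      (fun M => ∀ B : GL (Fin n) F, B.1 = emb M → Comm ρ σ X (spLevi B)) M hM
      (fun D _ B hB => ?_) (fun t B hB => ?_) fun P Q hP hQ ihP ihQ B hB => ?_
    · refine hdiag Finset.univ B (fun a => if ha : a ≠ j then D ⟨a, ha⟩ else 1)
        (hB.trans ?_) (by simp) fun a ha => absurd (Finset.mem_univ a) ha
      ext a b
      rw [hemb]
      rcases eq_or_ne a b with rfl | hab
      · by_cases ha : a = j <;> simp [ha]
      · rw [Matrix.diagonal_apply_ne _ hab]
        by_cases ha : a = j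
        · simp [ha, Ne.symm (ha ▸ hab)]
        · by_cases hb : b = j
          · simp [ha, hb]
          · rw [dif_pos ha, dif_pos hb,
              Matrix.diagonal_apply_ne _ fun e => hab (congrArg Subtype.val e)]
    · have e : B = tv (fun e => t.hij (Subtype.ext e)) t.c := Units.ext (hB.trans (by
        ext a b
        rw [hemb, tv_val, Matrix.TransvectionStruct.toMatrix, Matrix.transvection]
        by_cases ha : a = j <;> by_cases hb : b = j <;>
          simp [ha, hb, Matrix.one_apply, Matrix.single_apply, t.i.2, t.j.2]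
        all_goals first
          | exact if_congr (by simp [Subtype.ext_iff]) rfl rfl
          | grind))
      rw [e]
      exact hX.levi_tv h2 hψ hd hρ hσ _ (Ne.symm t.j.2) t.c
    · let Pu := Matrix.GeneralLinearGroup.mkOfDetNeZero (emb P) (by rwa [hdet])
      let Qu := Matrix.GeneralLinearGroup.mkOfDetNeZero (emb Q) (by rwa [hdet])
      have e : B = Pu * Qu := Units.ext (by rw [hB, hmul]; rfl)
      rw [e]
      exact comm_levi_mul (ihP Pu rfl) (ihQ Qu rfl)
  have hrow : ∀ a, A.1 j a = if a = j then 1 else 0 := fun a => by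
    have := congrFun (congrFun h j) a
    rw [ind_apply_mul, if_pos (Finset.mem_singleton_self j), ind_singleton] at this
    simpa [Matrix.single_apply, eq_comm] using this
  have hcol : ∀ a, A.1 a j = if a = j then 1 else 0 := fun a => by
    have := congrFun (congrFun h' a) j
    rw [mul_ind_apply, if_pos (Finset.mem_singleton_self j), ind_singleton] at this
    simpa [Matrix.single_apply, eq_comm] using this
  have hA : A.1 = emb (A.1.submatrix Subtype.val Subtype.val) := by
    ext a b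
    rw [hemb]
    by_cases ha : a = j <;> by_cases hb : b = j <;> simp [ha, hb, hrow, hcol]
  refine key _ ?_ A hA
  rw [← hdet, ← hA]
  exact ((Matrix.isUnit_iff_isUnit_det _).1 A.isUnit).ne_zero

end QHom

/-! ## Extension of a map of weight spaces -/

/-- `1 + e_j ⊗ a`, for `a j = 0`. -/
def rowElt (j : Fin n) (a : {a : Fin n → F // a j = 0}) : GL (Fin n) F where
  val := 1 + Matrix.vecMulVec (Pi.single j 1) a.1
  inv := 1 - Matrix.vecMulVec (Pi.single j 1) a.1
  val_inv := by simp [Matrix.mul_sub, Matrix.add_mul, Matrix.vecMulVec_mul_vecMulVec, a.2]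
  inv_val := by simp [Matrix.sub_mul, Matrix.mul_add, Matrix.vecMulVec_mul_vecMulVec, a.2]

/-- The orbit of a weight. -/
def orb (S : symMat n F) : Set (symMat n F) := {T | ∃ A : GL (Fin n) F, act A S = T}

omit [Fintype F] in
theorem act_diagMat_apply (A : GL (Fin n) F) (j : Fin n) (d : F) (x y : Fin n) :
    (act A (diagMat j d)).1 x y = d * (A⁻¹.1 j x * A⁻¹.1 j y) := by
  rw [act_val, diagMat, Matrix.mul_apply, Finset.sum_eq_single j]
  · rw [Matrix.mul_single_apply_same, Matrix.transpose_apply]; ring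
  · intro b _ hb
    rw [Matrix.mul_single_apply_of_ne _ _ _ _ _ hb, zero_mul]
  · simp

omit [Fintype F] in
theorem act_rowElt_apply (j : Fin n) (a : {a : Fin n → F // a j = 0}) (d : F) (x y : Fin n) :
    (act (rowElt j a) (diagMat j d)).1 x y =
      d * ((if x = j then 1 else 0) - a.1 x) * ((if y = j then 1 else 0) - a.1 y) := by
  rw [act_diagMat_apply,
    show ((rowElt j a)⁻¹).1 = 1 - Matrix.vecMulVec (Pi.single j 1) a.1 from rfl]
  simp [Matrix.one_apply, Matrix.vecMulVec_apply, eq_comm, mul_assoc]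

omit [Fintype F] in
theorem orb_rankOne {j : Fin n} {d : F} {S : symMat n F} (h : S ∈ orb (diagMat j d)) (a b c e : Fin n) :
    S.1 a b * S.1 c e = S.1 a e * S.1 c b := by
  obtain ⟨A, rfl⟩ := h
  simp only [act_diagMat_apply]
  ring

omit [Fintype F] in
theorem orb_ne_zero {S T : symMat n F} (hS : S ≠ 0) (h : T ∈ orb S) : T ≠ 0 := by
  obtain ⟨A, rfl⟩ := h
  intro e
  refine hS ?_
  rw [← act_inv_cancel A S, e]
  exact Subtype.ext (by simp [act_val])

omit [Fintype F] in
/-- A rank-one weight is a row transform of a diagonal one. -/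
theorem mem_orb_diagMat {S : symMat n F}
    (hS : ∀ a b c e : Fin n, S.1 a b * S.1 c e = S.1 a e * S.1 c b) {i : Fin n}
    (hi : S.1 i i ≠ 0) : ∃ a, act (rowElt i a) (diagMat i (S.1 i i)) = S := by
  refine ⟨⟨fun l => if l = i then 0 else -(S.1 i l) / S.1 i i, by simp⟩, ?_⟩
  refine rankOne_ext (orb_rankOne ⟨_, rfl⟩) hS (j := i) (by simp [act_rowElt_apply, hi]) fun l => ?_
  rw [act_rowElt_apply]
  by_cases hl : l = i
  · simp [hl]
  · simp only [hl, if_false, if_true, zero_sub, neg_div, neg_neg, sub_zero]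
    field_simp

omit [Fintype F] in
theorem mem_orb_of_diag_eq {S₀ S T : symMat n F} (hS : S ∈ orb S₀)
    (hS1 : ∀ a b c e : Fin n, S.1 a b * S.1 c e = S.1 a e * S.1 c b)
    (hT1 : ∀ a b c e : Fin n, T.1 a b * T.1 c e = T.1 a e * T.1 c b) {i : Fin n}
    (hi : S.1 i i ≠ 0) (h : T.1 i i = S.1 i i) : T ∈ orb S₀ := by
  obtain ⟨a, ha⟩ := mem_orb_diagMat hS1 hi
  obtain ⟨b, hb⟩ := mem_orb_diagMat hT1 (i := i) (h ▸ hi)
  obtain ⟨A, hA⟩ := hS
  refine ⟨rowElt i b * ((rowElt i a)⁻¹ * A), ?_⟩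
  conv_rhs => rw [← hb, h]
  rw [act_mul, act_mul, hA]
  congr 1
  conv_lhs => rw [← ha]
  rw [act_inv_cancel]

variable (h2 : (2 : F) ≠ 0) (hψ : ψ ≠ 1)

/-- The map of weight spaces. -/
noncomputable def wtMap (ρ : Representation ℂ (Cfsg.spGL n F) W)
    (σ : Representation ℂ (Cfsg.spGL n F) U) (ψ : AddChar F ℂ) (S : symMat n F)
    (L₀ : W →ₗ[ℂ] U) : W →ₗ[ℂ] U :=
  proj σ ψ S ∘ₗ L₀ ∘ₗ proj ρ ψ S

include h2 hψ in
theorem wtMap_of_ne {S T : symMat n F} (L₀ : W →ₗ[ℂ] U) {v : W} (hv : IsWt ρ ψ T v) (h : S ≠ T) :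
    wtMap ρ σ ψ S L₀ v = 0 := by
  simp [wtMap, proj_of_ne h2 hψ hv h]

theorem isWt_wtMap (S : symMat n F) (L₀ : W →ₗ[ℂ] U) (v : W) : IsWt σ ψ S (wtMap ρ σ ψ S L₀ v) :=
  isWt_proj S _

omit [Fintype F] in
theorem rowElt_add (j : Fin n) (a b : {a : Fin n → F // a j = 0}) :
    rowElt j a * rowElt j b = rowElt j ⟨a.1 + b.1, by simp [a.2, b.2]⟩ := by
  refine Units.ext ?_
  simp [rowElt, Matrix.mul_add, Matrix.add_mul, Matrix.vecMulVec_mul_vecMulVec, a.2,
    Matrix.vecMulVec_add, add_assoc]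

omit [Fintype F] in
theorem rowElt_inv (j : Fin n) (a : {a : Fin n → F // a j = 0}) :
    (rowElt j a)⁻¹ = rowElt j ⟨-a.1, by simp [a.2]⟩ :=
  Units.ext (by simp [rowElt, Units.inv_mk, sub_eq_add_neg, Matrix.vecMulVec_neg])

include h2 hψ in
/-- The extension of a map of weight spaces to a Heisenberg-compatible map. -/
theorem exists_qhom {j : Fin n} {d : F} (hd : d ≠ 0) (L₀ : W →ₗ[ℂ] U) :
    ∃ X : W →ₗ[ℂ] U, QHom ρ σ ψ j d X ∧
      ∀ v, IsWt ρ ψ (diagMat j d) v → X v = wtMap ρ σ ψ (diagMat j d) L₀ v := by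
  classical
  let I := {a : Fin n → F // a j = 0}
  set S₀ := diagMat (F := F) j d
  set L := wtMap ρ σ ψ S₀ L₀ with hL
  let term : I → (W →ₗ[ℂ] U) := fun a =>
    σ (spLevi (rowElt j a)) ∘ₗ L ∘ₗ ρ (spLevi (rowElt j a)⁻¹)
  let X : W →ₗ[ℂ] U := ∑ a, term a
  have hterm : ∀ a S v, IsWt ρ ψ S v → act (rowElt j a) S₀ ≠ S → term a v = 0 := by
    intro a S v hv hne
    simp only [term, LinearMap.comp_apply, hL]
    rw [wtMap_of_ne h2 hψ L₀ (isWt_levi hv _) (fun e => hne ?_), map_zero]
    rw [e, act_cancel_inv]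
  have hjj : ∀ a, (act (rowElt j a) S₀).1 j j = d := fun a => by
    simp [S₀, act_rowElt_apply, a.2]
  refine ⟨X, ⟨fun B v => ?_, fun k hk t v => ?_, fun S v hv hS => ?_⟩, fun v hv => ?_⟩
  · refine ext_of_wt (ρ := ρ) h2 hψ (X := X ∘ₗ ρ (sieg B)) (Y := σ (sieg B) ∘ₗ X)
      (fun S u hu => ?_) v
    simp only [X, LinearMap.comp_apply, hu B, map_smul, LinearMap.sum_apply, map_sum,
      Finset.smul_sum]
    refine Finset.sum_congr rfl fun a _ => ?_
    by_cases e : act (rowElt j a) S₀ = S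
    · have : IsWt σ ψ S (term a u) := e ▸ isWt_levi (isWt_wtMap S₀ L₀ _) _
      exact (this B).symm
    · rw [hterm a S u hu e, smul_zero, map_zero]
  · let c : I := ⟨Pi.single k t, by simp [hk]⟩
    have hc : tv hk t = rowElt j c := by
      ext x y
      simp [tv_val, rowElt, c, Matrix.vecMulVec_apply, Matrix.single_apply, Pi.single_apply]
      grind
    rw [hc]
    simp only [X, LinearMap.sum_apply, map_sum]
    let e : I ≃ I :=
      { toFun := fun a => ⟨a.1 - c.1, by simp [a.2, c.2]⟩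
        invFun := fun a => ⟨a.1 + c.1, by simp [a.2, c.2]⟩
        left_inv := fun a => Subtype.ext (sub_add_cancel _ _)
        right_inv := fun a => Subtype.ext (add_sub_cancel_right _ _) }
    refine Fintype.sum_equiv e _ _ fun a => ?_
    simp only [term, LinearMap.comp_apply, e, Equiv.coe_fn_mk, ← rho_apply_mul, ← map_mul]
    congr 4
    · rw [rowElt_add]; congr 1; exact Subtype.ext (by simp)
    · rw [rowElt_inv, rowElt_inv, rowElt_add]; refine congrArg spLevi (congrArg (rowElt j) (Subtype.ext ?_))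
      simp [sub_eq_add_neg, add_comm]
  · simp only [X, LinearMap.sum_apply]
    exact Finset.sum_eq_zero fun a _ => hterm a S v hv fun e => hS (e ▸ hjj a)
  · simp only [X, LinearMap.sum_apply]
    rw [Finset.sum_eq_single (⟨0, rfl⟩ : I) (fun a _ ha => hterm a S₀ v hv fun e => ha ?_) (by simp)]
    · have : rowElt j (⟨0, rfl⟩ : I) = 1 := Units.ext (by simp [rowElt])
      simp [term, this, hL]
    · refine Subtype.ext (funext fun l => ?_)
      by_cases hl : l = j
      · subst hl; exact a.2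
      have := congrArg (fun S : symMat n F => S.1 j l) e
      simp only [S₀, act_rowElt_apply] at this
      simpa [diagMat, hl, Matrix.single_apply, a.2, hd, Ne.symm hl] using this

end Cfsg.Agent.SpWeil
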