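import Cfsg.Agent.Lib.SpWeil.Rigidity

/-!
# Uniqueness of an irreducible representation with weights of rank one
* `wtMap_levi` : the stabilizer of a weight acts on both weight spaces by the same scalar
* `exists_orbMap`, `IsOrbMap.good` : the map on an orbit of weights and its compatibility with swaps
* `exists_equiv` : the resulting isomorphism
-/

set_option autoImplicit false

open Matrix

namespace Cfsg.Agent.SpWeil

open Cfsg.Agent.Linear

variable {n : ℕ} {F : Type*} [Field F] [Fintype F]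

noncomputable local instance : Fintype (symMat n F) := Fintype.ofFinite _

variable {W : Type*} [AddCommGroup W] [Module ℂ W] {U : Type*} [AddCommGroup U] [Module ℂ U]
  {ρ : Representation ℂ (Cfsg.spGL n F) W} {σ : Representation ℂ (Cfsg.spGL n F) U}
  {ψ : AddChar F ℂ}

omit [Fintype F] in
theorem swap_sq (k : Fin n) :
    swapSet (F := F) {k} * swapSet {k} = spLevi (dgl k (t := -1) (by simp)) := by
  obtain ⟨ea, eb, ec, ed⟩ := blk_mul (swapSet (F := F) {k}) (swapSet {k})
  refine spGL_ext_blk ?_ ?_ ?_ ?_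
  all_goals
    simp only [ea, eb, ec, ed, blkA_swapSet, blkB_swapSet, blkC_swapSet, blkD_swapSet,
      blkA_spLevi, blkB_spLevi, blkC_spLevi, blkD_spLevi, dgl_val, dgl_inv_val]
    simp [Matrix.sub_mul, Matrix.mul_sub, Matrix.transpose_smul, sub_smul]
  all_goals norm_num
  all_goals module

omit [Fintype F] in
/-- Elements with row `j` equal to `± e_j` fix the weight `d E_jj`. -/
theorem act_diagMat_of_row {j : Fin n} (d : F) {r : F} (hr : r * r = 1) {A : GL (Fin n) F}
    (hA : ∀ x, A.1 j x = if x = j then r else 0) : act A (diagMat j d) = diagMat j d := by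
  have hi : ∀ x, A⁻¹.1 j x = if x = j then r else 0 := fun x => by
    have h := congrFun (congrFun A.mul_inv j) x
    rw [Matrix.mul_apply, Finset.sum_eq_single j (fun b _ hb => by simp [hA, hb]) (by simp),
      hA, if_pos rfl, Matrix.one_apply] at h
    calc A⁻¹.1 j x = r * (r * A⁻¹.1 j x) := by rw [← mul_assoc, hr, one_mul]
      _ = _ := by rw [h]; simp [eq_comm]
  refine Subtype.ext (Matrix.ext fun x y => ?_)
  rw [act_diagMat_apply, hi, hi]
  by_cases hx : x = j <;> by_cases hy : y = j <;> simp [diagMat, hx, hy, hr, Ne.symm]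

omit [Fintype F] in
theorem row_of_ind {j : Fin n} {A : GL (Fin n) F} (h : ind {j} * A.1 = ind {j}) (x : Fin n) :
    A.1 j x = if x = j then 1 else 0 := by
  have := congrFun (congrFun h j) x
  rw [ind_apply_mul, if_pos (Finset.mem_singleton_self j), ind_singleton] at this
  simpa [Matrix.single_apply, eq_comm] using this

theorem isWt_levi_fix {j : Fin n} {d : F} {v : W} (hv : IsWt ρ ψ (diagMat j d) v)
    {A : GL (Fin n) F} {r : F} (hr : r * r = 1) (hA : ∀ x, A.1 j x = if x = j then r else 0) :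
    IsWt ρ ψ (diagMat j d) (ρ (spLevi A) v) := by
  have := isWt_levi hv A
  rwa [act_diagMat_of_row d hr hA] at this

variable (h2 : (2 : F) ≠ 0) (hψ : ψ ≠ 1)

include h2 hψ in
theorem wtMap_levi_block (hρ : RankOne ρ ψ) (hσ : RankOne σ ψ) {j : Fin n} {d : F} (hd : d ≠ 0)
    (L₀ : W →ₗ[ℂ] U) (M : GL (Fin n) F) (h : ind {j} * M.1 = ind {j})
    (h' : M.1 * ind {j} = ind {j}) {v : W} (hv : IsWt ρ ψ (diagMat j d) v) :
    wtMap ρ σ ψ (diagMat j d) L₀ (ρ (spLevi M) v) =
      σ (spLevi M) (wtMap ρ σ ψ (diagMat j d) L₀ v) := by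
  obtain ⟨X, hX, hX'⟩ := exists_qhom (ρ := ρ) (σ := σ) h2 hψ (j := j) hd L₀
  rw [← hX' _ (isWt_levi_fix hv (one_mul 1) (row_of_ind h)),
    hX.levi_fix h2 hψ hd hρ hσ M h h', hX' _ hv]

include h2 hψ in
/-- The column elements at `j` are trivial on the weight space of `d E_jj`. -/
theorem colElt_fix (hρ : RankOne ρ ψ) {j : Fin n} {d : F} (hd : d ≠ 0) (c : Fin n → F)
    (hc : c j = 0) {u : W} (hu : IsWt ρ ψ (diagMat j d) u) :
    ρ (spLevi (colElt j c hc)) u = u := by
  obtain ⟨h, hval⟩ : ∃ h : GL (Fin n) F, h.1 = -1 + (2 : F) • ind {j} := by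
    refine ⟨-1 * dgl j (t := -1) (by simp), ?_⟩
    rw [Units.val_mul, Units.val_neg, Units.val_one, dgl_val]
    simp only [Matrix.neg_mul, Matrix.one_mul, neg_add]
    module
  have hf : ind {j} * h.1 = ind {j} := by
    rw [hval]; simp [Matrix.mul_add]; module
  have hf' : h.1 * ind {j} = ind {j} := by
    rw [hval]; simp [Matrix.add_mul]; module
  let c' : Fin n → F := (2 : F)⁻¹ • c
  have hc' : c' j = 0 := by simp [c', hc]
  let g := colElt j c' hc'
  have hg : h * g = g⁻¹ * h := Units.ext (by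
    rw [Units.val_mul, Units.val_mul, hval]
    show (-1 + (2 : F) • ind {j}) * (1 + Matrix.vecMulVec c' (Pi.single j 1)) =
      (1 - Matrix.vecMulVec c' (Pi.single j 1)) * (-1 + (2 : F) • ind {j})
    ext a b
    simp only [Matrix.mul_add, Matrix.add_mul, Matrix.sub_mul, Matrix.add_apply,
      Matrix.sub_apply, Matrix.smul_mul, Matrix.mul_smul, Matrix.smul_apply, ind_apply_mul,
      mul_ind_apply, Matrix.neg_mul, Matrix.one_mul, Matrix.mul_one,
      Matrix.neg_apply, Matrix.vecMulVec_apply, smul_eq_mul, Finset.mem_singleton,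
      Pi.single_apply]
    by_cases ha : a = j <;> by_cases hb : b = j <;> simp [ha, hb, hc', Matrix.vecMulVec_apply, Pi.single_apply] <;> ring)
  have hg2 : colElt j c hc = g * g := Units.ext (by
    show 1 + Matrix.vecMulVec c (Pi.single j 1) =
      (1 + Matrix.vecMulVec c' (Pi.single j 1)) * (1 + Matrix.vecMulVec c' (Pi.single j 1))
    simp only [Matrix.mul_add, Matrix.add_mul, Matrix.one_mul, Matrix.mul_one,
      Matrix.vecMulVec_mul_vecMulVec, single_dotProduct, hc', mul_zero, zero_smul,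
      Matrix.vecMulVec_zero, add_zero]
    ext a b
    simp only [Matrix.add_apply, Matrix.vecMulVec_apply, c', Pi.smul_apply, smul_eq_mul]
    field_simp
    ring)
  have hrow : ∀ x, g.1 j x = if x = j then 1 else 0 := fun x => by
    show (1 + Matrix.vecMulVec c' (Pi.single j 1)) j x = _
    simp [Matrix.one_apply, Matrix.vecMulVec_apply, hc', eq_comm]
  obtain ⟨Y, hY, hY'⟩ := exists_qhom (ρ := ρ) (σ := ρ) h2 hψ (j := j) hd (ρ (spLevi g))
  have hYg : ∀ {u : W}, IsWt ρ ψ (diagMat j d) u → Y u = ρ (spLevi g) u := fun hu => by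
    rw [hY' _ hu, wtMap, LinearMap.comp_apply, LinearMap.comp_apply, proj_of_isWt hu,
      proj_of_isWt (isWt_levi_fix hu (one_mul 1) hrow)]
  have hwh : ∀ {u : W}, IsWt ρ ψ (diagMat j d) u → IsWt ρ ψ (diagMat j d) (ρ (spLevi h) u) :=
    fun hu => isWt_levi_fix hu (one_mul 1) (row_of_ind hf)
  have key : ∀ {u : W}, IsWt ρ ψ (diagMat j d) u →
      ρ (spLevi (g * g)) (ρ (spLevi h) u) = ρ (spLevi h) u := fun {u} hu => by
    have e := hY.levi_fix h2 hψ hd hρ hρ h hf hf' u
    rw [hYg hu, hYg (hwh hu), ← rho_apply_mul ρ (spLevi h), ← map_mul, hg, map_mul,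
      rho_apply_mul] at e
    rw [map_mul, rho_apply_mul, e, ← rho_apply_mul, ← map_mul, mul_inv_cancel, map_one, map_one,
      Module.End.one_apply]
  have hh2 : h * h = 1 := Units.ext (by
    rw [Units.val_mul, hval, Units.val_one]
    simp [Matrix.mul_add, Matrix.add_mul, smul_smul]
    module)
  have := key (hwh hu)
  rwa [← rho_apply_mul ρ (spLevi h), ← map_mul spLevi h, hh2, map_one, map_one,
    Module.End.one_apply, ← hg2] at this

include h2 hψ in
/-- The stabilizer of `d E_jj` acts compatibly on both weight spaces. -/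
theorem wtMap_levi (hρ : RankOne ρ ψ) (hσ : RankOne σ ψ) {j : Fin n} {d : F} (hd : d ≠ 0) {ε : ℂ}
    (hcρ : ∀ v, ρ (spLevi (-1)) v = ε • v) (hcσ : ∀ v, σ (spLevi (-1)) v = ε • v)
    (L₀ : W →ₗ[ℂ] U) (A : GL (Fin n) F) (hA : act A (diagMat j d) = diagMat j d) {v : W}
    (hv : IsWt ρ ψ (diagMat j d) v) :
    wtMap ρ σ ψ (diagMat j d) L₀ (ρ (spLevi A) v) =
      σ (spLevi A) (wtMap ρ σ ψ (diagMat j d) L₀ v) := by
  set L := wtMap ρ σ ψ (diagMat j d) L₀
  have main : ∀ A : GL (Fin n) F, (∀ x, A.1 j x = if x = j then 1 else 0) →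
      L (ρ (spLevi A) v) = σ (spLevi A) (L v) := by
    intro A hA
    let c : Fin n → F := fun a => if a = j then 0 else A.1 a j
    have hc : c j = 0 := by simp [c]
    set K := colElt j c hc
    set M := K⁻¹ * A with hM
    have hKi : K⁻¹.1 = 1 - Matrix.vecMulVec c (Pi.single j 1) := rfl
    have hMv : ∀ a b, M.1 a b = A.1 a b - c a * A.1 j b := fun a b => by
      rw [hM, Units.val_mul, hKi, Matrix.sub_mul, Matrix.one_mul, Matrix.sub_apply,
        Matrix.vecMulVec_mul, Matrix.vecMulVec_apply, Matrix.single_one_vecMul, Matrix.row_apply]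
    have h : ind {j} * M.1 = ind {j} := Matrix.ext fun a b => by
      rw [ind_apply_mul, hMv]
      by_cases ha : a = j <;> by_cases hb : b = j <;>
        simp [ha, hb, hc, hA, ind, Matrix.diagonal_apply, eq_comm (a := j)]
    have h' : M.1 * ind {j} = ind {j} := Matrix.ext fun a b => by
      rw [mul_ind_apply, hMv]
      by_cases ha : a = j <;> by_cases hb : b = j <;>
        simp [ha, hb, hA, c, ind, Matrix.diagonal_apply, eq_comm (a := j)]
    have hw := isWt_levi_fix hv (one_mul 1) (row_of_ind h)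
    rw [show A = K * M by rw [hM, mul_inv_cancel_left], map_mul, rho_apply_mul, rho_apply_mul,
      colElt_fix h2 hψ hρ hd c hc hw, wtMap_levi_block h2 hψ hρ hσ hd L₀ M h h' hv,
      colElt_fix h2 hψ hσ hd c hc]
    rw [← wtMap_levi_block h2 hψ hρ hσ hd L₀ M h h' hv]
    exact isWt_wtMap _ _ _
  have hs : ∀ x y, A⁻¹.1 j x * A⁻¹.1 j y = if x = j ∧ y = j then 1 else 0 := fun x y => by
    have := congrArg (fun S : symMat n F => S.1 x y) hA
    simp only [act_diagMat_apply] at this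
    simp only [diagMat, Matrix.single_apply, eq_comm (a := j)] at this
    refine mul_left_cancel₀ hd (this.trans ?_)
    split_ifs <;> simp
  have hr := hs j j
  rw [if_pos ⟨rfl, rfl⟩] at hr
  have hz : ∀ x, x ≠ j → A⁻¹.1 j x = 0 := fun x hx =>
    mul_self_eq_zero.1 ((hs x x).trans (if_neg fun h => hx h.1))
  have hAx : ∀ x, A⁻¹.1 j j * A.1 j x = if x = j then 1 else 0 := fun x => by
    have h := congrFun (congrFun A.inv_mul j) x
    rw [Matrix.mul_apply, Finset.sum_eq_single j (fun b _ hb => by rw [hz b hb, zero_mul])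
      (by simp), Matrix.one_apply] at h
    simpa [eq_comm] using h
  rcases mul_self_eq_mul_self_iff.1 (hr.trans (one_mul 1).symm) with e | e
  · exact main A fun x => by simpa [e] using hAx x
  · have hm := main (-1 * A) fun x => by simpa [e] using hAx x
    rw [show A = -1 * (-1 * A) by simp, map_mul, rho_apply_mul, rho_apply_mul, hcρ, map_smul, hcσ,
      hm]

/-- A map compatible with the Siegel parabolic and supported on the orbit of `S₀`. -/
structure IsOrbMap (ρ : Representation ℂ (Cfsg.spGL n F) W)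
    (σ : Representation ℂ (Cfsg.spGL n F) U) (ψ : AddChar F ℂ) (S₀ : symMat n F)
    (T : W →ₗ[ℂ] U) : Prop where
  sieg : ∀ B, Comm ρ σ T (sieg B)
  levi : ∀ A, Comm ρ σ T (spLevi A)
  supp : ∀ (S : symMat n F) (v : W), IsWt ρ ψ S v → S ∉ orb S₀ → T v = 0

omit [Fintype F] in
theorem mem_orb_act {S₀ S : symMat n F} (A : GL (Fin n) F) :
    act A S ∈ orb S₀ ↔ S ∈ orb S₀ := by
  constructor
  · rintro ⟨B, hB⟩
    exact ⟨A⁻¹ * B, by rw [act_mul, hB, act_inv_cancel]⟩
  · rintro ⟨B, rfl⟩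
    exact ⟨A * B, act_mul _ _ _⟩

include h2 hψ in
theorem exists_orbMap (hρ : RankOne ρ ψ) (hσ : RankOne σ ψ) {j : Fin n} {d : F} (hd : d ≠ 0)
    {ε : ℂ} (hcρ : ∀ v, ρ (spLevi (-1)) v = ε • v) (hcσ : ∀ v, σ (spLevi (-1)) v = ε • v)
    {v₀ : W} (hv₀ : v₀ ≠ 0) (hw₀ : IsWt ρ ψ (diagMat j d) v₀)
    {u₀ : U} (hu₀ : u₀ ≠ 0) (hw₁ : IsWt σ ψ (diagMat j d) u₀) :
    ∃ T : W →ₗ[ℂ] U, IsOrbMap ρ σ ψ (diagMat j d) T ∧ T v₀ ≠ 0 := by
  classical
  set S₀ := diagMat (F := F) j d with hS₀
  obtain ⟨f, hf⟩ := LinearMap.exists_leftInverse_of_injective (LinearMap.toSpanSingleton ℂ W v₀)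
    (LinearMap.ker_toSpanSingleton ℂ hv₀)
  set L := wtMap ρ σ ψ S₀ (LinearMap.toSpanSingleton ℂ U u₀ ∘ₗ f)
  have hL : L v₀ = u₀ := by
    have : f v₀ = 1 := by simpa using LinearMap.congr_fun hf 1
    simp [L, wtMap, proj_of_isWt hw₀, this, proj_of_isWt hw₁]
  let term : GL (Fin n) F → (W →ₗ[ℂ] U) := fun A =>
    σ (spLevi A) ∘ₗ L ∘ₗ ρ (spLevi A⁻¹)
  let T : W →ₗ[ℂ] U := ∑ A, term A
  have hterm : ∀ A S v, IsWt ρ ψ S v → act A S₀ ≠ S → term A v = 0 := fun A S v hv hne => by
    simp only [term, LinearMap.comp_apply, L]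
    rw [wtMap_of_ne h2 hψ _ (isWt_levi hv _) (fun e => hne ?_), map_zero]
    rw [e, act_cancel_inv]
  refine ⟨T, ⟨fun B v => ?_, fun A v => ?_, fun S v hv hS => ?_⟩, ?_⟩
  · refine ext_of_wt (ρ := ρ) h2 hψ (X := T ∘ₗ ρ (sieg B)) (Y := σ (sieg B) ∘ₗ T)
      (fun S u hu => ?_) v
    simp only [T, LinearMap.comp_apply, hu B, map_smul, LinearMap.sum_apply, map_sum,
      Finset.smul_sum]
    refine Finset.sum_congr rfl fun A _ => ?_
    by_cases e : act A S₀ = S
    · have : IsWt σ ψ S (term A u) := e ▸ isWt_levi (isWt_wtMap S₀ _ _) _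
      exact (this B).symm
    · rw [hterm A S u hu e, smul_zero, map_zero]
  · simp only [T, LinearMap.sum_apply, map_sum]
    refine Fintype.sum_equiv (Equiv.mulLeft A⁻¹) _ _ fun C => ?_
    simp only [term, LinearMap.comp_apply, Equiv.coe_mulLeft, ← rho_apply_mul, ← map_mul,
      mul_inv_cancel_left]
    simp [_root_.mul_inv_rev]
  · simp only [T, LinearMap.sum_apply]
    exact Finset.sum_eq_zero fun A _ => hterm A S v hv fun e => hS ⟨A, e⟩
  · have hT : T v₀ = (Finset.univ.filter fun A => act A S₀ = S₀).card • u₀ := by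
      simp only [T, LinearMap.sum_apply]
      rw [← Finset.sum_subset (Finset.subset_univ (Finset.univ.filter fun A => act A S₀ = S₀))
        (fun A _ hA => hterm A S₀ v₀ hw₀ (by simpa using hA)), ← Finset.sum_const]
      refine Finset.sum_congr rfl fun A hA => ?_
      have hA : act A S₀ = S₀ := (Finset.mem_filter.1 hA).2
      have hA' : act A⁻¹ S₀ = S₀ := by conv_lhs => rw [← hA, act_inv_cancel]
      simp only [term, LinearMap.comp_apply, L]
      rw [wtMap_levi h2 hψ hρ hσ hd hcρ hcσ _ A⁻¹ hA' hw₀, ← rho_apply_mul, ← map_mul,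
        mul_inv_cancel, map_one, map_one, Module.End.one_apply]
      exact hL
    rw [hT, ← Nat.cast_smul_eq_nsmul ℂ]
    refine smul_ne_zero (Nat.cast_ne_zero.2 (Finset.card_ne_zero.2 ⟨1, ?_⟩)) hu₀
    simp [act_one]

include h2 hψ in
/-- Elements commuting with a diagonal root subgroup commute with its spectral projections. -/
theorem projSet_diag_comm (k : Fin n) (D : Set F) {g : Cfsg.spGL n F}
    (hg : ∀ t, sieg (diagMat k t) * g = g * sieg (diagMat k t)) (v : W) :
    projSet ρ ψ {S | S.1 k k ∈ D} (ρ g v) = ρ g (projSet ρ ψ {S | S.1 k k ∈ D} v) := by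
  classical
  set A : Set (symMat n F) := {S | S.1 k k ∈ D}
  refine ext_of_wt (ρ := ρ) h2 hψ (X := projSet ρ ψ A ∘ₗ ρ g) (Y := ρ g ∘ₗ projSet ρ ψ A)
    (fun S u hu => ?_) v
  simp only [LinearMap.comp_apply, projSet_of_isWt h2 hψ A hu]
  have he := (hu.isEig k).of_commute hg
  by_cases hS : S ∈ A
  · rw [if_pos hS]
    exact projSet_eq_self h2 hψ A fun T hT => by
      show T.1 k k ∈ D
      rw [he.supp hψ hT]
      exact hS
  · rw [if_neg hS, map_zero, projSet_apply]
    refine Finset.sum_eq_zero fun T _ => ?_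
    split_ifs with hT
    · by_contra h0
      exact hS (show S.1 k k ∈ D by rw [← he.supp hψ h0]; exact hT)
    · rfl

namespace IsOrbMap

variable {j : Fin n} {d : F} {T : W →ₗ[ℂ] U}

include h2 hψ in
theorem comm_swap (hT : IsOrbMap ρ σ ψ (diagMat j d) T) (hρ : RankOne ρ ψ) (hσ : RankOne σ ψ)
    {i k : Fin n} (hik : i ≠ k) {e : F} (he : e ≠ 0) {v : W} (hv : IsEig ρ ψ i e v) :
    T (ρ (swapSet {k}) v) = σ (swapSet {k}) (T v) := by
  classical
  set A : Set (symMat n F) := {S | S.1 i i = e}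
  have hA : ∀ {u : W}, IsEig ρ ψ i e u → projSet ρ ψ A u = u := fun hu =>
    projSet_eq_self h2 hψ A fun S hS => hu.supp hψ hS
  have hX : QHom ρ σ ψ i e (T ∘ₗ projSet ρ ψ A) := by
    refine ⟨fun B u => ?_, fun l hl t u => ?_, fun S u hu hS => ?_⟩
    · simp only [LinearMap.comp_apply]
      rw [projSet_map (X := ρ (SpWeil.sieg B)) fun C x => by
        rw [← rho_apply_mul, sieg_comm, rho_apply_mul], hT.sieg]
    · simp only [LinearMap.comp_apply]
      rw [projSet_levi h2 hψ A _ (fun S => ?_), hT.levi]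
      show (act (tv hl t) S).1 i i = e ↔ S.1 i i = e
      have hcol : ∀ x, (tv hl t)⁻¹.1 x i = if x = i then 1 else 0 := fun x => by
        rw [tv_inv_val, Matrix.add_apply, Matrix.one_apply,
          Matrix.single_apply_of_ne (h := fun hh => hl hh.2.symm), add_zero]
      rw [show (act (tv hl t) S).1 i i = S.1 i i by
        simp only [act_val, Matrix.mul_apply, Matrix.transpose_apply, hcol, mul_ite, mul_one,
          mul_zero, Finset.sum_ite_eq', Finset.mem_univ, if_true, ite_mul, one_mul, zero_mul]]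
    · simp only [LinearMap.comp_apply]
      rw [projSet_of_isWt h2 hψ A hu, if_neg (by exact hS), map_zero]
  have := hX.swap h2 hψ he hρ hσ hik v
  simp only [LinearMap.comp_apply] at this
  rwa [hA (hv.of_commute fun t => sieg_diag_swap (by simpa using hik) t), hA hv] at this

include h2 hψ in
theorem comm_swapSet (hT : IsOrbMap ρ σ ψ (diagMat j d) T) (hρ : RankOne ρ ψ) (hσ : RankOne σ ψ)
    {i : Fin n} {e : F} (he : e ≠ 0) (s : Finset (Fin n)) (hi : i ∉ s) {v : W}
    (hv : IsEig ρ ψ i e v) : T (ρ (swapSet s) v) = σ (swapSet s) (T v) := by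
  induction s using Finset.induction with
  | empty => simp [swapSet_empty]
  | insert k s hks ih =>
    rw [Finset.mem_insert, not_or] at hi
    rw [swapSet_insert hks, rho_apply_mul, rho_apply_mul,
      hT.comm_swap h2 hψ hρ hσ hi.1 he (hv.of_commute fun t => sieg_diag_swap hi.2 t), ih hi.2]

include h2 hψ in
theorem projSet_orb (hT : IsOrbMap ρ σ ψ (diagMat j d) T) (v : W) :
    projSet σ ψ (orb (diagMat j d)) (T v) = T v ∧
      T (projSet ρ ψ (orb (diagMat j d)) v) = T v := by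
  classical
  have h : T (projSet ρ ψ (orb (diagMat j d)) v) = T v := by
    refine ext_of_wt (ρ := ρ) h2 hψ (X := T ∘ₗ projSet ρ ψ (orb (diagMat j d))) (Y := T)
      (fun S u hu => ?_) v
    rw [LinearMap.comp_apply, projSet_of_isWt h2 hψ _ hu]
    split_ifs with hS
    · rfl
    · rw [map_zero, hT.supp S u hu hS]
  exact ⟨(projSet_map hT.sieg _ _).trans h, h⟩

include h2 hψ in
/-- The swap at `k` on a weight vector of weight `e E_kk`. -/
theorem swap_key (hT : IsOrbMap ρ σ ψ (diagMat j d) T) (hd : d ≠ 0) (hρ : RankOne ρ ψ)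
    (hσ : RankOne σ ψ) {i k : Fin n} (hik : i ≠ k) {e : F} (he : e ≠ 0) {v : W}
    (hv : IsWt ρ ψ (diagMat k e) v) :
    projSet σ ψ (orb (diagMat j d)) (σ (swapSet {k}) (T v)) = T (ρ (swapSet {k}) v) := by
  classical
  set O := orb (diagMat (F := F) j d)
  have hO0 : ∀ S ∈ O, S ≠ 0 := fun S hS => orb_ne_zero (fun h => hd (by
    simpa [diagMat] using congrArg (fun S : symMat n F => S.1 j j) h)) hS
  set Dk : Set F := {c | c ≠ 0 ∧ diagMat k c ∈ O}
  set QA : Set (symMat n F) := {S | S.1 k k ∈ Dk}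
  set w : Cfsg.spGL n F := swapSet {k}
  set w' : Cfsg.spGL n F := swapSet {i}
  have hki : ∀ t, SpWeil.sieg (diagMat k t) * w' = w' * SpWeil.sieg (diagMat k t) :=
    sieg_diag_swap (by simpa using Ne.symm hik)
  have hl : ∀ l, l ≠ k → ∀ t, SpWeil.sieg (diagMat (F := F) l t) * w = w * SpWeil.sieg (diagMat l t) :=
    fun l hl => sieg_diag_swap (by simpa using hl)
  have hdk : ∀ {c : F}, ∀ a b c' e' : Fin n, (diagMat k c).1 a b * (diagMat k c).1 c' e' =
      (diagMat k c).1 a e' * (diagMat k c).1 c' b := fun a b c' e' => by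
    simp only [diagMat, Matrix.single_apply]
    split_ifs <;> grind
  have hv0 : ∀ l, l ≠ k → IsEig ρ ψ l 0 v := fun l hlk => by
    simpa [diagMat, Matrix.single_apply, Ne.symm hlk] using hv.isEig l
  have hvk : IsEig ρ ψ k e v := by simpa [diagMat] using hv.isEig k
  -- on vectors with diagonal weights, the projection on the orbit is that of the `k`th entry
  have hPQ : ∀ {y : U}, (∀ l, l ≠ k → IsEig σ ψ l 0 y) →
      projSet σ ψ O y = projSet σ ψ QA y := fun {y} hy => by
    rw [projSet_apply, projSet_apply]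
    refine Finset.sum_congr rfl fun S _ => ?_
    by_cases h0 : proj σ ψ S y = 0
    · simp [h0]
    have hS := rankOne_eq_diagMat (hσ.supp h0) k fun l hlk => (hy l hlk).supp hψ h0
    refine if_congr ⟨fun hSO => ?_, fun hSQ => ?_⟩ rfl rfl
    · exact ⟨fun h => hO0 S hSO (by
        rw [hS, h]; exact Subtype.ext (by simp [diagMat])), hS ▸ hSO⟩
    · rw [hS]; exact hSQ.2
  -- the swap at `i` passes through `T` on the `k`th spectral part
  have hTQ : ∀ y : W, σ w' (T (projSet ρ ψ QA y)) = T (ρ w' (projSet ρ ψ QA y)) := fun y => by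
    rw [projSet_apply, map_sum, map_sum, map_sum, map_sum]
    refine Finset.sum_congr rfl fun S _ => ?_
    split_ifs with hS
    · exact (hT.comm_swap h2 hψ hρ hσ (Ne.symm hik) hS.1 ((isWt_proj S y).isEig k)).symm
    · simp
  have hQT : ∀ y : W, projSet σ ψ QA (T y) = T (projSet ρ ψ QA y) := projSet_map hT.sieg QA
  have hy₁ : ∀ l, l ≠ k → IsEig σ ψ l 0 (σ w (T v)) := fun l hlk =>
    ((hv0 l hlk).map hT.sieg).of_commute (hl l hlk)
  have hy₂ : ∀ l, l ≠ k → IsEig σ ψ l 0 (T (ρ w v)) := fun l hlk =>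
    ((hv0 l hlk).of_commute (hl l hlk)).map hT.sieg
  set z := projSet σ ψ QA (σ w (T v)) - T (projSet ρ ψ QA (ρ w v)) with hz
  suffices hz0 : z = 0 by
    rw [hPQ hy₁, sub_eq_zero.1 hz0, ← hQT, ← hPQ hy₂, (hT.projSet_orb h2 hψ _).1]
  have hsieg : ∀ {Z : U →ₗ[ℂ] U}, (∀ B x, Z (σ (SpWeil.sieg B) x) = σ (SpWeil.sieg B) (Z x)) →
      ∀ l {c : F} {x : U}, IsEig σ ψ l c x → IsEig σ ψ l c (Z x) := fun hZ l _ _ hx => hx.map hZ
  have hQc : ∀ B x, projSet σ ψ QA (σ (SpWeil.sieg B) x) = σ (SpWeil.sieg B) (projSet σ ψ QA x) :=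
    fun B x => projSet_map (fun C y => by rw [← rho_apply_mul, sieg_comm, rho_apply_mul]) QA x
  have hzl : ∀ l, l ≠ k → IsEig σ ψ l 0 z := fun l hlk =>
    (hsieg hQc l (hy₁ l hlk)).sub (by rw [← hQT]; exact hsieg hQc l (hy₂ l hlk))
  have hzS : ∀ S, proj σ ψ S z ≠ 0 → S ∈ QA := fun S hS => by
    by_contra hSA
    refine hS ?_
    rw [hz, map_sub, proj_projSet h2 hψ, if_neg hSA, ← hQT, proj_projSet h2 hψ, if_neg hSA,
      sub_zero]
  -- the image of `z` under the swap at `i`
  set u := ρ w' v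
  set x := σ w' z with hxdef
  have hx : x = projSet σ ψ QA (σ w (T u) - T (ρ w u)) := by
    have hc : w * w' = w' * w := swapSet_comm (by simpa using Ne.symm hik)
    rw [hxdef, hz, map_sub, map_sub, hTQ, ← projSet_diag_comm h2 hψ k Dk hki,
      ← projSet_diag_comm h2 hψ k Dk hki, hQT]
    show projSet σ ψ QA (σ w' (σ w (T v))) - T (projSet ρ ψ QA (ρ w' (ρ w v))) = _
    rw [← rho_apply_mul σ w', ← hc, rho_apply_mul, ← hT.comm_swap h2 hψ hρ hσ (Ne.symm hik) he hvk,
      ← rho_apply_mul ρ w', ← hc, rho_apply_mul]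
  have hxi : IsEig σ ψ i 0 x := by
    rw [hx]
    refine hsieg hQc i ?_
    rw [← sum_proj (ρ := ρ) h2 hψ u, map_sum, map_sum, map_sum, map_sum, ← Finset.sum_sub_distrib]
    refine IsEig.sum _ fun S _ => ?_
    by_cases hS : S.1 i i = 0
    · have h := (isWt_proj (ρ := ρ) (ψ := ψ) S u).isEig i
      rw [hS] at h
      exact ((h.map hT.sieg).of_commute (hl i hik)).sub ((h.of_commute (hl i hik)).map hT.sieg)
    · rw [hT.comm_swap h2 hψ hρ hσ hik hS ((isWt_proj S u).isEig i), sub_self]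
      intro t; simp
  have hfix : ∀ t, σ (SpWeil.sieg ⟨pairMat k i t, isSymm_pairMat k i t⟩) x = x := fun t => by
    conv_rhs => rw [← sum_proj (ρ := σ) h2 hψ x]
    conv_lhs => rw [← sum_proj (ρ := σ) h2 hψ x, map_sum]
    refine Finset.sum_congr rfl fun S _ => ?_
    by_cases h0 : proj σ ψ S x = 0
    · rw [h0, map_zero]
    rw [isWt_proj S x, symChar_pairMat, S.2.apply i k,
      rankOne_row_zero (hσ.supp h0) (hxi.supp hψ h0) k]
    simp
  set h := dgl (F := F) i (t := -1) (by simp)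
  set z' := σ (spLevi h) z
  have hz' : z' = σ w' x := by
    rw [hxdef, ← rho_apply_mul, show w' * w' = spLevi h from swap_sq i]
  have hlev : ∀ t, σ (spLevi (tv (Ne.symm hik) t)) z' = z' := fun t => by
    have e := swap_pair (Ne.symm hik) (-t)
    rw [neg_neg] at e
    rw [hz', ← rho_apply_mul, ← e, rho_apply_mul]
    exact congrArg _ (hfix (-t))
  by_contra hz0
  obtain ⟨S, hS⟩ : ∃ S, proj σ ψ S z ≠ 0 := by
    by_contra! h0
    exact hz0 (by rw [← sum_proj (ρ := σ) h2 hψ z, Finset.sum_eq_zero fun S _ => h0 S])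
  have hSd := rankOne_eq_diagMat (hσ.supp hS) k fun l hlk => (hzl l hlk).supp hψ hS
  have hc : S.1 k k ≠ 0 := (hzS S hS).1
  have hh : ∀ c : F, act h (diagMat k c) = diagMat k c := fun c => by
    refine act_diagMat_of_row c (one_mul 1) fun l => ?_
    rw [dgl_val, Matrix.add_apply, Matrix.smul_apply, ind_singleton,
      Matrix.single_apply_of_row_ne hik, smul_zero, add_zero, Matrix.one_apply]
    simp [eq_comm]
  set M := tv (F := F) (Ne.symm hik) 1
  have h1 : proj σ ψ (act M S) z' ≠ 0 := by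
    intro h0
    refine hS ?_
    have e1 := proj_levi (ρ := σ) h2 hψ h S z
    rw [hSd, hh] at e1
    have e2 := proj_levi (ρ := σ) h2 hψ M S z'
    rw [hlev 1, h0] at e2
    have e3 : proj σ ψ S z' = 0 := by
      have := congrArg (σ (spLevi M)⁻¹) e2
      rwa [map_zero, rho_inv_cancel, eq_comm] at this
    rw [hSd] at e3 ⊢
    rw [e3] at e1
    have := congrArg (σ (spLevi h)⁻¹) e1
    rwa [map_zero, rho_inv_cancel, eq_comm] at this
  have h3 : proj σ ψ (act h⁻¹ (act M S)) z ≠ 0 := fun h0 => h1 (by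
    have e := proj_levi (ρ := σ) h2 hψ h (act h⁻¹ (act M S)) z
    rwa [act_cancel_inv, h0, map_zero] at e)
  have hSd3 := rankOne_eq_diagMat (hσ.supp h3) k fun l hlk => (hzl l hlk).supp hψ h3
  have h4 : (act M S).1 i i = 0 := by
    rw [← act_cancel_inv h (act M S), hSd3, hh]
    simp [diagMat, Matrix.single_apply, Ne.symm hik]
  rw [hSd, act_diagMat_apply, tv_inv_val] at h4
  exact hc (by simpa [hik, Ne.symm hik, Matrix.single_apply] using h4)

include h2 hψ in
theorem good (hT : IsOrbMap ρ σ ψ (diagMat j d) T) (hn : 2 ≤ n) (hd : d ≠ 0) (hρ : RankOne ρ ψ)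
    (hσ : RankOne σ ψ) (g : Cfsg.spGL n F) {S : symMat n F} (hS : S ∈ orb (diagMat j d)) {v : W}
    (hv : IsWt ρ ψ S v) :
    projSet σ ψ (orb (diagMat j d)) (σ g (T v)) = T (ρ g v) := by
  classical
  haveI : Nontrivial (Fin n) := Fin.nontrivial_iff_two_le.2 hn
  set O := orb (diagMat (F := F) j d)
  obtain ⟨s, A, A', B, B', hB, hB', rfl⟩ := exists_swap_decomp g
  -- the right factor
  have hr : ∃ S' ∈ O, ∃ v', IsWt ρ ψ S' v' ∧
      ρ (spLevi A' * spSiegel B' hB') v = v' ∧ σ (spLevi A' * spSiegel B' hB') (T v) = T v' := by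
    refine ⟨act A' S, (mem_orb_act A').2 hS, _, ?_, rfl,
      (((hT.levi A').mul (hT.sieg ⟨B', hB'⟩)) v).symm⟩
    have e : ρ (spSiegel B' hB') v = symChar ψ S ⟨B', hB'⟩ • v := hv ⟨B', hB'⟩
    rw [rho_apply_mul, e, map_smul]
    intro C
    rw [map_smul, isWt_levi hv A' C, smul_comm]
  obtain ⟨S', hS', v', hv', e1, e2⟩ := hr
  -- the middle factor
  have hm : projSet σ ψ O (σ (swapSet s) (T v')) = T (ρ (swapSet s) v') := by
    by_cases h : ∃ i ∉ s, S'.1 i i ≠ 0
    · obtain ⟨i, hi, hii⟩ := h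
      rw [← hT.comm_swapSet h2 hψ hρ hσ hii s hi (hv'.isEig i), (hT.projSet_orb h2 hψ _).1]
    push Not at h
    have hd0 : diagMat (F := F) j d ≠ 0 := fun h => hd (by
      simpa [diagMat] using congrArg (fun S : symMat n F => S.1 j j) h)
    obtain ⟨k, hk⟩ := rankOne_exists_diag (orb_rankOne hS') (orb_ne_zero hd0 hS')
    have hks : k ∈ s := by_contra fun hks => hk (h k hks)
    rw [← Finset.insert_erase hks, swapSet_insert (Finset.notMem_erase k s), rho_apply_mul,
      rho_apply_mul, ← hT.comm_swapSet h2 hψ hρ hσ hk _ (Finset.notMem_erase k s) (hv'.isEig k)]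
    set u := ρ (swapSet (s.erase k)) v'
    have hu : IsEig ρ ψ k (S'.1 k k) u :=
      (hv'.isEig k).of_commute fun t => sieg_diag_swap (Finset.notMem_erase k s) t
    rw [← sum_proj (ρ := ρ) h2 hψ u]
    simp only [map_sum]
    refine Finset.sum_congr rfl fun S'' _ => ?_
    by_cases h0 : proj ρ ψ S'' u = 0
    · simp [h0]
    have hkk : S''.1 k k = S'.1 k k := hu.supp hψ h0
    by_cases h' : ∃ i, i ≠ k ∧ S''.1 i i ≠ 0
    · obtain ⟨i, hik, hii⟩ := h'
      rw [← hT.comm_swap h2 hψ hρ hσ hik hii ((isWt_proj S'' u).isEig i),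
        (hT.projSet_orb h2 hψ _).1]
    push Not at h'
    obtain ⟨i, hik⟩ := exists_ne k
    refine hT.swap_key h2 hψ hd hρ hσ hik hk ?_
    rw [← hkk, ← rankOne_eq_diagMat (hρ.supp h0) k h']
    exact isWt_proj S'' u
  have hc : ∀ x, projSet σ ψ O (σ (spLevi A * spSiegel B hB) x) =
      σ (spLevi A * spSiegel B hB) (projSet σ ψ O x) := fun x => by
    rw [rho_apply_mul, rho_apply_mul, projSet_levi h2 hψ O A (fun S => mem_orb_act A)]
    congr 1
    exact projSet_map (X := σ (SpWeil.sieg ⟨B, hB⟩))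
      (fun C y => by rw [← rho_apply_mul, sieg_comm, rho_apply_mul]) O x
  rw [rho_apply_mul σ, rho_apply_mul σ (spLevi A * spSiegel B hB), e2, hc, hm,
    rho_apply_mul ρ, rho_apply_mul ρ (spLevi A * spSiegel B hB), e1]
  exact (((hT.levi A).mul (hT.sieg ⟨B, hB⟩)) _).symm

end IsOrbMap

include h2 hψ in
/-- Rigidity: rank one, the central sign and one common weight determine the representation. -/
theorem exists_equiv [ρ.IsIrreducible] [σ.IsIrreducible] (hn : 2 ≤ n) (hρ : RankOne ρ ψ)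
    (hσ : RankOne σ ψ) {j : Fin n} {d : F} (hd : d ≠ 0) {ε : ℂ}
    (hcρ : ∀ v, ρ (spLevi (-1)) v = ε • v) (hcσ : ∀ v, σ (spLevi (-1)) v = ε • v)
    {v₀ : W} (hv₀ : v₀ ≠ 0) (hw₀ : IsWt ρ ψ (diagMat j d) v₀)
    {u₀ : U} (hu₀ : u₀ ≠ 0) (hw₁ : IsWt σ ψ (diagMat j d) u₀) :
    ∃ e : W ≃ₗ[ℂ] U, ∀ g v, e (ρ g v) = σ g (e v) := by
  obtain ⟨T, hT, hT0⟩ := exists_orbMap h2 hψ hρ hσ hd hcρ hcσ hv₀ hw₀ hu₀ hw₁
  set P := projSet σ ψ (orb (diagMat j d))
  let K : Submodule ℂ (W × U) := Submodule.span ℂ (Set.range fun g => (ρ g v₀, σ g (T v₀)))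
  have hK : ∀ p ∈ K, P p.2 = T p.1 := fun p hp => by
    have : K ≤ LinearMap.ker (P ∘ₗ LinearMap.snd ℂ W U - T ∘ₗ LinearMap.fst ℂ W U) := by
      rw [Submodule.span_le]
      rintro _ ⟨g, rfl⟩
      simp [P, hT.good h2 hψ hn hd hρ hσ g ⟨1, act_one _⟩ hw₀]
    simpa [sub_eq_zero] using this hp
  have hinv : ∀ g, ∀ p ∈ K, ((ρ g p.1, σ g p.2) : W × U) ∈ K := fun g p hp => by
    have : K ≤ K.comap (LinearMap.prodMap (ρ g) (σ g)) := by
      rw [Submodule.span_le]
      rintro _ ⟨h, rfl⟩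
      exact Submodule.subset_span ⟨g * h, by simp⟩
    exact this hp
  have h0 : (v₀, T v₀) ∈ K := Submodule.subset_span ⟨1, by simp⟩
  have irrW := CharApp.eq_bot_or_top_of_invariant ρ
  have irrU := CharApp.eq_bot_or_top_of_invariant σ
  have h1 : K.map (LinearMap.fst ℂ W U) = ⊤ := (irrW _ fun g x hx => by
    obtain ⟨p, hp, rfl⟩ := Submodule.mem_map.1 hx
    exact Submodule.mem_map.2 ⟨_, hinv g p hp, rfl⟩).resolve_left fun e => hv₀ (by
      simpa [e] using Submodule.mem_map_of_mem (f := LinearMap.fst ℂ W U) h0)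
  have h3 : K.map (LinearMap.snd ℂ W U) = ⊤ := (irrU _ fun g x hx => by
    obtain ⟨p, hp, rfl⟩ := Submodule.mem_map.1 hx
    exact Submodule.mem_map.2 ⟨_, hinv g p hp, rfl⟩).resolve_left fun e => hT0 (by
      simpa [e] using Submodule.mem_map_of_mem (f := LinearMap.snd ℂ W U) h0)
  have h4 : K.comap (LinearMap.inl ℂ W U) = ⊥ := (irrW _ fun g x hx => by
    simpa using hinv g _ hx).resolve_right fun e => hT0 (by
      have := hK _ ((Submodule.eq_top_iff'.1 e v₀))
      simpa using this.symm)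
  have h5 : K.comap (LinearMap.inr ℂ W U) = ⊥ := (irrU _ fun g x hx => by
    simpa using hinv g _ hx).resolve_right fun e => hT0 (by
      have := hK _ ((Submodule.eq_top_iff'.1 e (T v₀)))
      simpa [P, (hT.projSet_orb h2 hψ v₀).1] using this)
  let f := (LinearMap.fst ℂ W U).domRestrict K
  let s := (LinearMap.snd ℂ W U).domRestrict K
  have hf : Function.Bijective f := by
    refine ⟨(injective_iff_map_eq_zero f).2 fun p hp => ?_, fun x => ?_⟩
    · have hp0 : p.1.1 = 0 := hp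
      have hm : p.1.2 ∈ K.comap (LinearMap.inr ℂ W U) := by
        show ((0 : W), p.1.2) ∈ K
        rw [← hp0]; exact p.2
      rw [h5, Submodule.mem_bot] at hm
      exact Subtype.ext (Prod.ext hp0 hm)
    · obtain ⟨p, hp, e⟩ := Submodule.mem_map.1 (h1.symm ▸ Submodule.mem_top (x := x))
      exact ⟨⟨p, hp⟩, e⟩
  have hs : Function.Bijective s := by
    refine ⟨(injective_iff_map_eq_zero s).2 fun p hp => ?_, fun x => ?_⟩
    · have hp0 : p.1.2 = 0 := hp
      have hm : p.1.1 ∈ K.comap (LinearMap.inl ℂ W U) := by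
        show (p.1.1, (0 : U)) ∈ K
        rw [← hp0]; exact p.2
      rw [h4, Submodule.mem_bot] at hm
      exact Subtype.ext (Prod.ext hm hp0)
    · obtain ⟨p, hp, e⟩ := Submodule.mem_map.1 (h3.symm ▸ Submodule.mem_top (x := x))
      exact ⟨⟨p, hp⟩, e⟩
  let ef := LinearEquiv.ofBijective f hf
  refine ⟨ef.symm.trans (LinearEquiv.ofBijective s hs), fun g v => ?_⟩
  have hp := ef.apply_symm_apply v
  set p := ef.symm v
  have : ef.symm (ρ g v) = ⟨(ρ g p.1.1, σ g p.1.2), hinv g p.1 p.2⟩ := by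
    rw [LinearEquiv.symm_apply_eq]
    show ρ g v = ρ g p.1.1
    rw [← hp]
    rfl
  simp only [LinearEquiv.trans_apply, this]
  rfl

end Cfsg.Agent.SpWeil
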