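import Cfsg.Agent.Lib.SpWeil.Bound

/-!
# The Schrödinger representation and its intertwiners
* `sch ψ v` : the operators on `(Fin n → F) → ℂ`, `sch_mul`, `span_sch_eq_top`
* `IsIntw ψ g P`, `exists_intw`, `intw_unique`, `intw_levi`, `intw_siegel`, `intw_parity`
-/

set_option autoImplicit false

open Matrix

namespace Cfsg.Agent.SpWeil

open Cfsg.Agent.Linear

variable {n : ℕ} {F : Type*} [Field F]

local notation "V" => (Fin n ⊕ Fin n → F)
local notation "f" => Cfsg.sympForm n F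
local notation "𝓦" => ((Fin n → F) → ℂ)

/-- One half. -/
def hf (F : Type*) [Field F] : F := (2 : F)⁻¹

/-- The Schrödinger operators. -/
noncomputable def sch (ψ : AddChar F ℂ) (v : V) : Module.End ℂ 𝓦 where
  toFun φ x := ψ ((v ∘ Sum.inl) ⬝ᵥ x + hf F * ((v ∘ Sum.inl) ⬝ᵥ (v ∘ Sum.inr))) *
    φ (x + v ∘ Sum.inr)
  map_add' φ φ' := funext fun x => by simp only [Pi.add_apply]; ring
  map_smul' c φ := funext fun x => by
    simp only [Pi.smul_apply, smul_eq_mul, RingHom.id_apply]; ring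

theorem sch_apply (ψ : AddChar F ℂ) (v : V) (φ : 𝓦) (x : Fin n → F) :
    sch ψ v φ x = ψ ((v ∘ Sum.inl) ⬝ᵥ x + hf F * ((v ∘ Sum.inl) ⬝ᵥ (v ∘ Sum.inr))) *
      φ (x + v ∘ Sum.inr) := rfl

theorem sympForm_eq_dot (v w : V) :
    f v w = (v ∘ Sum.inr) ⬝ᵥ (w ∘ Sum.inl) - (v ∘ Sum.inl) ⬝ᵥ (w ∘ Sum.inr) := by
  rw [sympForm_eq_sum, Finset.sum_sub_distrib]
  rfl

theorem sch_zero (ψ : AddChar F ℂ) : sch ψ (0 : V) = 1 :=
  LinearMap.ext fun φ => funext fun x => by
    simp [sch_apply, show ((0 : V) ∘ Sum.inl : Fin n → F) = 0 from rfl,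
      show ((0 : V) ∘ Sum.inr : Fin n → F) = 0 from rfl]

theorem sch_mul (h2 : (2 : F) ≠ 0) (ψ : AddChar F ℂ) (v w : V) :
    sch ψ v * sch ψ w = ψ (hf F * f v w) • sch ψ (v + w) := by
  refine LinearMap.ext fun φ => funext fun x => ?_
  simp only [Module.End.mul_apply, LinearMap.smul_apply, Pi.smul_apply, sch_apply, smul_eq_mul,
    ← mul_assoc, ← AddChar.map_add_eq_mul, Pi.add_comp, add_assoc]
  congr 2
  simp only [sympForm_eq_dot, add_dotProduct, dotProduct_add,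
    dotProduct_comm (v ∘ Sum.inr) (w ∘ Sum.inl)]
  have h : hf F * 2 = 1 := inv_mul_cancel₀ h2
  linear_combination -((w ∘ Sum.inl) ⬝ᵥ (v ∘ Sum.inr)) * h

theorem sch_neg_mul (h2 : (2 : F) ≠ 0) (ψ : AddChar F ℂ) (v : V) :
    sch ψ (-v) * sch ψ v = 1 := by
  simp [sch_mul h2, sch_zero]

variable [Fintype F]

theorem trace_sch [DecidableEq F] {ψ : AddChar F ℂ} (hψ : ψ ≠ 1) (v : V) :
    LinearMap.trace ℂ 𝓦 (sch ψ v) = if v = 0 then (Fintype.card F : ℂ) ^ n else 0 := by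
  rw [LinearMap.trace_eq_matrix_trace ℂ (Pi.basisFun ℂ (Fin n → F)), Matrix.trace]
  simp only [Matrix.diag_apply, LinearMap.toMatrix_apply, Pi.basisFun_apply, Pi.basisFun_repr,
    sch_apply, Pi.single_apply, mul_ite, mul_one, mul_zero, add_eq_left]
  by_cases hr : v ∘ Sum.inr = 0
  · simp only [hr, if_true, dotProduct_zero, mul_zero, add_zero]
    by_cases hv : v = 0
    · subst hv
      simp [show ((0 : V) ∘ Sum.inl : Fin n → F) = 0 from rfl]
    rw [if_neg hv]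
    obtain ⟨l, hl⟩ := Function.ne_iff.1 (fun e : v ∘ Sum.inl = 0 => hv (funext fun a => by
      rcases a with a | a
      · exact congrFun e a
      · exact congrFun hr a))
    let χ : AddChar (Fin n → F) ℂ :=
      ψ.compAddMonoidHom (AddMonoidHom.mk' (fun x => (v ∘ Sum.inl) ⬝ᵥ x) (dotProduct_add _))
    have hχ : χ ≠ 1 := by
      obtain ⟨t, ht⟩ := AddChar.ne_one_iff.1 hψ
      refine AddChar.ne_one_iff.2 ⟨Pi.single l (t / v (Sum.inl l)), ?_⟩
      show ψ ((v ∘ Sum.inl) ⬝ᵥ _) ≠ 1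
      rwa [dotProduct_single, Function.comp_apply, mul_div_cancel₀ _ (by exact hl)]
    simpa [χ] using AddChar.sum_eq_zero_of_ne_one hχ
  · rw [if_neg (fun e : v = 0 => hr (by subst e; rfl))]
    simp [hr]

theorem linearIndependent_sch (h2 : (2 : F) ≠ 0) {ψ : AddChar F ℂ} (hψ : ψ ≠ 1) :
    LinearIndependent ℂ (sch ψ : V → Module.End ℂ 𝓦) := by
  classical
  refine Fintype.linearIndependent_iff.2 fun c hc w => ?_
  have h := congrArg (fun T => LinearMap.trace ℂ 𝓦 (sch ψ (-w) * T)) hc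
  simp only [Finset.mul_sum, mul_smul_comm, sch_mul h2, map_sum, map_smul, trace_sch hψ,
    mul_zero, map_zero, neg_add_eq_zero, smul_eq_mul, mul_ite, mul_zero, Finset.sum_ite_eq,
    Finset.mem_univ, if_true] at h
  simpa [Fintype.card_ne_zero] using h

theorem span_sch_eq_top (h2 : (2 : F) ≠ 0) {ψ : AddChar F ℂ} (hψ : ψ ≠ 1) :
    Submodule.span ℂ (Set.range (sch ψ : V → Module.End ℂ 𝓦)) = ⊤ := by
  classical
  refine (linearIndependent_sch h2 hψ).span_eq_top_of_card_eq_finrank ?_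
  rw [Module.finrank_linearMap, Module.finrank_pi, Fintype.card_fun, Fintype.card_fun,
    Fintype.card_sum, Fintype.card_fin, pow_add]

theorem commute_all_of_commute (h2 : (2 : F) ≠ 0) {ψ : AddChar F ℂ} (hψ : ψ ≠ 1)
    {T : Module.End ℂ 𝓦} (hT : ∀ v : V, T * sch ψ v = sch ψ v * T) (E : Module.End ℂ 𝓦) :
    T * E = E * T := by
  have h : Submodule.span ℂ (Set.range (sch ψ : V → Module.End ℂ 𝓦)) ≤
      LinearMap.ker (LinearMap.mulLeft ℂ T - LinearMap.mulRight ℂ T) := by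
    rw [Submodule.span_le]
    rintro _ ⟨v, rfl⟩
    simp [hT v]
  rw [span_sch_eq_top h2 hψ] at h
  simpa [sub_eq_zero] using h (Submodule.mem_top (x := E))

theorem eq_smul_one_of_commute (h2 : (2 : F) ≠ 0) {ψ : AddChar F ℂ} (hψ : ψ ≠ 1)
    {T : Module.End ℂ 𝓦} (hT : ∀ v : V, T * sch ψ v = sch ψ v * T) : ∃ c : ℂ, T = c • 1 := by
  classical
  refine ⟨T (Pi.single 0 1) 0, LinearMap.ext fun u => ?_⟩
  have := LinearMap.congr_fun
    (commute_all_of_commute h2 hψ hT ((LinearMap.proj (0 : Fin n → F)).smulRight u))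
    (Pi.single 0 1)
  simpa using this

/-! ## Intertwiners -/

/-- `P` carries the action of `v` to that of `g v`. -/
def IsIntw (ψ : AddChar F ℂ) (g : Cfsg.spGL n F) (P : Module.End ℂ 𝓦) : Prop :=
  ∀ v : V, P * sch ψ v = sch ψ (g • v) * P

omit [Fintype F] in
theorem IsIntw.mul {ψ : AddChar F ℂ} {g h : Cfsg.spGL n F} {P Q : Module.End ℂ 𝓦}
    (hP : IsIntw ψ g P) (hQ : IsIntw ψ h Q) : IsIntw ψ (g * h) (P * Q) := fun v => by
  rw [mul_assoc, hQ, ← mul_assoc, hP, mul_assoc, mul_smul]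

omit [Fintype F] in
theorem IsIntw.one (ψ : AddChar F ℂ) : IsIntw ψ (1 : Cfsg.spGL n F) 1 := fun v => by
  rw [one_smul, one_mul, mul_one]

omit [Fintype F] in
theorem IsIntw.smul {ψ : AddChar F ℂ} {g : Cfsg.spGL n F} {P : Module.End ℂ 𝓦}
    (hP : IsIntw ψ g P) (c : ℂ) : IsIntw ψ g (c • P) := fun v => by
  rw [smul_mul_assoc, hP, mul_smul_comm]

theorem IsIntw.isUnit (h2 : (2 : F) ≠ 0) {ψ : AddChar F ℂ} (hψ : ψ ≠ 1) {g : Cfsg.spGL n F}
    {P : Module.End ℂ 𝓦} (hP : IsIntw ψ g P) (hP0 : P ≠ 0) : IsUnit P := by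
  classical
  rw [LinearMap.isUnit_iff_ker_eq_bot, Submodule.eq_bot_iff]
  intro z hz
  by_contra hz0
  refine hP0 (LinearMap.ext fun y => ?_)
  have h : Submodule.span ℂ (Set.range (sch ψ : V → Module.End ℂ 𝓦)) ≤
      LinearMap.ker (P ∘ₗ LinearMap.applyₗ z) := by
    rw [Submodule.span_le]
    rintro _ ⟨v, rfl⟩
    have := LinearMap.congr_fun (hP v) z
    simp only [Module.End.mul_apply, LinearMap.mem_ker.1 hz, map_zero] at this
    simpa using this
  rw [span_sch_eq_top h2 hψ] at h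
  obtain ⟨x, hx⟩ := Function.ne_iff.1 hz0
  have := h (Submodule.mem_top (x := (LinearMap.proj x).smulRight ((z x)⁻¹ • y)))
  simpa [smul_smul, mul_inv_cancel₀ hx] using this

theorem exists_intw (h2 : (2 : F) ≠ 0) {ψ : AddChar F ℂ} (hψ : ψ ≠ 1) (g : Cfsg.spGL n F) :
    ∃ P : Module.End ℂ 𝓦, IsUnit P ∧ IsIntw ψ g P := by
  classical
  suffices h : ∃ P : Module.End ℂ 𝓦, P ≠ 0 ∧ IsIntw ψ g P by
    obtain ⟨P, h0, hP⟩ := h
    exact ⟨P, hP.isUnit h2 hψ h0, hP⟩
  have hint : ∀ E : Module.End ℂ 𝓦,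
      IsIntw ψ g (∑ v : V, sch ψ (g • v) * E * sch ψ (-v)) := fun E w => by
    rw [Finset.sum_mul, Finset.mul_sum]
    refine Fintype.sum_equiv (Equiv.addLeft (-w)) _ _ fun v => ?_
    simp only [Equiv.coe_addLeft, neg_add_rev, neg_neg]
    rw [mul_assoc, sch_mul h2, mul_smul_comm, ← mul_assoc (sch ψ (g • w)),
      ← mul_assoc (sch ψ (g • w)), sch_mul h2, smul_mul_assoc, smul_mul_assoc, smul_add, smul_neg,
      ← sympForm_smul_smul g (-v) w]
    simp [sympForm_swap (g • w) (g • v)]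
  by_contra! hno
  have h0 : ∀ E, (∑ v : V, sch ψ (g • v) * E * sch ψ (-v)) = 0 := fun E =>
    by_contra fun h => hno _ h (hint E)
  let z : 𝓦 := Pi.single 0 1
  have hlin : ∑ v : V, (sch ψ (-v) z 0) • sch ψ (g • v) = 0 := LinearMap.ext fun u => by
    have := LinearMap.congr_fun
      (h0 ((LinearMap.proj (0 : Fin n → F)).smulRight u)) z
    simpa using this
  have := Fintype.linearIndependent_iff.1
    ((linearIndependent_sch h2 hψ).comp _ (MulAction.injective g)) _ hlin 0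
  rw [neg_zero, sch_zero] at this
  simp [z] at this

theorem intw_unique (h2 : (2 : F) ≠ 0) {ψ : AddChar F ℂ} (hψ : ψ ≠ 1) {g : Cfsg.spGL n F}
    {P Q : Module.End ℂ 𝓦} (hu : IsUnit P) (hP : IsIntw ψ g P) (hQ : IsIntw ψ g Q) :
    ∃ c : ℂ, Q = c • P := by
  obtain ⟨u, rfl⟩ := hu
  obtain ⟨c, hc⟩ := eq_smul_one_of_commute h2 hψ (T := (↑u⁻¹ : Module.End ℂ 𝓦) * Q) fun v => by
    rw [mul_assoc, hQ, ← mul_assoc, ← mul_assoc]
    congr 1
    refine u.mul_right_inj.1 ?_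
    rw [← mul_assoc, Units.mul_inv, one_mul, ← mul_assoc, hP, mul_assoc, Units.mul_inv, mul_one]
  refine ⟨c, ?_⟩
  rw [← mul_one (u : Module.End ℂ 𝓦), ← mul_smul_comm, ← hc, ← mul_assoc, Units.mul_inv, one_mul]

/-! ## Parity, Levi and Siegel -/

variable (n F) in
/-- The parity operator. -/
def parity : Module.End ℂ 𝓦 where
  toFun φ x := φ (-x)
  map_add' _ _ := rfl
  map_smul' _ _ := rfl

omit [Fintype F] in
theorem parity_apply (φ : 𝓦) (x : Fin n → F) : parity n F φ x = φ (-x) := rfl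

omit [Fintype F] in
theorem parity_mul_self : parity n F * parity n F = 1 :=
  LinearMap.ext fun φ => funext fun x => by simp [parity_apply]

omit [Fintype F] in
theorem parity_mul_sch (ψ : AddChar F ℂ) (v : V) :
    parity n F * sch ψ v = sch ψ (-v) * parity n F :=
  LinearMap.ext fun φ => funext fun x => by
    simp [parity_apply, sch_apply, show ((-v) ∘ Sum.inl : Fin n → F) = -(v ∘ Sum.inl) from rfl,
      show ((-v) ∘ Sum.inr : Fin n → F) = -(v ∘ Sum.inr) from rfl, add_comm]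

theorem trace_parity (h2 : (2 : F) ≠ 0) : LinearMap.trace ℂ 𝓦 (parity n F) = 1 := by
  classical
  rw [LinearMap.trace_eq_matrix_trace ℂ (Pi.basisFun ℂ (Fin n → F)), Matrix.trace]
  simp only [Matrix.diag_apply, LinearMap.toMatrix_apply, Pi.basisFun_apply, Pi.basisFun_repr,
    parity_apply, Pi.single_apply]
  rw [Finset.sum_eq_single (0 : Fin n → F) (fun x _ hx => if_neg fun e => hx (funext fun i => ?_))
    (by simp)]
  · simp
  · have := congrFun e i
    rw [Pi.neg_apply] at this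
    exact (mul_eq_zero.1 (by linear_combination -this : (2 : F) * x i = 0)).resolve_left h2

theorem intw_parity (h2 : (2 : F) ≠ 0) {ψ : AddChar F ℂ} (hψ : ψ ≠ 1) {g : Cfsg.spGL n F}
    {P : Module.End ℂ 𝓦} (hu : IsUnit P) (hP : IsIntw ψ g P) :
    parity n F * P = P * parity n F := by
  have hc : IsIntw ψ g (parity n F * P * parity n F) := fun v => by
    rw [mul_assoc, parity_mul_sch, ← mul_assoc, mul_assoc (parity n F) P, hP, ← mul_assoc,
      parity_mul_sch, smul_neg, neg_neg, mul_assoc (sch ψ (g • v)), mul_assoc (sch ψ (g • v))]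
  obtain ⟨c, hc⟩ := intw_unique h2 hψ hu hP hc
  have hPJ : P * parity n F = c • (parity n F * P) := by
    rw [← mul_smul_comm, ← hc, ← mul_assoc, ← mul_assoc, parity_mul_self, one_mul]
  have hJP : parity n F * P = c • (P * parity n F) := by
    rw [← smul_mul_assoc, ← hc, mul_assoc, parity_mul_self, mul_one]
  obtain ⟨u, rfl⟩ := hu
  have htr : (LinearMap.trace ℂ 𝓦) (parity n F) = c * (LinearMap.trace ℂ 𝓦) (parity n F) := by
    calc (LinearMap.trace ℂ 𝓦) (parity n F)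
        = (LinearMap.trace ℂ 𝓦) ((↑u⁻¹ : Module.End ℂ 𝓦) * (parity n F * ↑u)) := by
          rw [LinearMap.trace_mul_comm, mul_assoc, Units.mul_inv, mul_one]
      _ = c * (LinearMap.trace ℂ 𝓦) (parity n F) := by
          rw [hJP, mul_smul_comm, ← mul_assoc, Units.inv_mul, one_mul, map_smul, smul_eq_mul]
  rw [trace_parity h2, mul_one] at htr
  rw [hJP, ← htr, one_smul]

/-- Composition with `Aᵀ`. -/
def leviOp (A : GL (Fin n) F) : Module.End ℂ 𝓦 where
  toFun φ x := φ (A.1ᵀ *ᵥ x)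
  map_add' _ _ := rfl
  map_smul' _ _ := rfl

omit [Fintype F] in
theorem intw_levi (ψ : AddChar F ℂ) (A : GL (Fin n) F) : IsIntw ψ (spLevi A) (leviOp A) := by
  intro v
  refine LinearMap.ext fun φ => funext fun x => ?_
  show sch ψ v φ (A.1ᵀ *ᵥ x) = sch ψ (spLevi A • v) (leviOp A φ) x
  simp only [sch_apply, spLevi_smul, Sum.elim_comp_inl, Sum.elim_comp_inr, leviOp, LinearMap.coe_mk,
    AddHom.coe_mk]
  congr 2
  · rw [Matrix.dotProduct_mulVec (A.1 *ᵥ _) ((A⁻¹).1ᵀ), Matrix.vecMul_transpose,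
      Matrix.mulVec_mulVec, Units.inv_mul, Matrix.one_mulVec,
      Matrix.dotProduct_mulVec (v ∘ Sum.inl), Matrix.vecMul_transpose]
  · rw [Matrix.mulVec_add, Matrix.mulVec_mulVec, ← Matrix.transpose_mul, Units.inv_mul,
      Matrix.transpose_one, Matrix.one_mulVec]

/-- Multiplication by `ψ (-x B x / 2)`. -/
noncomputable def siegelOp (ψ : AddChar F ℂ) (B : Matrix (Fin n) (Fin n) F) : Module.End ℂ 𝓦 where
  toFun φ x := ψ (-(hf F * (x ⬝ᵥ B *ᵥ x))) * φ x
  map_add' φ φ' := funext fun x => by simp only [Pi.add_apply]; ring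
  map_smul' c φ := funext fun x => by
    simp only [Pi.smul_apply, smul_eq_mul, RingHom.id_apply]; ring

omit [Fintype F] in
theorem intw_siegel (h2 : (2 : F) ≠ 0) (ψ : AddChar F ℂ) {B : Matrix (Fin n) (Fin n) F}
    (hB : B.IsSymm) : IsIntw ψ (spSiegel B hB) (siegelOp ψ B) := by
  intro v
  refine LinearMap.ext fun φ => funext fun x => ?_
  show ψ (-(hf F * (x ⬝ᵥ B *ᵥ x))) * sch ψ v φ x =
    sch ψ (spSiegel B hB • v) (siegelOp ψ B φ) x
  simp only [sch_apply, spSiegel_smul, Sum.elim_comp_inl, Sum.elim_comp_inr, siegelOp,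
    LinearMap.coe_mk, AddHom.coe_mk, ← mul_assoc, ← AddChar.map_add_eq_mul]
  congr 2
  simp only [Matrix.mulVec_add, add_dotProduct, dotProduct_add, dotProduct_comm (B *ᵥ _) x,
    dotProduct_comm (B *ᵥ _) (v ∘ Sum.inr)]
  rw [Matrix.dotProduct_mulVec (v ∘ Sum.inr) B x, ← Matrix.mulVec_transpose, hB.eq,
    dotProduct_comm (B *ᵥ _) x]
  have h : hf F * 2 = 1 := inv_mul_cancel₀ h2
  linear_combination (x ⬝ᵥ B *ᵥ (v ∘ Sum.inr)) * h

end Cfsg.Agent.SpWeil
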