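import Cfsg.Agent.Lib.SpWeil.Bound
import Mathlib.LinearAlgebra.Matrix.Transvection

/-!
# Relations between swaps, Siegel and Levi elements of `spGL`
* `ind s` : the diagonal indicator of a finite set, `swapSet s` : the product of the pair swaps on `s`
* commutation rules, `swapSet_mul`, the braid and torus relations
* `exists_swap_decomp` : every element is Levi · Siegel · swap · Levi · Siegel
-/

set_option autoImplicit false

open Matrix

namespace Cfsg.Agent.SpWeil

open Cfsg.Agent.Linear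

variable {n : ℕ} {F : Type*} [Field F]

/-- The diagonal indicator of a finite set. -/
def ind (s : Finset (Fin n)) : Matrix (Fin n) (Fin n) F :=
  Matrix.diagonal fun i => if i ∈ s then 1 else 0

theorem ind_mul_ind (s t : Finset (Fin n)) : ind (F := F) s * ind t = ind (s ∩ t) := by
  rw [ind, ind, ind, Matrix.diagonal_mul_diagonal]
  congr 1
  funext i
  by_cases h : i ∈ s <;> simp [h]

@[simp] theorem ind_mul_self (s : Finset (Fin n)) : ind (F := F) s * ind s = ind s := by
  rw [ind_mul_ind, Finset.inter_self]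

@[simp] theorem ind_empty : ind (F := F) (∅ : Finset (Fin n)) = 0 := by
  simp [ind]

@[simp] theorem ind_transpose (s : Finset (Fin n)) : (ind (F := F) s)ᵀ = ind s :=
  Matrix.diagonal_transpose _

theorem isSymm_ind (s : Finset (Fin n)) : (ind (F := F) s).IsSymm := ind_transpose s

theorem ind_union {s t : Finset (Fin n)} (h : Disjoint s t) :
    ind (F := F) (s ∪ t) = ind s + ind t := by
  rw [ind, ind, ind, Matrix.diagonal_add]
  congr 1
  funext i
  by_cases hs : i ∈ s
  · simp [hs, Finset.disjoint_left.1 h hs]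
  · simp [hs]

theorem ind_apply_mul (s : Finset (Fin n)) (M : Matrix (Fin n) (Fin n) F) (a b : Fin n) :
    (ind (F := F) s * M) a b = if a ∈ s then M a b else 0 := by
  rw [ind, Matrix.diagonal_mul, ite_mul, one_mul, zero_mul]

theorem mul_ind_apply (s : Finset (Fin n)) (M : Matrix (Fin n) (Fin n) F) (a b : Fin n) :
    (M * ind (F := F) s) a b = if b ∈ s then M a b else 0 := by
  rw [ind, Matrix.mul_diagonal, mul_ite, mul_one, mul_zero]

theorem ind_singleton (k : Fin n) : ind (F := F) {k} = Matrix.single k k 1 := by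
  ext a b
  rcases eq_or_ne a b with rfl | hab
  · rcases eq_or_ne a k with rfl | ha
    · simp [ind]
    · simp [ind, ha, Matrix.single_apply, Ne.symm ha]
  · rw [ind, Matrix.diagonal_apply_ne _ hab, Matrix.single_apply_of_ne]
    rintro ⟨rfl, rfl⟩
    exact hab rfl

theorem swapRel₁ (s : Finset (Fin n)) :
    (1 - ind (F := F) s)ᵀ * ind s = (ind s)ᵀ * (1 - ind s) := by
  simp [Matrix.sub_mul, Matrix.mul_sub]

theorem swapRel₂ (s : Finset (Fin n)) :
    (-ind (F := F) s)ᵀ * (1 - ind s) = (1 - ind s)ᵀ * (-ind s) := by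
  simp [Matrix.sub_mul, Matrix.mul_sub]

theorem swapRel₃ (s : Finset (Fin n)) :
    (1 - ind (F := F) s)ᵀ * (1 - ind s) - (ind s)ᵀ * (-ind s) = 1 := by
  simp [Matrix.sub_mul, Matrix.mul_sub]

/-- The product of the pair swaps with index in `s`. -/
noncomputable def swapSet (s : Finset (Fin n)) : Cfsg.spGL n F :=
  spOfBlocks (1 - ind s) (-ind s) (ind s) (1 - ind s) (swapRel₁ s) (swapRel₂ s) (swapRel₃ s)

@[simp] theorem blkA_swapSet (s : Finset (Fin n)) : blkA (swapSet (F := F) s) = 1 - ind s :=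
  (blk_spOfBlocks ..).1
@[simp] theorem blkB_swapSet (s : Finset (Fin n)) : blkB (swapSet (F := F) s) = -ind s :=
  (blk_spOfBlocks ..).2.1
@[simp] theorem blkC_swapSet (s : Finset (Fin n)) : blkC (swapSet (F := F) s) = ind s :=
  (blk_spOfBlocks ..).2.2.1
@[simp] theorem blkD_swapSet (s : Finset (Fin n)) : blkD (swapSet (F := F) s) = 1 - ind s :=
  (blk_spOfBlocks ..).2.2.2

theorem swapSet_empty : swapSet (F := F) (∅ : Finset (Fin n)) = 1 :=
  spGL_ext_blk (by simp [blk_one.1]) (by simp [blk_one.2.1]) (by simp [blk_one.2.2.1])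
    (by simp [blk_one.2.2.2])

theorem swapSet_mul {s t : Finset (Fin n)} (h : Disjoint s t) :
    swapSet (F := F) s * swapSet t = swapSet (s ∪ t) := by
  obtain ⟨ea, eb, ec, ed⟩ := blk_mul (swapSet (F := F) s) (swapSet t)
  have h1 : ind (F := F) s * ind t = 0 := by
    rw [ind_mul_ind, Finset.disjoint_iff_inter_eq_empty.1 h, ind_empty]
  refine spGL_ext_blk ?_ ?_ ?_ ?_
  all_goals simp [ea, eb, ec, ed, ind_union h, Matrix.sub_mul, Matrix.mul_sub, h1]
  all_goals abel

theorem swapSet_insert {k : Fin n} {s : Finset (Fin n)} (h : k ∉ s) :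
    swapSet (F := F) (insert k s) = swapSet {k} * swapSet s := by
  rw [swapSet_mul (Finset.disjoint_singleton_left.2 h), ← Finset.insert_eq]

theorem swapSet_comm {s t : Finset (Fin n)} (h : Disjoint s t) :
    swapSet (F := F) s * swapSet t = swapSet t * swapSet s := by
  rw [swapSet_mul h, swapSet_mul h.symm, Finset.union_comm]

theorem swapSet_singleton (k : Fin n) : swapSet (F := F) {k} = spPairSwap k := by
  obtain ⟨w1, w2, w3, w4⟩ := blk_spOfBlocks (m := n) (F := F) (A := 1 - Matrix.single k k 1)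
    (B := -Matrix.single k k 1) (C := Matrix.single k k 1) (D := 1 - Matrix.single k k 1)
    (by simp [Matrix.transpose_single, Matrix.sub_mul, Matrix.mul_sub])
    (by simp [Matrix.transpose_single, Matrix.sub_mul, Matrix.mul_sub])
    (by simp [Matrix.transpose_single, Matrix.sub_mul, Matrix.mul_sub])
  change blkA (spPairSwap k) = _ at w1
  change blkB (spPairSwap k) = _ at w2
  change blkC (spPairSwap k) = _ at w3
  change blkD (spPairSwap k) = _ at w4
  exact spGL_ext_blk (by simp [w1, ind_singleton]) (by simp [w2, ind_singleton])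
    (by simp [w3, ind_singleton]) (by simp [w4, ind_singleton])

/-- Swaps commute with Siegel elements supported outside. -/
theorem swapSet_comm_siegel {s : Finset (Fin n)} {B : Matrix (Fin n) (Fin n) F} (hB : B.IsSymm)
    (h : ind s * B = 0) : swapSet s * spSiegel B hB = spSiegel B hB * swapSet s := by
  have h' : B * ind s = 0 := by
    simpa [Matrix.transpose_mul, hB.eq] using congrArg Matrix.transpose h
  obtain ⟨ea, eb, ec, ed⟩ := blk_mul (swapSet s) (spSiegel B hB)
  obtain ⟨fa, fb, fc, fd⟩ := blk_mul (spSiegel B hB) (swapSet s)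
  refine spGL_ext_blk ?_ ?_ ?_ ?_
  all_goals simp [ea, eb, ec, ed, fa, fb, fc, fd, Matrix.sub_mul, Matrix.mul_sub, h, h']
  all_goals abel

/-- Swaps commute with Levi elements fixing the indices involved. -/
theorem swapSet_comm_levi {s : Finset (Fin n)} (A : GL (Fin n) F)
    (h : ind s * A.1 = ind s) (h' : A.1 * ind s = ind s) :
    swapSet s * spLevi A = spLevi A * swapSet s := by
  have hi : ind s * A⁻¹.1 = ind s := by
    nth_rewrite 1 [← h]; rw [Matrix.mul_assoc, Units.mul_inv, Matrix.mul_one]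
  have hi' : A⁻¹.1 * ind s = ind s := by
    nth_rewrite 1 [← h']; rw [← Matrix.mul_assoc, Units.inv_mul, Matrix.one_mul]
  have t1 : A⁻¹.1ᵀ * ind s = ind s := by
    simpa [Matrix.transpose_mul] using congrArg Matrix.transpose hi
  have t2 : ind s * A⁻¹.1ᵀ = ind s := by
    simpa [Matrix.transpose_mul] using congrArg Matrix.transpose hi'
  obtain ⟨ea, eb, ec, ed⟩ := blk_mul (swapSet s) (spLevi A)
  obtain ⟨fa, fb, fc, fd⟩ := blk_mul (spLevi A) (swapSet s)
  refine spGL_ext_blk ?_ ?_ ?_ ?_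
  all_goals
    simp only [ea, eb, ec, ed, fa, fb, fc, fd, blkA_swapSet, blkB_swapSet, blkC_swapSet,
      blkD_swapSet, blkA_spLevi, blkB_spLevi, blkC_spLevi, blkD_spLevi, Matrix.sub_mul,
      Matrix.mul_sub, Matrix.one_mul, Matrix.mul_one, Matrix.mul_zero, Matrix.zero_mul, add_zero,
      zero_add, sub_zero, sub_self, Matrix.neg_mul, Matrix.mul_neg, neg_zero, h, h', t1, t2]

/-- `1 + t E_ab`, `a ≠ b`. -/
def tv {a b : Fin n} (h : a ≠ b) (t : F) : GL (Fin n) F where
  val := Matrix.transvection a b t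
  inv := Matrix.transvection a b (-t)
  val_inv := by rw [Matrix.transvection_mul_transvection_same _ _ h, add_neg_cancel,
    Matrix.transvection_zero]
  inv_val := by rw [Matrix.transvection_mul_transvection_same _ _ h, neg_add_cancel,
    Matrix.transvection_zero]

theorem tv_val {a b : Fin n} (h : a ≠ b) (t : F) :
    (tv h t).1 = 1 + Matrix.single a b t := rfl

theorem tv_inv_val {a b : Fin n} (h : a ≠ b) (t : F) :
    ((tv h t)⁻¹).1 = 1 + Matrix.single a b (-t) := rfl

theorem ind_mul_single (s : Finset (Fin n)) (a b : Fin n) (t : F) :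
    ind s * Matrix.single a b t = if a ∈ s then Matrix.single a b t else 0 := by
  ext i l
  rw [ind_apply_mul]
  by_cases hi : a = i
  · subst hi; split_ifs <;> simp
  · rw [Matrix.single_apply_of_row_ne hi]
    split_ifs <;> simp [Matrix.single_apply_of_row_ne hi]

theorem single_mul_ind (s : Finset (Fin n)) (a b : Fin n) (t : F) :
    Matrix.single a b t * ind s = if b ∈ s then Matrix.single a b t else 0 := by
  have := congrArg Matrix.transpose (ind_mul_single (F := F) s b a t)
  rw [Matrix.transpose_mul, Matrix.transpose_single, ind_transpose] at this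
  rw [this]
  split_ifs <;> simp [Matrix.transpose_single]

/-- The symmetric matrix `t (E_ab + E_ba)`. -/
def pairMat (a b : Fin n) (t : F) : Matrix (Fin n) (Fin n) F :=
  Matrix.single a b t + Matrix.single b a t

theorem isSymm_pairMat (a b : Fin n) (t : F) : (pairMat a b t).IsSymm := by
  rw [Matrix.IsSymm, pairMat, Matrix.transpose_add, Matrix.transpose_single,
    Matrix.transpose_single, add_comm]

/-- Conjugation of a short Siegel root element by a swap. -/
theorem swap_pair {a k : Fin n} (h : a ≠ k) (t : F) :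
    swapSet {k} * spSiegel (pairMat a k t) (isSymm_pairMat a k t) =
      spLevi (tv h (-t)) * swapSet {k} := by
  obtain ⟨ea, eb, ec, ed⟩ := blk_mul (swapSet {k}) (spSiegel _ (isSymm_pairMat a k t))
  obtain ⟨fa, fb, fc, fd⟩ := blk_mul (spLevi (tv h (-t))) (swapSet (F := F) {k})
  have ha : a ∉ ({k} : Finset (Fin n)) := by simpa using h
  refine spGL_ext_blk ?_ ?_ ?_ ?_
  all_goals
    simp only [ea, eb, ec, ed, fa, fb, fc, fd, blkA_swapSet, blkB_swapSet, blkC_swapSet,
      blkD_swapSet, blkA_spLevi, blkB_spLevi, blkC_spLevi, blkD_spLevi, blkA_spSiegel,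
      blkB_spSiegel, blkC_spSiegel, blkD_spSiegel, tv_val, tv_inv_val]
    simp [Matrix.sub_mul, Matrix.mul_sub, pairMat, Matrix.mul_add, Matrix.add_mul, ind_mul_single,
      single_mul_ind, ha, ← Matrix.single_neg, Matrix.transpose_single]
  all_goals abel

/-- The braid relation. -/
theorem swap_braid (k : Fin n) :
    spSiegel (ind (F := F) {k}) (isSymm_ind _) * swapSet {k} *
        (spSiegel (ind {k}) (isSymm_ind _) * swapSet {k}) =
      swapSet {k} * spSiegel (-ind {k}) (isSymm_ind _).neg := by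
  set u : Cfsg.spGL n F := spSiegel (ind {k}) (isSymm_ind _)
  obtain ⟨ea, eb, ec, ed⟩ := blk_mul u (swapSet {k})
  obtain ⟨fa, fb, fc, fd⟩ :=
    blk_mul (swapSet {k}) (spSiegel (-ind (F := F) {k}) (isSymm_ind _).neg)
  obtain ⟨ga, gb, gc, gd⟩ := blk_mul (u * swapSet {k}) (u * swapSet {k})
  refine spGL_ext_blk ?_ ?_ ?_ ?_
  all_goals simp [u, ga, gb, gc, gd, ea, eb, ec, ed, fa, fb, fc, fd, Matrix.sub_mul,
    Matrix.mul_sub, Matrix.mul_add, Matrix.add_mul]
  all_goals abel

theorem one_add_smul_ind_mul (k : Fin n) (a b : F) :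
    (1 + a • ind (F := F) {k}) * (1 + b • ind {k}) = 1 + (a + b + a * b) • ind {k} := by
  simp only [Matrix.mul_add, Matrix.add_mul, Matrix.smul_mul, Matrix.mul_smul, Matrix.one_mul,
    Matrix.mul_one, ind_mul_self, smul_smul]
  module

/-- The diagonal element with `t` at `k`. -/
def dgl (k : Fin n) {t : F} (ht : t ≠ 0) : GL (Fin n) F where
  val := 1 + (t - 1) • ind {k}
  inv := 1 + (t⁻¹ - 1) • ind {k}
  val_inv := by
    rw [one_add_smul_ind_mul, show t - 1 + (t⁻¹ - 1) + (t - 1) * (t⁻¹ - 1) = 0 by field_simp; ring,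
      zero_smul, add_zero]
  inv_val := by
    rw [one_add_smul_ind_mul, show t⁻¹ - 1 + (t - 1) + (t⁻¹ - 1) * (t - 1) = 0 by field_simp; ring,
      zero_smul, add_zero]

theorem dgl_val (k : Fin n) {t : F} (ht : t ≠ 0) : (dgl k ht).1 = 1 + (t - 1) • ind {k} := rfl

theorem dgl_inv_val (k : Fin n) {t : F} (ht : t ≠ 0) :
    ((dgl k ht)⁻¹).1 = 1 + (t⁻¹ - 1) • ind {k} := rfl

/-- The torus relation. -/
theorem swap_torus (k : Fin n) {t : F} (ht : t ≠ 0) :
    spSiegel (t • ind {k}) ((isSymm_ind _).smul t) * swapSet {k} *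
        spSiegel (t⁻¹ • ind {k}) ((isSymm_ind _).smul t⁻¹) * (swapSet {k})⁻¹ *
        spSiegel (t • ind {k}) ((isSymm_ind _).smul t) * swapSet {k} =
      spLevi (dgl k ht) := by
  set u : Cfsg.spGL n F := spSiegel (t • ind {k}) ((isSymm_ind _).smul t)
  set u' : Cfsg.spGL n F := spSiegel (t⁻¹ • ind {k}) ((isSymm_ind _).smul t⁻¹)
  set w : Cfsg.spGL n F := swapSet {k}
  suffices h : u * w * u' * w = spLevi (dgl k ht) * (w⁻¹ * u⁻¹ * w * w) by
    have h' : spLevi (dgl k ht) = (u * w * u' * w) * (w⁻¹ * u⁻¹ * w * w)⁻¹ := by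
      rw [h, mul_inv_cancel_right]
    rw [h']
    group
  have hw : w * w = spLevi (dgl k (t := -1) (by simp)) := by
    obtain ⟨ea, eb, ec, ed⟩ := blk_mul w w
    refine spGL_ext_blk ?_ ?_ ?_ ?_
    all_goals
      simp only [w, ea, eb, ec, ed, blkA_swapSet, blkB_swapSet, blkC_swapSet, blkD_swapSet,
        blkA_spLevi, blkB_spLevi, blkC_spLevi, blkD_spLevi, dgl_val, dgl_inv_val]
      simp [Matrix.sub_mul, Matrix.mul_sub, Matrix.transpose_smul, sub_smul]
    all_goals norm_num
    all_goals module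
  have hwi : w⁻¹ = w * spLevi (dgl k (t := -1) (by simp)) := by
    refine inv_eq_of_mul_eq_one_left ?_
    rw [mul_assoc]
    have e : spLevi (dgl k (t := (-1 : F)) (by simp)) * w =
        w * spLevi (dgl k (t := (-1 : F)) (by simp)) := by
      rw [← hw, mul_assoc]
    rw [e, ← mul_assoc, hw, ← map_mul, ← map_one spLevi]
    congr 1
    ext1
    rw [Units.val_mul, dgl_val, Units.val_one, one_add_smul_ind_mul,
      show (-1 : F) - 1 + (-1 - 1) + (-1 - 1) * (-1 - 1) = 0 by ring, zero_smul, add_zero]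
  rw [hwi, mul_assoc _ w w, hw, show u⁻¹ = spSiegel (-(t • ind {k}))
    (Matrix.IsSymm.neg ((isSymm_ind _).smul t)) from spSiegel_inv _]
  set h1 : Cfsg.spGL n F := spLevi (dgl k (t := -1) (by simp))
  set v : Cfsg.spGL n F := spSiegel (-(t • ind {k}))
    (Matrix.IsSymm.neg ((isSymm_ind _).smul t))
  obtain ⟨a1, b1, c1, d1⟩ := blk_mul u w
  obtain ⟨a2, b2, c2, d2⟩ := blk_mul (u * w) u'
  obtain ⟨a3, b3, c3, d3⟩ := blk_mul (u * w * u') w
  obtain ⟨p1, q1, r1, s1⟩ := blk_mul w h1
  obtain ⟨p2, q2, r2, s2⟩ := blk_mul (w * h1) v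
  obtain ⟨p3, q3, r3, s3⟩ := blk_mul (w * h1 * v) h1
  obtain ⟨p4, q4, r4, s4⟩ := blk_mul (spLevi (dgl k ht)) (w * h1 * v * h1)
  refine spGL_ext_blk ?_ ?_ ?_ ?_
  all_goals
    simp only [u, u', w, h1, v, a1, b1, c1, d1, a2, b2, c2, d2, a3, b3, c3, d3, p1, q1, r1, s1,
      p2, q2, r2, s2, p3, q3, r3, s3, p4, q4, r4, s4, blkA_swapSet, blkB_swapSet, blkC_swapSet,
      blkD_swapSet, blkA_spLevi, blkB_spLevi, blkC_spLevi, blkD_spLevi, blkA_spSiegel,
      blkB_spSiegel, blkC_spSiegel, blkD_spSiegel, dgl_val, dgl_inv_val, Matrix.transpose_add,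
      Matrix.transpose_one, Matrix.transpose_smul, ind_transpose, Matrix.sub_mul, Matrix.mul_sub,
      Matrix.mul_add, Matrix.add_mul, Matrix.smul_mul, Matrix.mul_smul, Matrix.neg_mul,
      Matrix.mul_neg, Matrix.one_mul, Matrix.mul_one, Matrix.mul_zero, Matrix.zero_mul,
      ind_mul_self, smul_smul, smul_add, smul_sub, smul_neg, smul_zero, add_zero, zero_add,
      neg_zero, sub_zero, inv_neg, inv_one, neg_neg]
  all_goals (match_scalars <;> field_simp <;> ring)

/-- Row-`s` normal form: Levi, Siegel, swap, Levi, Siegel. -/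
theorem exists_swap_decomp (g : Cfsg.spGL n F) :
    ∃ (s : Finset (Fin n)) (A A' : GL (Fin n) F) (B B' : Matrix (Fin n) (Fin n) F)
      (hB : B.IsSymm) (hB' : B'.IsSymm),
      g = spLevi A * spSiegel B hB * swapSet s * (spLevi A' * spSiegel B' hB') := by
  classical
  obtain ⟨L, L', D, hD⟩ :=
    Matrix.Pivot.exists_list_transvec_mul_mul_list_transvec_eq_diagonal (blkC g)
  set P := (L.map Matrix.TransvectionStruct.toMatrix).prod
  set R := (L'.map Matrix.TransvectionStruct.toMatrix).prod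
  have hP : P.det ≠ 0 := by simp [P]
  have hR : R.det ≠ 0 := by simp [R]
  let Pu := Matrix.GeneralLinearGroup.mkOfDetNeZero P hP
  let Ru := Matrix.GeneralLinearGroup.mkOfDetNeZero R hR
  let Pt : GL (Fin n) F := ⟨Pu.1ᵀ, Pu⁻¹.1ᵀ,
    by rw [← Matrix.transpose_mul, Units.inv_mul, Matrix.transpose_one],
    by rw [← Matrix.transpose_mul, Units.mul_inv, Matrix.transpose_one]⟩
  set g₁ := spLevi Pt⁻¹ * g * spLevi Ru with hg₁
  have hC₁ : blkC g₁ = Matrix.diagonal D := by
    rw [hg₁, (blk_mul _ _).2.2.1, (blk_mul _ _).2.2.1]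
    simp only [blkC_spLevi, blkA_spLevi, Matrix.zero_mul, zero_add, blkD_spLevi, inv_inv,
      Matrix.mul_zero, add_zero]
    rw [show (Pt.1)ᵀ = P by simp [Pt, Pu], show Ru.1 = R by simp [Ru]]
    exact hD
  set s := Finset.univ.filter fun i => D i ≠ 0 with hs
  set Bm : Matrix (Fin n) (Fin n) F := Matrix.of fun a b =>
    if b ∈ s then -(blkA g₁ a b) / D b else if a ∈ s then -(blkA g₁ b a) / D a else 0 with hBm
  obtain ⟨r1, -, -⟩ := spGL_blk_rel g₁
  rw [hC₁, Matrix.diagonal_transpose] at r1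
  have hsym : ∀ a b, blkA g₁ b a * D b = D a * blkA g₁ a b := fun a b => by
    have := congrFun (congrFun r1 a) b
    rwa [Matrix.mul_diagonal, Matrix.diagonal_mul, Matrix.transpose_apply] at this
  have hB : Bm.IsSymm := Matrix.ext fun a b => by
    simp only [hBm, Matrix.transpose_apply, Matrix.of_apply]
    by_cases ha : a ∈ s <;> by_cases hb : b ∈ s <;> simp only [ha, hb, if_true, if_false]
    have h1 : D a ≠ 0 := (Finset.mem_filter.1 ha).2
    have h2 : D b ≠ 0 := (Finset.mem_filter.1 hb).2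
    field_simp
    linear_combination -hsym a b
  set g₂ := spSiegel Bm hB * g₁ with hg₂
  have hC₂ : blkC g₂ = Matrix.diagonal D := by
    rw [hg₂, (blk_mul _ _).2.2.1]
    simp [hC₁]
  have hA₂ : ∀ a b, a ∈ s → blkA g₂ a b = 0 := by
    intro a b ha
    have hDa : D a ≠ 0 := (Finset.mem_filter.1 ha).2
    have he : blkA g₂ a b = blkA g₁ a b + Bm a b * D b := by
      rw [hg₂, (blk_mul _ _).1, blkA_spSiegel, blkB_spSiegel, hC₁, Matrix.one_mul,
        Matrix.add_apply, Matrix.mul_diagonal]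
    rw [he, hBm, Matrix.of_apply]
    by_cases hb : b ∈ s
    · have hDb : D b ≠ 0 := (Finset.mem_filter.1 hb).2
      rw [if_pos hb]
      field_simp
      ring
    · have hDb : D b = 0 := by simpa [hs] using hb
      have := hsym a b
      rw [hDb, mul_zero] at this
      rw [hDb, mul_zero, add_zero]
      exact (mul_eq_zero.1 this.symm).resolve_left hDa
  set g₃ := (swapSet s)⁻¹ * g₂ with hg₃
  have hC₃ : blkC g₃ = 0 := by
    have hinv : (swapSet (F := F) s)⁻¹ = spOfBlocks (1 - ind s) (ind s) (-ind s) (1 - ind s)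
        (by simp [Matrix.sub_mul, Matrix.mul_sub]) (by simp [Matrix.sub_mul, Matrix.mul_sub])
        (by simp [Matrix.sub_mul, Matrix.mul_sub]) := by
      refine inv_eq_of_mul_eq_one_right ?_
      obtain ⟨ea, eb, ec, ed⟩ := blk_mul (swapSet (F := F) s)
        (spOfBlocks (1 - ind s) (ind s) (-ind s) (1 - ind s)
          (by simp [Matrix.sub_mul, Matrix.mul_sub]) (by simp [Matrix.sub_mul, Matrix.mul_sub])
          (by simp [Matrix.sub_mul, Matrix.mul_sub]))
      obtain ⟨p, q, r, t⟩ := blk_spOfBlocks (A := 1 - ind (F := F) s) (B := ind s) (C := -ind s)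
        (D := 1 - ind s) (by simp [Matrix.sub_mul, Matrix.mul_sub])
        (by simp [Matrix.sub_mul, Matrix.mul_sub]) (by simp [Matrix.sub_mul, Matrix.mul_sub])
      refine spGL_ext_blk ?_ ?_ ?_ ?_
      all_goals simp [ea, eb, ec, ed, p, q, r, t, blk_one.1, blk_one.2.1, blk_one.2.2.1,
        blk_one.2.2.2, Matrix.sub_mul, Matrix.mul_sub]
    rw [hg₃, (blk_mul _ _).2.2.1, hinv, (blk_spOfBlocks ..).2.2.1, (blk_spOfBlocks ..).2.2.2, hC₂]
    ext a b
    simp only [Matrix.add_apply, Matrix.neg_mul, Matrix.neg_apply, Matrix.sub_mul, Matrix.one_mul,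
      Matrix.sub_apply, ind_apply_mul, Matrix.zero_apply]
    by_cases ha : a ∈ s
    · simp [ha, hA₂ a b ha]
    · have : D a = 0 := by simpa [hs] using ha
      rcases eq_or_ne a b with rfl | hab <;> simp [*]
  obtain ⟨A₃, B₃, hB₃, -, h₃⟩ := exists_spLevi_mul_spSiegel g₃ hC₃
  refine ⟨s, Pt, A₃ * Ru⁻¹, -Bm, Ru.1 * B₃ * Ru.1ᵀ, hB.neg, isSymm_congr hB₃ _, ?_⟩
  rw [← spSiegel_inv hB, map_mul, ← spLevi_conj_spSiegel Ru hB₃, map_inv]
  have h₃' : spLevi A₃ * spSiegel B₃ hB₃ =
      (swapSet s)⁻¹ * (spSiegel Bm hB * (spLevi Pt⁻¹ * g * spLevi Ru)) := h₃.symm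
  calc g = spLevi Pt * (spSiegel Bm hB)⁻¹ * swapSet s *
        ((swapSet s)⁻¹ * (spSiegel Bm hB * (spLevi Pt⁻¹ * g * spLevi Ru))) * (spLevi Ru)⁻¹ := by
          rw [map_inv]; group
    _ = _ := by rw [← h₃']; group

end Cfsg.Agent.SpWeil
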