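import Cfsg.Agent.Lib.SpWeil.Swap

/-!
# Weight spaces of the Siegel radical
* `proj ρ ψ S`, `projSet`, `IsWt`, `IsEig` : weights and the diagonal root subgroups
* `RankOne ρ ψ` : all weights have rank at most one
-/

set_option autoImplicit false

open Matrix

namespace Cfsg.Agent.SpWeil

open Cfsg.Agent.Linear

variable {n : ℕ} {F : Type*} [Field F] [Fintype F]

noncomputable local instance : Fintype (symMat n F) := Fintype.ofFinite _

variable {W : Type*} [AddCommGroup W] [Module ℂ W] {U : Type*} [AddCommGroup U] [Module ℂ U]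

/-- The weight vectors. -/
def IsWt (ρ : Representation ℂ (Cfsg.spGL n F) W) (ψ : AddChar F ℂ) (S : symMat n F) (v : W) :
    Prop :=
  ∀ B : symMat n F, ρ (sieg B) v = symChar ψ S B • v

/-- The projection on a weight space. -/
noncomputable def proj (ρ : Representation ℂ (Cfsg.spGL n F) W) (ψ : AddChar F ℂ)
    (S : symMat n F) : W →ₗ[ℂ] W :=
  (Fintype.card (symMat n F) : ℂ)⁻¹ • ∑ B, symChar ψ S (-B) • ρ (sieg B)

variable {ρ : Representation ℂ (Cfsg.spGL n F) W} {σ : Representation ℂ (Cfsg.spGL n F) U}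
  {ψ : AddChar F ℂ}

theorem sieg_comm (B C : symMat n F) : sieg B * sieg C = sieg C * sieg B := by
  rw [sieg_mul, sieg_mul, add_comm]

omit [Fintype F] in
theorem rho_apply_mul (ρ : Representation ℂ (Cfsg.spGL n F) W) (g h : Cfsg.spGL n F) (v : W) :
    ρ (g * h) v = ρ g (ρ h v) := by rw [map_mul, Module.End.mul_apply]

omit [Fintype F] in
theorem rho_inv_cancel (ρ : Representation ℂ (Cfsg.spGL n F) W) (g : Cfsg.spGL n F) (v : W) :
    ρ g⁻¹ (ρ g v) = v := by
  rw [← rho_apply_mul, inv_mul_cancel, map_one, Module.End.one_apply]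

theorem isWt_proj (S : symMat n F) (v : W) : IsWt ρ ψ S (proj ρ ψ S v) := by
  intro C
  simp only [proj, LinearMap.smul_apply, LinearMap.sum_apply, map_smul, map_sum, smul_smul,
    ← rho_apply_mul, sieg_mul, Finset.smul_sum]
  refine Fintype.sum_equiv (Equiv.addLeft C) _ _ fun B => ?_
  simp only [Equiv.coe_addLeft]
  rw [mul_left_comm, ← AddChar.map_add_eq_mul, show C + -(C + B) = -B by abel]

/-- A Siegel eigenvector has only weights with that eigenvalue. -/
theorem proj_eq_zero_of_eigen {S : symMat n F} {B : symMat n F} {a : ℂ} {v : W}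
    (h : ρ (sieg B) v = a • v) (ha : symChar ψ S B ≠ a) : proj ρ ψ S v = 0 := by
  have h1 : proj ρ ψ S (ρ (sieg B) v) = ρ (sieg B) (proj ρ ψ S v) := by
    simp only [proj, LinearMap.smul_apply, LinearMap.sum_apply, map_smul, map_sum,
      ← rho_apply_mul, sieg_comm]
  rw [h, map_smul, isWt_proj S v B] at h1
  by_contra h0
  exact ha (smul_left_injective ℂ h0 h1.symm)

theorem sum_proj (h2 : (2 : F) ≠ 0) (hψ : ψ ≠ 1) (v : W) : ∑ S, proj ρ ψ S v = v := by
  classical
  simp only [proj, LinearMap.smul_apply, LinearMap.sum_apply, ← Finset.smul_sum]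
  rw [Finset.sum_comm]
  simp_rw [← Finset.sum_smul, fun B S => symChar_comm ψ S (-B), sum_symChar h2 hψ, neg_eq_zero,
    ite_smul, zero_smul]
  rw [Finset.sum_ite_eq' Finset.univ (0 : symMat n F), if_pos (Finset.mem_univ _), smul_smul,
    inv_mul_cancel₀ (Nat.cast_ne_zero.2 Fintype.card_ne_zero), one_smul, sieg_zero, map_one,
    Module.End.one_apply]

theorem proj_of_isWt {S : symMat n F} {v : W} (h : IsWt ρ ψ S v) : proj ρ ψ S v = v := by
  simp only [proj, LinearMap.smul_apply, LinearMap.sum_apply, h _, smul_smul,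
    ← AddChar.map_add_eq_mul, neg_add_cancel, AddChar.map_zero_eq_one, one_smul,
    Finset.sum_const, Finset.card_univ, ← Nat.cast_smul_eq_nsmul ℂ]
  rw [inv_mul_cancel₀ (Nat.cast_ne_zero.2 Fintype.card_ne_zero), one_smul]

theorem symChar_injective (h2 : (2 : F) ≠ 0) (hψ : ψ ≠ 1) {S T : symMat n F}
    (h : ∀ B, symChar ψ S B = symChar ψ T B) : S = T := by
  by_contra hne
  refine symChar_ne_one h2 hψ (sub_ne_zero.2 hne) (DFunLike.ext _ _ fun B => ?_)
  rw [symChar_sub, h, ← AddChar.map_add_eq_mul, add_neg_cancel, AddChar.map_zero_eq_one,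
    AddChar.one_apply]

theorem proj_of_ne (h2 : (2 : F) ≠ 0) (hψ : ψ ≠ 1) {S T : symMat n F} {v : W}
    (h : IsWt ρ ψ S v) (hne : T ≠ S) : proj ρ ψ T v = 0 := by
  by_contra h0
  exact hne (symChar_injective h2 hψ fun B => by_contra fun hB => h0
    (proj_eq_zero_of_eigen (h B) hB))

/-- The action of a Levi element on weights. -/
def act (A : GL (Fin n) F) (S : symMat n F) : symMat n F := congrMat A⁻¹.1ᵀ S

omit [Fintype F] in
theorem act_val (A : GL (Fin n) F) (S : symMat n F) :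
    (act A S).1 = A⁻¹.1ᵀ * S.1 * A⁻¹.1 := by
  simp [act, congrMat]

omit [Fintype F] in
theorem act_mul (A A' : GL (Fin n) F) (S : symMat n F) : act (A * A') S = act A (act A' S) := by
  refine Subtype.ext ?_
  simp only [act_val, _root_.mul_inv_rev, Units.val_mul, Matrix.transpose_mul, Matrix.mul_assoc]

omit [Fintype F] in
theorem act_one (S : symMat n F) : act 1 S = S := Subtype.ext (by simp [act_val])

omit [Fintype F] in
theorem act_inv_cancel (A : GL (Fin n) F) (S : symMat n F) : act A⁻¹ (act A S) = S := by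
  rw [← act_mul, inv_mul_cancel, act_one]

omit [Fintype F] in
theorem act_cancel_inv (A : GL (Fin n) F) (S : symMat n F) : act A (act A⁻¹ S) = S := by
  rw [← act_mul, mul_inv_cancel, act_one]

omit [Fintype F] in
theorem sieg_mul_levi (A : GL (Fin n) F) (B : symMat n F) :
    sieg B * spLevi A = spLevi A * sieg (congrMat A⁻¹.1 B) := by
  rw [← spLevi_conj_sieg A⁻¹ B, map_inv]
  group

theorem isWt_levi {S : symMat n F} {v : W} (h : IsWt ρ ψ S v) (A : GL (Fin n) F) :
    IsWt ρ ψ (act A S) (ρ (spLevi A) v) := by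
  intro B
  rw [← rho_apply_mul, sieg_mul_levi, rho_apply_mul, h, map_smul]
  congr 1
  simp only [symChar_apply, act, congrMat, Matrix.transpose_transpose]
  congr 1
  rw [← Matrix.mul_assoc, ← Matrix.mul_assoc, Matrix.trace_mul_comm, ← Matrix.mul_assoc,
    ← Matrix.mul_assoc]

theorem proj_levi (h2 : (2 : F) ≠ 0) (hψ : ψ ≠ 1) (A : GL (Fin n) F) (S : symMat n F) (v : W) :
    proj ρ ψ (act A S) (ρ (spLevi A) v) = ρ (spLevi A) (proj ρ ψ S v) := by
  classical
  conv_lhs => rw [← sum_proj (ρ := ρ) h2 hψ v, map_sum, map_sum]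
  rw [Finset.sum_eq_single S (fun T _ hT => proj_of_ne h2 hψ (isWt_levi (isWt_proj T v) A)
    fun e => hT (by rw [← act_inv_cancel A T, ← e, act_inv_cancel])) (by simp)]
  exact proj_of_isWt (isWt_levi (isWt_proj S v) A)

/-- The sum of the projections on a set of weights. -/
noncomputable def projSet (ρ : Representation ℂ (Cfsg.spGL n F) W) (ψ : AddChar F ℂ)
    (A : Set (symMat n F)) : W →ₗ[ℂ] W :=
  open scoped Classical in ∑ S ∈ Finset.univ.filter (· ∈ A), proj ρ ψ S

theorem projSet_apply (A : Set (symMat n F)) [DecidablePred (· ∈ A)] (v : W) :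
    projSet ρ ψ A v = ∑ S, if S ∈ A then proj ρ ψ S v else 0 := by
  rw [projSet, LinearMap.sum_apply, Finset.sum_filter]
  exact Finset.sum_congr rfl fun S _ => by split_ifs <;> rfl

theorem projSet_of_isWt (h2 : (2 : F) ≠ 0) (hψ : ψ ≠ 1) (A : Set (symMat n F))
    [DecidablePred (· ∈ A)] {S : symMat n F} {v : W} (h : IsWt ρ ψ S v) :
    projSet ρ ψ A v = if S ∈ A then v else 0 := by
  rw [projSet_apply, Finset.sum_eq_single S (fun T _ hT => by
    simp [proj_of_ne h2 hψ h hT]) (by simp), proj_of_isWt h]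

/-- Weight vectors with support in a set are fixed by its projection. -/
theorem projSet_eq_self (h2 : (2 : F) ≠ 0) (hψ : ψ ≠ 1) (A : Set (symMat n F)) {v : W}
    (h : ∀ S, proj ρ ψ S v ≠ 0 → S ∈ A) : projSet ρ ψ A v = v := by
  classical
  conv_rhs => rw [← sum_proj h2 hψ (ρ := ρ) v]
  rw [projSet_apply]
  refine Finset.sum_congr rfl fun S _ => ?_
  split_ifs with hS
  · rfl
  · by_contra h0; exact hS (h S (Ne.symm h0))

theorem proj_projSet (h2 : (2 : F) ≠ 0) (hψ : ψ ≠ 1) (A : Set (symMat n F))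
    [DecidablePred (· ∈ A)] (S : symMat n F) (v : W) :
    proj ρ ψ S (projSet ρ ψ A v) = if S ∈ A then proj ρ ψ S v else 0 := by
  rw [projSet_apply, map_sum, Finset.sum_eq_single S (fun T _ hT => by
    split_ifs
    · exact proj_of_ne h2 hψ (isWt_proj T v) (Ne.symm hT)
    · exact map_zero _) (by simp)]
  split_ifs
  · exact proj_of_isWt (isWt_proj S v)
  · exact map_zero _

theorem projSet_levi (h2 : (2 : F) ≠ 0) (hψ : ψ ≠ 1) (A : Set (symMat n F)) (M : GL (Fin n) F)
    (hA : ∀ S, act M S ∈ A ↔ S ∈ A) (v : W) :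
    projSet ρ ψ A (ρ (spLevi M) v) = ρ (spLevi M) (projSet ρ ψ A v) := by
  classical
  conv_lhs => rw [← sum_proj h2 hψ (ρ := ρ) v, map_sum, map_sum]
  rw [projSet_apply, map_sum]
  refine Finset.sum_congr rfl fun S _ => ?_
  rw [projSet_of_isWt h2 hψ A (isWt_levi (isWt_proj S v) M)]
  simp only [hA]
  split_ifs <;> simp

/-- Maps compatible with the Siegel radical respect projections. -/
theorem proj_map {X : W →ₗ[ℂ] U} (hX : ∀ B v, X (ρ (sieg B) v) = σ (sieg B) (X v))
    (S : symMat n F) (v : W) : proj σ ψ S (X v) = X (proj ρ ψ S v) := by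
  simp only [proj, LinearMap.smul_apply, LinearMap.sum_apply, map_smul, map_sum, hX]

theorem projSet_map {X : W →ₗ[ℂ] U} (hX : ∀ B v, X (ρ (sieg B) v) = σ (sieg B) (X v))
    (A : Set (symMat n F)) (v : W) : projSet σ ψ A (X v) = X (projSet ρ ψ A v) := by
  classical
  simp only [projSet_apply, map_sum]
  exact Finset.sum_congr rfl fun S _ => by split_ifs <;> simp [proj_map hX]

omit [Fintype F] in
theorem commute_sieg_of_levi (B : symMat n F) (A : GL (Fin n) F) (v : W) :
    ρ (sieg B) (ρ (spLevi A) v) = ρ (spLevi A) (ρ (sieg (congrMat A⁻¹.1 B)) v) := by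
  rw [← rho_apply_mul, sieg_mul_levi, rho_apply_mul]

/-- A Siegel-compatible map is detected on weight vectors. -/
theorem ext_of_wt (h2 : (2 : F) ≠ 0) (hψ : ψ ≠ 1) {X Y : W →ₗ[ℂ] U}
    (h : ∀ S v, IsWt ρ ψ S v → X v = Y v) (v : W) : X v = Y v := by
  rw [← sum_proj h2 hψ (ρ := ρ) v, map_sum, map_sum]
  exact Finset.sum_congr rfl fun S _ => h S _ (isWt_proj S v)

/-! ## Diagonal root subgroups -/

/-- `t E_jj`. -/
def diagMat (j : Fin n) (t : F) : symMat n F := ⟨Matrix.single j j t, isSymm_single j t⟩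

omit [Fintype F] in
theorem symChar_diagMat (S : symMat n F) (j : Fin n) (t : F) :
    symChar ψ S (diagMat j t) = ψ (S.1 j j * t) := by
  simp [symChar_apply, diagMat, Matrix.trace_mul_single]

omit [Fintype F] in
theorem symChar_pairMat (S : symMat n F) (a b : Fin n) (t : F) :
    symChar ψ S ⟨pairMat a b t, isSymm_pairMat a b t⟩ = ψ (2 * S.1 a b * t) := by
  simp only [symChar_apply, pairMat, Matrix.mul_add, Matrix.trace_add, Matrix.trace_mul_single,
    op_smul_eq_smul, smul_eq_mul, S.2.apply a b]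
  congr 1
  ring

theorem psi_eq_of_forall (hψ : ψ ≠ 1) {a b : F} (h : ∀ t, ψ (a * t) = ψ (b * t)) : a = b := by
  by_contra hne
  obtain ⟨u, hu⟩ := AddChar.ne_one_iff.1 hψ
  refine hu ?_
  have e : u = a * (u / (a - b)) + -(b * (u / (a - b))) := by
    have := sub_ne_zero.2 hne
    field_simp
    ring
  rw [e, AddChar.map_add_eq_mul, h, ← AddChar.map_add_eq_mul, add_neg_cancel,
    AddChar.map_zero_eq_one]

/-- Eigenvectors of the `j`th diagonal root subgroup. -/
def IsEig (ρ : Representation ℂ (Cfsg.spGL n F) W) (ψ : AddChar F ℂ) (j : Fin n) (d : F) (v : W) :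
    Prop :=
  ∀ t, ρ (sieg (diagMat j t)) v = ψ (d * t) • v

theorem IsWt.isEig {S : symMat n F} {v : W} (h : IsWt ρ ψ S v) (j : Fin n) :
    IsEig ρ ψ j (S.1 j j) v := fun t => by rw [h, symChar_diagMat]

theorem IsEig.supp (hψ : ψ ≠ 1) {j : Fin n} {d : F} {v : W} (h : IsEig ρ ψ j d v)
    {S : symMat n F} (hS : proj ρ ψ S v ≠ 0) : S.1 j j = d :=
  psi_eq_of_forall hψ fun t => by
    by_contra hne
    exact hS (proj_eq_zero_of_eigen (h t) (by rwa [symChar_diagMat]))

omit [Fintype F] in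
theorem IsEig.of_commute {j : Fin n} {d : F} {v : W} (h : IsEig ρ ψ j d v) {g : Cfsg.spGL n F}
    (hg : ∀ t, sieg (diagMat j t) * g = g * sieg (diagMat j t)) : IsEig ρ ψ j d (ρ g v) := fun t => by
  rw [← rho_apply_mul, hg, rho_apply_mul, h, map_smul]

omit [Fintype F] in
theorem IsEig.map {j : Fin n} {d : F} {v : W} (h : IsEig ρ ψ j d v) {X : W →ₗ[ℂ] U}
    (hX : ∀ B v, X (ρ (sieg B) v) = σ (sieg B) (X v)) : IsEig σ ψ j d (X v) := fun t => by
  rw [← hX, h, map_smul]

omit [Fintype F] in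
theorem IsEig.sum {ι : Type*} (s : Finset ι) {j : Fin n} {d : F} {v : ι → W}
    (h : ∀ i ∈ s, IsEig ρ ψ j d (v i)) : IsEig ρ ψ j d (∑ i ∈ s, v i) := fun t => by
  rw [map_sum, Finset.smul_sum]
  exact Finset.sum_congr rfl fun i hi => h i hi t

omit [Fintype F] in
theorem IsEig.sub {j : Fin n} {d : F} {v w : W} (h : IsEig ρ ψ j d v) (h' : IsEig ρ ψ j d w) :
    IsEig ρ ψ j d (v - w) := fun t => by rw [map_sub, h, h', smul_sub]

/-! ## Rank one -/

/-- All weights have rank at most one. -/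
def RankOne (ρ : Representation ℂ (Cfsg.spGL n F) W) (ψ : AddChar F ℂ) : Prop :=
  ∀ (S : symMat n F) (v : W), v ≠ 0 → IsWt ρ ψ S v →
    ∀ a b c d : Fin n, S.1 a b * S.1 c d = S.1 a d * S.1 c b

theorem RankOne.supp (h : RankOne ρ ψ) {S : symMat n F} {v : W} (hS : proj ρ ψ S v ≠ 0) :
    ∀ a b c d : Fin n, S.1 a b * S.1 c d = S.1 a d * S.1 c b :=
  h S _ hS (isWt_proj S v)

omit [Fintype F] in
theorem rankOne_ext {S T : symMat n F} (hS : ∀ a b c d : Fin n, S.1 a b * S.1 c d = S.1 a d * S.1 c b)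
    (hT : ∀ a b c d : Fin n, T.1 a b * T.1 c d = T.1 a d * T.1 c b) {j : Fin n}
    (hj : S.1 j j ≠ 0) (hrow : ∀ l, S.1 j l = T.1 j l) : S = T := by
  refine Subtype.ext (Matrix.ext fun a b => mul_right_cancel₀ hj ?_)
  rw [hS a b j j]
  conv_rhs => rw [hrow j, hT a b j j]
  rw [hrow b, S.2.apply j a, T.2.apply j a, hrow a]

omit [Fintype F] in
theorem rankOne_row_zero {S : symMat n F} (hS : ∀ a b c d : Fin n, S.1 a b * S.1 c d = S.1 a d * S.1 c b)
    {i : Fin n} (hi : S.1 i i = 0) (l : Fin n) : S.1 i l = 0 := by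
  have := hS i l l i
  rw [hi, zero_mul, S.2.apply i l] at this
  exact mul_self_eq_zero.1 this

omit [Fintype F] in
theorem rankOne_exists_diag {S : symMat n F}
    (hS : ∀ a b c d : Fin n, S.1 a b * S.1 c d = S.1 a d * S.1 c b) (h0 : S ≠ 0) :
    ∃ j, S.1 j j ≠ 0 := by
  by_contra! h
  exact h0 (Subtype.ext (Matrix.ext fun a b => rankOne_row_zero hS (h a) b))

omit [Fintype F] in
theorem rankOne_eq_diagMat {S : symMat n F}
    (hS : ∀ a b c d : Fin n, S.1 a b * S.1 c d = S.1 a d * S.1 c b) (j : Fin n)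
    (h : ∀ i, i ≠ j → S.1 i i = 0) : S = diagMat j (S.1 j j) := by
  refine Subtype.ext (Matrix.ext fun a b => ?_)
  by_cases ha : a = j
  · by_cases hb : b = j
    · simp [diagMat, ha, hb]
    · simp [diagMat, ha, Matrix.single_apply, Ne.symm hb, ← S.2.apply j b,
        rankOne_row_zero hS (h b hb) j]
  · simp [diagMat, Matrix.single_apply_of_row_ne (Ne.symm ha), rankOne_row_zero hS (h a ha) b]

end Cfsg.Agent.SpWeil
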